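import Cfsg.Agent.Lib.H3.Kernel
import Cfsg.Agent.Lib.H4.Misc2
import Cfsg.Agent.Lib.H4.BrauerPerm

/-!
# Coherence for induction from a TI-set (irreducible case)
-/

set_option autoImplicit false
set_option linter.unusedSectionVars false

open scoped ComplexConjugate

namespace Cfsg.Agent.H3

open Cfsg Cfsg.Agent Subgroup

section ON

variable {G : Type*} [Group G] [Fintype G] {ι : Type*}

theorem irr_cf (χ : IrrCharacter G) : IsClassFunction G (χ : G → ℂ) :=
  IsIrrCharacter_isClassFunction χ.2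

theorem irr_gen (χ : IrrCharacter G) : IsGeneralizedCharacter G (χ : G → ℂ) :=
  IsIrrCharacter_isGeneralized χ.2

theorem irr_self (χ : IrrCharacter G) : classInner (χ : G → ℂ) χ = 1 :=
  IsIrrCharacter_classInner_self χ.2

theorem irr_ne {χ ψ : IrrCharacter G} (h : χ ≠ ψ) : classInner (χ : G → ℂ) ψ = 0 := by
  classical
  rw [classInner_irr, if_neg h]

theorem gen_natCast_smul (n : ℕ) {a : G → ℂ} (ha : IsGeneralizedCharacter G a) :
    IsGeneralizedCharacter G ((n : ℂ) • a) := by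
  simpa using IsGeneralized_intCast_smul (n : ℤ) ha

theorem gen_self_nat {a : G → ℂ} (ha : IsGeneralizedCharacter G a) :
    ∃ n : ℕ, classInner a a = n := by
  rw [H4.classInner_eq_sum_zmult ha ha]
  obtain ⟨n, hn⟩ := Int.eq_ofNat_of_zero_le (Finset.sum_nonneg (s := Finset.univ)
    fun (χ : IrrCharacter G) _ => mul_self_nonneg (H4.zmult a χ))
  exact ⟨n, by rw [hn]; simp⟩

theorem gen_norm_one_apply_one {a : G → ℂ} (ha : IsGeneralizedCharacter G a)
    (h : classInner a a = 1) : a 1 ≠ 0 := by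
  obtain ⟨χ, rfl | rfl⟩ := H4.gen_norm_one ha h
  · exact IsIrrCharacter_apply_one_ne_zero χ.2
  · simpa using IsIrrCharacter_apply_one_ne_zero χ.2

/-- An orthonormal family of generalized characters. -/
structure ON (s : Finset ι) (ν : ι → G → ℂ) : Prop where
  gen : ∀ i ∈ s, IsGeneralizedCharacter G (ν i)
  one : ∀ i ∈ s, classInner (ν i) (ν i) = 1
  orth : ∀ i ∈ s, ∀ j ∈ s, i ≠ j → classInner (ν i) (ν j) = 0

theorem ON.mono {s t : Finset ι} {ν : ι → G → ℂ} (h : ON t ν) (hst : s ⊆ t) : ON s ν :=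
  ⟨fun i hi => h.gen i (hst hi), fun i hi => h.one i (hst hi),
    fun i hi j hj => h.orth i (hst hi) j (hst hj)⟩

theorem ON.inner_sum {s : Finset ι} {ν : ι → G → ℂ} (h : ON s ν) (c : ι → ℂ) {j : ι}
    (hj : j ∈ s) : classInner (∑ i ∈ s, c i • ν i) (ν j) = c j := by
  rw [classInner_sum_left, Finset.sum_eq_single_of_mem j hj, classInner_smul_left, h.one j hj,
    mul_one]
  intro i hi hij
  rw [classInner_smul_left, h.orth i hi j hj hij, mul_zero]

/-- Bessel's inequality with integral remainder. -/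
theorem ON.bessel {s : Finset ι} {ν : ι → G → ℂ} (h : ON s ν) {a : G → ℂ}
    (ha : IsGeneralizedCharacter G a) (b : ι → ℤ) (hb : ∀ i ∈ s, classInner a (ν i) = b i) :
    ∃ n : ℕ, classInner a a = ((n + ∑ i ∈ s, b i ^ 2 : ℤ) : ℂ) ∧
      (n = 0 → a = ∑ i ∈ s, (b i : ℂ) • ν i) := by
  obtain ⟨c, hc⟩ : ∃ c, c = ∑ i ∈ s, (b i : ℂ) • ν i := ⟨_, rfl⟩
  have hcg : IsGeneralizedCharacter G c :=
    hc ▸ IsGeneralized_sum s fun i hi => IsGeneralized_intCast_smul _ (h.gen i hi)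
  obtain ⟨n, hn⟩ := gen_self_nat (IsGeneralized_sub ha hcg)
  have h1 : classInner a c = ∑ i ∈ s, (b i : ℂ) ^ 2 := by
    rw [hc, classInner_sum_right]
    refine Finset.sum_congr rfl fun i hi => ?_
    rw [classInner_smul_right, hb i hi, map_intCast, sq]
  have h2 : classInner c c = ∑ i ∈ s, (b i : ℂ) ^ 2 := by
    nth_rewrite 2 [hc]
    rw [classInner_sum_right]
    refine Finset.sum_congr rfl fun i hi => ?_
    rw [classInner_smul_right, hc, h.inner_sum _ hi, map_intCast, sq]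
  refine ⟨n, ?_, fun h0 => ?_⟩
  · rw [classInner_sub_left, classInner_sub_right, classInner_sub_right,
      IsGeneralized_classInner_comm hcg ha, h1, h2] at hn
    push_cast
    linear_combination hn
  · rw [h0, Nat.cast_zero] at hn
    rw [← hc]
    exact sub_eq_zero.1 (classInner_self_eq_zero hn)

/-- Peterfalvi (4.1). -/
theorem orth_of_sub_orth {a a' b b' : G → ℂ} (ha : IsGeneralizedCharacter G a)
    (ha' : IsGeneralizedCharacter G a') (hb : IsGeneralizedCharacter G b)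
    (hb' : IsGeneralizedCharacter G b') (h1 : classInner a a = 1) (h2 : classInner a' a' = 1)
    (h3 : classInner b b = 1) (h4 : classInner b' b' = 1) (h5 : classInner a a' = 0)
    (h6 : classInner b b' = 0) (h7 : a 1 = a' 1) (h8 : b 1 = b' 1)
    (h9 : classInner (a - a') (b - b') = 0) : classInner a b = 0 := by
  classical
  have key : ∀ {c c' : G → ℂ}, IsGeneralizedCharacter G c → IsGeneralizedCharacter G c' →
      classInner c c = 1 → classInner c' c' = 1 → classInner c c' = 0 → c 1 = c' 1 →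
      ∃ α α' : IrrCharacter G, α ≠ α' ∧ ∃ ε : ℂ, ε ≠ 0 ∧ conj ε = ε ∧ c = ε • (α : G → ℂ) ∧
        c' = ε • (α' : G → ℂ) := fun {c c'} hc hc' k1 k2 k3 k4 => by
    obtain ⟨α, hα⟩ := H4.gen_norm_one hc k1
    obtain ⟨α', hα'⟩ := H4.gen_norm_one hc' k2
    obtain ⟨n, hn, hn'⟩ := IsIrrCharacter_apply_one α.2
    obtain ⟨m, hm, hm'⟩ := IsIrrCharacter_apply_one α'.2
    have hne : α ≠ α' := by
      rintro rfl
      rcases hα with rfl | rfl <;> rcases hα' with h | h <;>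
        simp [h, classInner_neg_left, classInner_neg_right, irr_self] at k3
    rcases hα with rfl | rfl <;> rcases hα' with rfl | rfl
    · exact ⟨α, α', hne, 1, one_ne_zero, map_one _, by simp, by simp⟩
    · rw [Pi.neg_apply, hn', hm'] at k4
      have : (n : ℤ) = -m := by exact_mod_cast k4
      omega
    · rw [Pi.neg_apply, hn', hm'] at k4
      have : -(n : ℤ) = m := by exact_mod_cast k4
      omega
    · exact ⟨α, α', hne, -1, by simp, by simp, by simp, by simp⟩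
  obtain ⟨α, α', hα, ε, hε, -, rfl, rfl⟩ := key ha ha' h1 h2 h5 h7
  obtain ⟨β, β', hβ, δ, hδ, hδ', rfl, rfl⟩ := key hb hb' h3 h4 h6 h8
  rw [← smul_sub, ← smul_sub, classInner_smul_left, classInner_smul_right, hδ',
    mul_eq_zero, mul_eq_zero, or_iff_right hε, or_iff_right hδ] at h9
  rw [classInner_smul_left, classInner_smul_right, irr_ne, mul_zero, mul_zero]
  rintro rfl
  simp only [classInner_sub_left, classInner_sub_right, classInner_irr, if_true, if_neg hβ,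
    if_neg hα.symm] at h9
  split_ifs at h9 <;> norm_num at h9

end ON

section Coh

variable {G : Type*} [Group G] [Fintype G] {L : Subgroup G} [Fintype L] {K : Subgroup L}

/-- The degree of an irreducible character. -/
noncomputable abbrev dg {L : Type*} [Group L] (χ : IrrCharacter L) : ℕ := charDegree (χ : L → ℂ)

theorem dg_cast {L : Type*} [Group L] [Fintype L] (χ : IrrCharacter L) :
    (dg χ : ℂ) = (χ : L → ℂ) 1 := irr_charDegree χ

theorem dg_pos {L : Type*} [Group L] [Fintype L] (χ : IrrCharacter L) : 0 < dg χ :=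
  IsIrrCharacter_charDegree_pos χ.2

theorem dg_ne {L : Type*} [Group L] [Fintype L] (χ : IrrCharacter L) : (dg χ : ℂ) ≠ 0 :=
  Nat.cast_ne_zero.2 (dg_pos χ).ne'

theorem dg_conjIrr {L : Type*} [Group L] [Fintype L] (χ : IrrCharacter L) :
    dg (conjIrr χ) = dg χ := by
  have : (dg (conjIrr χ) : ℂ) = dg χ := by
    rw [dg_cast, dg_cast, conjIrr_apply, irr_conj_apply_one]
  exact_mod_cast this

/-- `K^#` is a TI-subset of `G` with normalizer inside `L`. -/
def TIin (L : Subgroup G) (K : Subgroup L) : Prop :=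
  ∀ g : G, g ∉ L → ∀ t ∈ ((K.map L.subtype : Subgroup G) : Set G),
    g * t * g⁻¹ ∈ ((K.map L.subtype : Subgroup G) : Set G) → t = 1

/-- A function vanishing outside `K`. -/
def Off {L : Type*} [Group L] (K : Subgroup L) (a : L → ℂ) : Prop := ∀ x, x ∉ K → a x = 0

theorem Off.sub {L : Type*} [Group L] {K : Subgroup L} {a b : L → ℂ} (ha : Off K a)
    (hb : Off K b) : Off K (a - b) := fun x hx => by simp [ha x hx, hb x hx]

theorem Off.smul {L : Type*} [Group L] {K : Subgroup L} {a : L → ℂ} (c : ℂ) (ha : Off K a) :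
    Off K (c • a) := fun x hx => by simp [ha x hx]

theorem Off.conj {L : Type*} [Group L] [Finite L] {K : Subgroup L} {χ : IrrCharacter L}
    (h : Off K (χ : L → ℂ)) : Off K (conjIrr χ : L → ℂ) := fun x hx => by simp [h x hx]

theorem notMem_map_iff {x : L} :
    (x : G) ∉ ((K.map L.subtype : Subgroup G) : Set G) ↔ x ∉ K := by
  rw [SetLike.mem_coe, not_iff_not]
  exact mem_map_iff_mem L.subtype_injective

theorem TIin.iso (h : TIin L K) {a b : L → ℂ} (hb : IsClassFunction L b) (ha' : Off K a)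
    (hb' : Off K b) (h1 : a 1 = 0) : classInner (indFun L a) (indFun L b) = classInner a b :=
  H4.classInner_indFun_TI L _ h hb (fun x hx => ha' x (notMem_map_iff.1 hx))
    (fun x hx => hb' x (notMem_map_iff.1 hx)) h1

theorem TIin.iso' (h : TIin L K) {a b : L → ℂ} (ha : IsClassFunction L a) (ha' : Off K a)
    (hb' : Off K b) (h1 : b 1 = 0) : classInner (indFun L a) (indFun L b) = classInner a b := by
  rw [← conj_classInner, h.iso ha hb' ha' h1, conj_classInner]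

/-- The degree-zero combination of two characters. -/
noncomputable def dz {L : Type*} [Group L] (χ ψ : IrrCharacter L) : L → ℂ :=
  (dg ψ : ℂ) • (χ : L → ℂ) - (dg χ : ℂ) • (ψ : L → ℂ)

theorem dz_one {L : Type*} [Group L] [Fintype L] (χ ψ : IrrCharacter L) : dz χ ψ 1 = 0 := by
  simp only [dz, Pi.sub_apply, Pi.smul_apply, smul_eq_mul, ← dg_cast]; ring

theorem dz_cf {L : Type*} [Group L] [Fintype L] (χ ψ : IrrCharacter L) :
    IsClassFunction L (dz χ ψ) :=
  IsClassFunction_sub (IsClassFunction_smul _ (irr_cf χ)) (IsClassFunction_smul _ (irr_cf ψ))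

theorem dz_off {L : Type*} [Group L] {K : Subgroup L} {χ ψ : IrrCharacter L}
    (h1 : Off K (χ : L → ℂ)) (h2 : Off K (ψ : L → ℂ)) : Off K (dz χ ψ) :=
  (h1.smul _).sub (h2.smul _)

theorem inner_dz {L : Type*} [Group L] [Fintype L] (a : L → ℂ) (χ ψ : IrrCharacter L) :
    classInner a (dz χ ψ) = dg ψ * classInner a χ - dg χ * classInner a ψ := by
  rw [dz, classInner_sub_right, classInner_smul_right, classInner_smul_right, map_natCast,
    map_natCast]

/-- `ν` is a coherent extension of induction on the family `S`. -/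
structure Coh (L : Subgroup G) (S : Finset (IrrCharacter L)) (ν : IrrCharacter L → G → ℂ) :
    Prop extends ON S ν where
  ind : ∀ χ ∈ S, ∀ ψ ∈ S, indFun L (dz χ ψ) = (dg ψ : ℂ) • ν χ - (dg χ : ℂ) • ν ψ

variable {S : Finset (IrrCharacter L)} {ν : IrrCharacter L → G → ℂ}

theorem Coh.mono {T : Finset (IrrCharacter L)} (h : Coh L T ν) (hst : S ⊆ T) : Coh L S ν :=
  ⟨h.toON.mono hst, fun χ hχ ψ hψ => h.ind χ (hst hχ) ψ (hst hψ)⟩

theorem Coh.of_base (h : ON S ν) (ψ : IrrCharacter L)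
    (hb : ∀ χ ∈ S, indFun L (dz χ ψ) = (dg ψ : ℂ) • ν χ - (dg χ : ℂ) • ν ψ) : Coh L S ν := by
  refine ⟨h, fun φ hφ χ hχ => ?_⟩
  have h1 : (dg ψ : ℂ) • dz φ χ = (dg χ : ℂ) • dz φ ψ - (dg φ : ℂ) • dz χ ψ := by
    simp only [dz]; module
  apply smul_right_injective _ (dg_ne ψ)
  simp only
  rw [← H4.indFun_smul, h1, H4.indFun_sub, H4.indFun_smul, H4.indFun_smul, hb φ hφ, hb χ hχ]
  module

theorem Coh.apply_one (h : Coh L S ν) {χ ψ : IrrCharacter L} (hχ : χ ∈ S) (hψ : ψ ∈ S) :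
    dg ψ * ν χ 1 = dg χ * ν ψ 1 := by
  have := congrFun (h.ind χ hχ ψ hψ) 1
  rw [H4.indFun_one, dz_one, mul_zero] at this
  simp only [Pi.sub_apply, Pi.smul_apply, smul_eq_mul] at this
  linear_combination -this

theorem Coh.inner_ind (h : Coh L S ν) (b : G → ℂ) {χ ψ : IrrCharacter L} (hχ : χ ∈ S)
    (hψ : ψ ∈ S) : classInner b (indFun L (dz χ ψ)) =
      dg ψ * classInner b (ν χ) - dg χ * classInner b (ν ψ) := by
  rw [h.ind χ hχ ψ hψ, classInner_sub_right, classInner_smul_right, classInner_smul_right,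
    map_natCast, map_natCast]

theorem Coh.inner_rel (h : Coh L S ν) (hT : TIin L K) (hS : ∀ χ ∈ S, Off K (χ : L → ℂ))
    {a : L → ℂ} (ha : IsClassFunction L a) (ha' : Off K a) {χ ψ : IrrCharacter L} (hχ : χ ∈ S)
    (hψ : ψ ∈ S) : dg ψ * classInner (indFun L a) (ν χ) - dg χ * classInner (indFun L a) (ν ψ) =
      dg ψ * classInner a χ - dg χ * classInner a ψ := by
  rw [← h.inner_ind _ hχ hψ, hT.iso' ha ha' (dz_off (hS χ hχ) (hS ψ hψ)) (dz_one χ ψ), inner_dz]

theorem Coh.ind_sub (h : Coh L S ν) {χ ψ : IrrCharacter L} (hχ : χ ∈ S) (hψ : ψ ∈ S)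
    (hd : dg χ = dg ψ) : indFun L ((χ : L → ℂ) - ψ) = ν χ - ν ψ := by
  apply smul_right_injective _ (dg_ne ψ)
  have := h.ind χ hχ ψ hψ
  rw [dz, hd, ← smul_sub, ← smul_sub, H4.indFun_smul] at this
  exact this

/-- The combination `χ - k ψ`. -/
noncomputable def dk {L : Type*} [Group L] (χ : IrrCharacter L) (k : ℕ) (ψ : IrrCharacter L) :
    L → ℂ := (χ : L → ℂ) - (k : ℂ) • (ψ : L → ℂ)

theorem dk_gen {L : Type*} [Group L] [Fintype L] (χ : IrrCharacter L) (k : ℕ)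
    (ψ : IrrCharacter L) : IsGeneralizedCharacter L (dk χ k ψ) :=
  IsGeneralized_sub (irr_gen χ) (gen_natCast_smul k (irr_gen ψ))

theorem dk_cf {L : Type*} [Group L] [Fintype L] (χ : IrrCharacter L) (k : ℕ)
    (ψ : IrrCharacter L) : IsClassFunction L (dk χ k ψ) :=
  IsGeneralized_isClassFunction (dk_gen χ k ψ)

theorem dk_off {L : Type*} [Group L] {K : Subgroup L} {χ ψ : IrrCharacter L} (k : ℕ)
    (h1 : Off K (χ : L → ℂ)) (h2 : Off K (ψ : L → ℂ)) : Off K (dk χ k ψ) := h1.sub (h2.smul _)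

theorem dk_one {L : Type*} [Group L] [Fintype L] {χ ψ : IrrCharacter L} {k : ℕ}
    (h : dg χ = k * dg ψ) : dk χ k ψ 1 = 0 := by
  simp only [dk, Pi.sub_apply, Pi.smul_apply, smul_eq_mul, ← dg_cast, h]; push_cast; ring

theorem dk_inner {L : Type*} [Group L] [Fintype L] (χ : IrrCharacter L) (k : ℕ)
    (ψ : IrrCharacter L) (a : L → ℂ) :
    classInner (dk χ k ψ) a = classInner (χ : L → ℂ) a - k * classInner (ψ : L → ℂ) a := by
  rw [dk, classInner_sub_left, classInner_smul_left]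

theorem inner_dk {L : Type*} [Group L] [Fintype L] (χ : IrrCharacter L) (k : ℕ)
    (ψ : IrrCharacter L) (a : L → ℂ) :
    classInner a (dk χ k ψ) = classInner a χ - k * classInner a ψ := by
  rw [dk, classInner_sub_right, classInner_smul_right, map_natCast]

theorem ind_dk_gen (χ : IrrCharacter L) (k : ℕ) (ψ : IrrCharacter L) :
    IsGeneralizedCharacter G (indFun L (dk χ k ψ)) :=
  H4.isGeneralizedCharacter_indFun L (dk_gen χ k ψ)

theorem TIin.dk_norm (hT : TIin L K) {χ χ' ψ : IrrCharacter L} {k k' : ℕ}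
    (h1 : Off K (χ : L → ℂ)) (h1' : Off K (χ' : L → ℂ)) (h2 : Off K (ψ : L → ℂ))
    (hk : dg χ = k * dg ψ) (hne : χ ≠ ψ) (hne' : χ' ≠ ψ) :
    classInner (indFun L (dk χ k ψ)) (indFun L (dk χ' k' ψ)) =
      classInner (χ : L → ℂ) χ' + k * k' := by
  rw [hT.iso (dk_cf _ _ _) (dk_off k h1 h2) (dk_off k' h1' h2) (dk_one hk), dk_inner, inner_dk,
    inner_dk, irr_ne hne, irr_ne hne'.symm, irr_self]
  ring

/-- Gluing new characters onto a coherent family. -/
theorem Coh.glue [DecidableEq (IrrCharacter L)] (h : Coh L S ν) (hT : TIin L K)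
    (hS : ∀ χ ∈ S, Off K (χ : L → ℂ)) {ψ : IrrCharacter L} (hψ : ψ ∈ S)
    (X : Finset (IrrCharacter L)) (hX : ∀ χ ∈ X, Off K (χ : L → ℂ)) (hXS : ∀ χ ∈ X, χ ∉ S)
    (k : IrrCharacter L → ℕ) (hk : ∀ χ ∈ X, dg χ = k χ * dg ψ)
    (hin : ∀ χ ∈ X, classInner (indFun L (dk χ (k χ) ψ)) (ν ψ) = -k χ) :
    ∃ ν', Coh L (S ∪ X) ν' := by
  have hne : ∀ χ ∈ X, ∀ φ ∈ S, χ ≠ φ := fun χ hχ φ hφ e => hXS χ hχ (e ▸ hφ)
  obtain ⟨Γ, hΓ⟩ : ∃ Γ : IrrCharacter L → G → ℂ,
      ∀ χ, Γ χ = indFun L (dk χ (k χ) ψ) + (k χ : ℂ) • ν ψ := ⟨_, fun _ => rfl⟩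
  have hgen : ∀ χ, IsGeneralizedCharacter G (Γ χ) := fun χ =>
    hΓ χ ▸ IsGeneralized_add (ind_dk_gen _ _ _) (gen_natCast_smul _ (h.gen ψ hψ))
  have h1 : ∀ χ ∈ X, ∀ φ ∈ S, classInner (Γ χ) (ν φ) = 0 := fun χ hχ φ hφ => by
    rw [hΓ, classInner_add_left, classInner_smul_left]
    by_cases e : φ = ψ
    · rw [e, hin χ hχ, h.one ψ hψ]; ring
    · have := h.inner_rel hT hS (dk_cf χ (k χ) ψ) (dk_off _ (hX χ hχ) (hS ψ hψ)) hφ hψ
      rw [hin χ hχ, dk_inner, dk_inner, irr_ne (hne χ hχ φ hφ), irr_ne (hne χ hχ ψ hψ),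
        irr_ne (Ne.symm e), irr_self] at this
      rw [h.orth ψ hψ φ hφ (Ne.symm e), mul_zero, add_zero]
      exact mul_left_cancel₀ (dg_ne ψ) (by linear_combination this)
  have h2 : ∀ χ ∈ X, ∀ χ' ∈ X, classInner (Γ χ) (Γ χ') = classInner (χ : L → ℂ) χ' :=
    fun χ hχ χ' hχ' => by
      rw [hΓ χ', classInner_add_right, classInner_smul_right, h1 χ hχ ψ hψ, hΓ,
        classInner_add_left, classInner_smul_left, hT.dk_norm (hX χ hχ) (hX χ' hχ') (hS ψ hψ)
        (hk χ hχ) (hne χ hχ ψ hψ) (hne χ' hχ' ψ hψ),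
        IsGeneralized_classInner_comm (h.gen ψ hψ) (ind_dk_gen _ _ _), hin χ' hχ']
      ring
  refine ⟨fun χ => if χ ∈ S then ν χ else Γ χ, Coh.of_base ⟨fun χ _ => ?_, fun χ hχ => ?_,
    fun χ hχ χ' hχ' e => ?_⟩ ψ fun χ hχ => ?_⟩
  · split_ifs with c
    · exact h.gen χ c
    · exact hgen χ
  · split_ifs with c
    · exact h.one χ c
    · have := (Finset.mem_union.1 hχ).resolve_left c
      rw [h2 χ this χ this, irr_self]
  · split_ifs with c c' c'
    · exact h.orth χ c χ' c' e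
    · rw [IsGeneralized_classInner_comm (h.gen χ c) (hgen χ'),
        h1 χ' ((Finset.mem_union.1 hχ').resolve_left c') χ c]
    · exact h1 χ ((Finset.mem_union.1 hχ).resolve_left c) χ' c'
    · rw [h2 χ ((Finset.mem_union.1 hχ).resolve_left c) χ'
        ((Finset.mem_union.1 hχ').resolve_left c'), irr_ne e]
  · rw [if_pos hψ]
    split_ifs with c
    · exact h.ind χ c ψ hψ
    · have hχ' := (Finset.mem_union.1 hχ).resolve_left c
      have : dz χ ψ = (dg ψ : ℂ) • dk χ (k χ) ψ := by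
        rw [dz, dk, hk χ hχ']; push_cast; module
      rw [this, H4.indFun_smul, hΓ, hk χ hχ']
      push_cast; module

/-- Feit's extension theorem. -/
theorem Coh.feit [DecidableEq (IrrCharacter L)] (h : Coh L S ν) (hT : TIin L K)
    (hS : ∀ χ ∈ S, Off K (χ : L → ℂ)) {ψ : IrrCharacter L} (hψ : ψ ∈ S) {χ : IrrCharacter L}
    (hχ : Off K (χ : L → ℂ)) (hχS : χ ∉ S) (hdvd : dg ψ ∣ dg χ)
    (hlt : 2 * dg χ * dg ψ < ∑ ξ ∈ S, dg ξ ^ 2) : ∃ ν', Coh L (S ∪ {χ}) ν' := by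
  obtain ⟨k, hk⟩ := hdvd
  rw [mul_comm] at hk
  refine h.glue hT hS hψ {χ} (by simpa using hχ) (by simpa using hχS) (fun _ => k)
    (by simpa using hk) ?_
  simp only [Finset.mem_singleton, forall_eq]
  have hne : ∀ φ ∈ S, χ ≠ φ := fun φ hφ e => hχS (e ▸ hφ)
  obtain ⟨Δ, hΔ⟩ : ∃ Δ, Δ = indFun L (dk χ k ψ) := ⟨_, rfl⟩
  have hΔg : IsGeneralizedCharacter G Δ := hΔ ▸ ind_dk_gen _ _ _
  rw [← hΔ]
  have hb : ∀ ξ ∈ S, classInner Δ (ν ξ) = H4.zmult Δ (ν ξ) := fun ξ hξ =>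
    (H4.zmult_cast hΔg (h.gen ξ hξ)).symm
  obtain ⟨b, hb⟩ : ∃ b : IrrCharacter L → ℤ, ∀ ξ ∈ S, classInner Δ (ν ξ) = b ξ := ⟨_, hb⟩
  obtain ⟨l, hl⟩ : ∃ l : ℤ, l = b ψ + k := ⟨_, rfl⟩
  have hrel : ∀ ξ ∈ S, (dg ψ : ℤ) * b ξ = dg ξ * l - if ξ = ψ then (dg ψ : ℤ) * k else 0 :=
    fun ξ hξ => by
      split_ifs with e
      · rw [e, hl]; ring
      · have := h.inner_rel hT hS (dk_cf χ k ψ) (dk_off _ hχ (hS ψ hψ)) hξ hψ
        rw [← hΔ, hb ξ hξ, hb ψ hψ, dk_inner, dk_inner, irr_ne (hne ξ hξ), irr_ne (hne ψ hψ),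
          irr_ne (Ne.symm e), irr_self] at this
        have h2 : ((dg ψ : ℤ) * b ξ : ℂ) = ((dg ξ * l - 0 : ℤ) : ℂ) := by
          rw [hl]; push_cast; linear_combination this
        exact_mod_cast h2
  obtain ⟨n, hn, hn0⟩ := h.toON.bessel hΔg b hb
  rw [hΔ, hT.dk_norm hχ hχ (hS ψ hψ) hk (hne ψ hψ) (hne ψ hψ), irr_self] at hn
  have hn' : (1 : ℤ) + k * k = n + ∑ ξ ∈ S, b ξ ^ 2 := by exact_mod_cast hn
  obtain ⟨σ, hσ⟩ : ∃ σ : ℤ, σ = ∑ ξ ∈ S, (dg ξ : ℤ) ^ 2 := ⟨_, rfl⟩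
  have hlt' : 2 * k * (dg ψ : ℤ) ^ 2 < σ := by
    rw [hσ]; rw [hk] at hlt
    have : ((2 * (k * dg ψ) * dg ψ : ℕ) : ℤ) < ((∑ ξ ∈ S, dg ξ ^ 2 : ℕ) : ℤ) := by
      exact_mod_cast hlt
    push_cast at this
    linarith
  have hs1 : ∑ ξ ∈ S, (dg ξ : ℤ) * (dg ψ * b ξ) = l * σ - k * (dg ψ : ℤ) ^ 2 := by
    rw [Finset.sum_congr rfl fun ξ hξ => by rw [hrel ξ hξ]]
    simp only [mul_sub, Finset.sum_sub_distrib, mul_ite, mul_zero, Finset.sum_ite_eq', if_pos hψ,
      hσ, Finset.mul_sum]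
    congr 1
    · exact Finset.sum_congr rfl fun _ _ => by ring
    · ring
  have hs2 : (dg ψ : ℤ) ^ 2 * ∑ ξ ∈ S, b ξ ^ 2 =
      l * (l * σ - k * (dg ψ : ℤ) ^ 2) - dg ψ * k * (dg ψ * b ψ) := by
    rw [← hs1, Finset.mul_sum, Finset.mul_sum]
    have : ∀ ξ ∈ S, (dg ψ : ℤ) ^ 2 * b ξ ^ 2 = l * (dg ξ * (dg ψ * b ξ)) -
        if ξ = ψ then (dg ψ : ℤ) * k * (dg ψ * b ψ) else 0 := fun ξ hξ => by
      have := hrel ξ hξ
      split_ifs at this ⊢ with e
      · rw [e] at this ⊢; linear_combination (dg ψ * b ψ) * this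
      · linear_combination (dg ψ * b ξ) * this
    rw [Finset.sum_congr rfl this, Finset.sum_sub_distrib, Finset.sum_ite_eq', if_pos hψ]
  have hd : (0 : ℤ) < dg ψ := by exact_mod_cast dg_pos ψ
  have hd2 : (0 : ℤ) < (dg ψ : ℤ) ^ 2 := by positivity
  have hk0 : (0 : ℤ) ≤ k := by positivity
  have hmain : (dg ψ : ℤ) ^ 2 * (1 - n) = l ^ 2 * σ - 2 * l * k * (dg ψ : ℤ) ^ 2 := by
    have hb' : b ψ = l - k := by rw [hl]; ring
    rw [hb'] at hs2
    linear_combination (dg ψ : ℤ) ^ 2 * hn' + hs2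
  have hl0 : l = 0 := by
    by_contra hl0
    have hpos : 0 < l ^ 2 * σ - 2 * l * k * (dg ψ : ℤ) ^ 2 := by
      have h1 : l ≤ l ^ 2 := by nlinarith [sq_nonneg (l - 1), sq_nonneg l, Int.le_self_sq l]
      have h2 : 0 < l ^ 2 := by positivity
      have h3 : 0 ≤ k * (dg ψ : ℤ) ^ 2 := by positivity
      nlinarith
    have hn00 : n = 0 := by
      by_contra hn1
      have : (1 : ℤ) ≤ n := by exact_mod_cast Nat.one_le_iff_ne_zero.2 hn1
      nlinarith
    have h1 := congrFun (hn0 hn00) 1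
    rw [hΔ, H4.indFun_one, dk_one hk, mul_zero, Finset.sum_apply] at h1
    have h2 : ((∑ ξ ∈ S, (dg ξ : ℤ) * (dg ψ * b ξ) : ℤ) : ℂ) * ν ψ 1 = 0 := by
      push_cast
      rw [Finset.sum_mul, ← mul_zero ((dg ψ : ℂ) ^ 2), h1, Finset.mul_sum]
      refine Finset.sum_congr rfl fun ξ hξ => ?_
      have := h.apply_one hξ hψ
      simp only [Pi.smul_apply, smul_eq_mul]
      linear_combination -(dg ψ * b ξ : ℂ) * this
    have h3 := (mul_eq_zero.1 h2).resolve_right
      (gen_norm_one_apply_one (h.gen ψ hψ) (h.one ψ hψ))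
    rw [Int.cast_eq_zero, hs1] at h3
    rw [hn00] at hmain
    have hσ0 : 0 < σ := by nlinarith
    have h4 : (dg ψ : ℤ) ^ 2 * (1 + l * k) = 0 := by
      push_cast at hmain
      linear_combination hmain + l * h3
    have h5 : l * k = -1 := by
      have := (mul_eq_zero.1 h4).resolve_left hd2.ne'
      linarith
    have h6 : 0 ≤ l * σ := by nlinarith
    have h7 : 0 ≤ l := nonneg_of_mul_nonneg_left h6 hσ0
    nlinarith
  rw [hb ψ hψ]
  have : b ψ = -k := by linarith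
  rw [this]; push_cast; ring

/-- Iterating Feit's theorem. -/
theorem Coh.closure (h : Coh L S ν) (hT : TIin L K) (S' : Finset (IrrCharacter L))
    (hS' : ∀ χ ∈ S', Off K (χ : L → ℂ)) (hSS : S ⊆ S') {ψ : IrrCharacter L} (hψ : ψ ∈ S)
    (hstep : ∀ χ ∈ S', χ ∉ S → dg ψ ∣ dg χ ∧ ∀ T : Finset (IrrCharacter L), S ⊆ T →
      (∀ ξ ∈ S', dg ξ < dg χ → ξ ∈ T) → 2 * dg χ * dg ψ < ∑ ξ ∈ T, dg ξ ^ 2) :
    ∃ ν', Coh L S' ν' := by
  classical
  obtain ⟨T, hT1, hmax⟩ := Finset.exists_max_image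
    (S'.powerset.filter fun T => S ⊆ T ∧ ∃ ν', Coh L T ν') Finset.card
    ⟨S, by simpa using ⟨hSS, ν, h⟩⟩
  simp only [Finset.mem_filter, Finset.mem_powerset] at hT1 hmax
  obtain ⟨hT1, hT2, ν', hν'⟩ := hT1
  by_cases hne : (S' \ T).Nonempty
  · obtain ⟨χ, hχ, hmin⟩ := Finset.exists_min_image (S' \ T) dg hne
    rw [Finset.mem_sdiff] at hχ
    obtain ⟨h1, h2⟩ := hstep χ hχ.1 fun e => hχ.2 (hT2 e)
    obtain ⟨ν'', hν''⟩ := hν'.feit hT (fun ξ hξ => hS' ξ (hT1 hξ)) (hT2 hψ) (hS' χ hχ.1) hχ.2 h1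
      (h2 T hT2 fun ξ hξ hlt => by
        by_contra hc
        exact absurd (hmin ξ (Finset.mem_sdiff.2 ⟨hξ, hc⟩)) (by omega))
    have := hmax (T ∪ {χ}) ⟨Finset.union_subset hT1 (by simpa using hχ.1),
      hT2.trans Finset.subset_union_left, ν'', hν''⟩
    rw [Finset.card_union_of_disjoint (by simpa using hχ.2), Finset.card_singleton] at this
    omega
  · rw [Finset.not_nonempty_iff_eq_empty, Finset.sdiff_eq_empty_iff_subset] at hne
    exact ⟨ν', hν'.mono hne⟩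

/-- Families of constant degree are coherent. -/
theorem coh_of_uniform (hT : TIin L K) (hS : ∀ χ ∈ S, Off K (χ : L → ℂ))
    (hd : ∀ χ ∈ S, ∀ ψ ∈ S, dg χ = dg ψ) : ∃ ν, Coh L S ν := by
  classical
  rcases S.eq_empty_or_nonempty with rfl | ⟨ψ, hψ⟩
  · exact ⟨0, ⟨by simp, by simp, by simp⟩, by simp⟩
  have : Nonempty S := ⟨⟨ψ, hψ⟩⟩
  obtain ⟨ε, hε, θ, h1, h2, h3⟩ := H4.exceptional_characters L _ hT
    (fun i : S => ((i : IrrCharacter L) : L → ℂ)) (fun i => i.1.2)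
    (fun i j e => Subtype.ext (Subtype.ext e))
    (fun i j x hx => by
      rw [hS _ i.2 x (notMem_map_iff.1 hx), hS _ j.2 x (notMem_map_iff.1 hx)])
    (fun i j => by rw [← dg_cast, ← dg_cast, hd _ i.2 _ j.2])
  have hε1 : ε * conj ε = 1 := by rcases hε with rfl | rfl <;> simp
  refine ⟨fun χ => if c : χ ∈ S then ε • θ ⟨χ, c⟩ else 0,
    ⟨fun χ hχ => ?_, fun χ hχ => ?_, fun χ hχ χ' hχ' e => ?_⟩, fun χ hχ χ' hχ' => ?_⟩
  · rw [dif_pos hχ]
    rcases hε with rfl | rfl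
    · simpa using IsIrrCharacter_isGeneralized (h1 _)
    · simpa using IsGeneralized_neg (IsIrrCharacter_isGeneralized (h1 _))
  · rw [dif_pos hχ, classInner_smul_left, classInner_smul_right,
      IsIrrCharacter_classInner_self (h1 _), mul_one, hε1]
  · rw [dif_pos hχ, dif_pos hχ', classInner_smul_left, classInner_smul_right,
      IsIrrCharacter_classInner_of_ne (h1 _) (h1 _) fun e' => e (congrArg Subtype.val (h2 e')),
      mul_zero, mul_zero]
  · rw [dif_pos hχ, dif_pos hχ', dz, hd χ hχ χ' hχ', ← smul_sub, ← smul_sub, H4.indFun_smul,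
      H4.indFun_sub, ← smul_sub]
    exact congrArg _ (h3 ⟨χ, hχ⟩ ⟨χ', hχ'⟩)

theorem Coh.swap (h : Coh L S ν) {η η' : IrrCharacter L} (hη : η ∈ S) (hη' : η' ∈ S)
    (hne : η ≠ η') (hall : ∀ χ ∈ S, χ = η ∨ χ = η') (hd : dg η = dg η') :
    ∃ ν', Coh L S ν' ∧ ν' η = -ν η' := by
  classical
  refine ⟨fun χ => if χ = η then -ν η' else -ν η, Coh.of_base ⟨fun χ _ => ?_, fun χ _ => ?_,
    fun χ hχ χ' hχ' e => ?_⟩ η fun χ hχ => ?_, if_pos rfl⟩
  · split_ifs
    · exact IsGeneralized_neg (h.gen _ hη')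
    · exact IsGeneralized_neg (h.gen _ hη)
  · split_ifs <;> rw [classInner_neg_left, classInner_neg_right, neg_neg]
    · exact h.one _ hη'
    · exact h.one _ hη
  · split_ifs with c c' c'
    · exact absurd (c.trans c'.symm) e
    · rw [classInner_neg_left, classInner_neg_right, neg_neg, h.orth _ hη' _ hη hne.symm]
    · rw [classInner_neg_left, classInner_neg_right, neg_neg, h.orth _ hη _ hη' hne]
    · exact absurd (((hall χ hχ).resolve_left c).trans ((hall χ' hχ').resolve_left c').symm) e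
  · rw [if_pos rfl]
    split_ifs with c
    · rw [c, dz, sub_self, sub_self, H4.indFun_zero]
    · rw [(hall χ hχ).resolve_left c, h.ind _ hη' _ hη, hd]
      module

theorem Coh.orth_triv (h : Coh L S ν) {χ ψ : IrrCharacter L} (hχ : χ ∈ S) (hψ : ψ ∈ S)
    (hne : χ ≠ ψ) (hd : dg χ = dg ψ) (h1 : χ ≠ trivChar L) (h2 : ψ ≠ trivChar L) :
    classInner (ν χ) (trivChar G) = 0 := by
  classical
  have h3 : classInner (ν χ) (trivChar G) = classInner (ν ψ) (trivChar G) := by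
    rw [← sub_eq_zero, ← classInner_sub_left, ← h.ind_sub hχ hψ hd,
      H4.frobenius_reciprocity L _ (irr_cf _), classInner_sub_left]
    change classInner _ (trivChar L : L → ℂ) - classInner _ (trivChar L : L → ℂ) = 0
    rw [irr_ne h1, irr_ne h2, sub_zero]
  have h4 := h.orth χ hχ ψ hψ hne
  obtain ⟨α, hα⟩ := H4.gen_norm_one (h.gen χ hχ) (h.one χ hχ)
  obtain ⟨β, hβ⟩ := H4.gen_norm_one (h.gen ψ hψ) (h.one ψ hψ)
  by_cases e : α = trivChar G
  · by_cases e' : β = trivChar G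
    · rcases hα with c | c <;> rcases hβ with c' | c' <;>
        simp [c, c', e, e', classInner_neg_left, classInner_neg_right, irr_self] at h4
    · rw [h3]
      rcases hβ with c' | c' <;> simp [c', classInner_neg_left, irr_ne e']
  · rcases hα with c | c <;> simp [c, classInner_neg_left, irr_ne e]

theorem Coh.conj_eq (h : Coh L S ν) {χ : IrrCharacter L} (hχ : χ ∈ S) (hχ' : conjIrr χ ∈ S)
    (hne : conjIrr χ ≠ χ) : (fun g => conj (ν χ g)) = ν (conjIrr χ) := by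
  classical
  have h1 := h.ind_sub hχ hχ' (dg_conjIrr χ).symm
  have h2 : (fun g => conj (ν χ g)) - (fun g => conj (ν (conjIrr χ) g)) =
      ν (conjIrr χ) - ν χ := by
    have h3 := H4.indFun_conj L ((χ : L → ℂ) - conjIrr χ)
    have h4 : (fun x : L => conj (((χ : L → ℂ) - conjIrr χ) x)) =
        -((χ : L → ℂ) - conjIrr χ) := by ext x; simp
    rw [h4, H4.indFun_neg, h1] at h3
    ext g
    have := congrFun h3 g
    simp only [Pi.neg_apply, Pi.sub_apply, map_sub] at this ⊢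
    linear_combination -this
  have g1 := IsGeneralized_conj (h.gen χ hχ)
  have g2 := h.gen _ hχ'
  have h5 := congrArg (fun f => classInner f (ν (conjIrr χ))) h2
  simp only [classInner_sub_left, h.one _ hχ', h.orth _ hχ _ hχ' (Ne.symm hne)] at h5
  obtain ⟨n, hn⟩ := gen_self_nat (IsGeneralized_sub g1 g2)
  have h6 : ∃ m : ℕ, classInner (fun g => conj (ν (conjIrr χ) g)) (ν (conjIrr χ)) = m := by
    obtain ⟨β, c | c⟩ := H4.gen_norm_one g2 (h.one _ hχ')
    · rw [c]; exact IsCharacter_classInner (IsCharacter_conj (H4.irr_isChar β)) (H4.irr_isChar β)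
    · rw [c]
      have : (fun g => conj ((-(β : G → ℂ)) g)) = -(conjIrr β : G → ℂ) := by ext; simp
      rw [this, classInner_neg_left, classInner_neg_right, neg_neg]
      exact IsCharacter_classInner (H4.irr_isChar _) (H4.irr_isChar β)
  obtain ⟨m, hm⟩ := h6
  have hn' := hn
  rw [classInner_sub_left, classInner_sub_right, classInner_sub_right, classInner_conj_conj,
    h.one _ hχ, h.one _ hχ', IsGeneralized_classInner_comm g2 g1] at hn'
  have h7 : (n : ℂ) + 2 * m = 0 := by linear_combination -hn' - 2 * h5 - 2 * hm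
  have h8 : n + 2 * m = 0 := by exact_mod_cast h7
  rw [show n = 0 by omega, Nat.cast_zero] at hn
  exact sub_eq_zero.1 (classInner_self_eq_zero hn)

end Coh

end Cfsg.Agent.H3
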