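import Cfsg.Agent.Lib.H3.Coh1
import Cfsg.Agent.Lib.H4.Misc
import Cfsg.Agent.Lib.H1.Frattini

/-!
# Characters of Frobenius groups; the congruence (6.7) of Peterfalvi
-/

set_option autoImplicit false
set_option linter.unusedSectionVars false

open scoped ComplexConjugate

namespace Cfsg.Agent.H3

open Cfsg Cfsg.Agent Subgroup

section Frob

variable {L : Type*} [Group L] [Fintype L]

/-- `N` lies in the kernel of `χ`. -/
def KerC (N : Subgroup L) (χ : IrrCharacter L) : Prop := ∀ x ∈ N, (χ : L → ℂ) x = (χ : L → ℂ) 1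

theorem KerC.mono {A B : Subgroup L} {χ : IrrCharacter L} (h : KerC B χ) (hAB : A ≤ B) :
    KerC A χ := fun x hx => h x (hAB hx)

theorem kerC_bot (χ : IrrCharacter L) : KerC ⊥ χ := fun x hx => by rw [mem_bot.1 hx]

theorem kerC_triv (N : Subgroup L) : KerC N (trivChar L) := fun _ _ => rfl

theorem kerC_conjIrr {N : Subgroup L} {χ : IrrCharacter L} : KerC N (conjIrr χ) ↔ KerC N χ := by
  simp only [KerC, conjIrr_apply, RingHom.injective (starRingEnd ℂ) |>.eq_iff]

theorem conjIrr_ne_of_odd (hodd : Odd (Nat.card L)) {χ : IrrCharacter L} (h : χ ≠ trivChar L) :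
    conjIrr χ ≠ χ := fun e => h (Subtype.ext (H4.eq_one_of_comp_eq (fun g => g⁻¹)
      (fun ψ => by simpa only [irr_apply_inv] using IsIrrCharacter_conj ψ.2)
      (fun g hg => by
        obtain ⟨x, hx⟩ := isConj_iff.1 hg.symm
        exact H4.eq_one_of_conj_eq_inv hodd hx) χ.2
      (by simp only [irr_apply_inv]; exact congrArg Subtype.val e)))

open Classical in
/-- The irreducible characters with `A` but not `N` in the kernel. -/
noncomputable def SK (N A : Subgroup L) : Finset (IrrCharacter L) :=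
  Finset.univ.filter fun χ => ¬ KerC N χ ∧ KerC A χ

theorem mem_SK {N A : Subgroup L} {χ : IrrCharacter L} : χ ∈ SK N A ↔ ¬ KerC N χ ∧ KerC A χ := by
  simp [SK]

theorem conjIrr_mem_SK {N A : Subgroup L} {χ : IrrCharacter L} (h : χ ∈ SK N A) :
    conjIrr χ ∈ SK N A := by
  rw [mem_SK] at h ⊢
  rwa [kerC_conjIrr, kerC_conjIrr]

theorem ne_triv_of_mem_SK {N A : Subgroup L} {χ : IrrCharacter L} (h : χ ∈ SK N A) :
    χ ≠ trivChar L := fun e => (mem_SK.1 h).1 (e ▸ kerC_triv N)

/-- The permutation character on the cosets of `N`. -/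
noncomputable def rho (N : Subgroup L) : L → ℂ := indFun N fun _ => 1

theorem rho_char (N : Subgroup L) : IsCharacter L (rho N) :=
  H4.isCharacter_indFun N isCharacter_one

theorem rho_one (N : Subgroup L) : rho N 1 = N.index := by rw [rho, H4.indFun_one, mul_one]

theorem rho_off (N : Subgroup L) [N.Normal] : Off N (rho N) := fun _ hx =>
  H4.indFun_normal_of_notMem N _ hx

theorem rho_conj (N : Subgroup L) : (fun g => conj (rho N g)) = rho N := by
  rw [rho, ← H4.indFun_conj]; simp

theorem rho_inner_of_ker {N : Subgroup L} {χ : IrrCharacter L} (h : KerC N χ) :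
    classInner (rho N) χ = dg χ := by
  have := Fintype.ofFinite N
  rw [rho, H4.frobenius_reciprocity N _ (irr_cf χ)]
  have : (fun x : N => (χ : L → ℂ) x) = (dg χ : ℂ) • (trivChar N : N → ℂ) := by
    ext x; simp [h x x.2, dg_cast]
  rw [this, classInner_smul_right, map_natCast]
  exact (congrArg _ (irr_self (trivChar N))).trans (mul_one _)

theorem rho_inner_of_not_ker {N : Subgroup L} [N.Normal] {χ : IrrCharacter L} (h : ¬ KerC N χ) :
    classInner (rho N) χ = 0 := by
  have := Fintype.ofFinite N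
  rw [rho, H4.frobenius_reciprocity N _ (irr_cf χ), H4.classInner_eq_zero_comm]
  refine H4.classInner_res_one_eq_zero N χ.2 ?_
  simpa [KerC] using h

open Classical in
theorem sum_kerC (N : Subgroup L) [N.Normal] :
    ∑ χ ∈ Finset.univ.filter (KerC N), dg χ ^ 2 = N.index := by
  have := IsClassFunction_apply_eq_sum (IsCharacter_isClassFunction (rho_char N)) 1
  rw [rho_one] at this
  have h2 : ((∑ χ ∈ Finset.univ.filter (KerC N), dg χ ^ 2 : ℕ) : ℂ) = N.index := by
    rw [this, Nat.cast_sum, Finset.sum_filter]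
    refine Finset.sum_congr rfl fun χ _ => ?_
    split_ifs with c
    · rw [rho_inner_of_ker c, ← dg_cast]; push_cast; ring
    · rw [rho_inner_of_not_ker c, zero_mul]
  exact_mod_cast h2

theorem rho_norm (N : Subgroup L) [N.Normal] : classInner (rho N) (rho N) = N.index := by
  classical
  rw [classInner_eq_sum_irr (IsCharacter_isClassFunction (rho_char N)), ← sum_kerC N,
    Nat.cast_sum, Finset.sum_filter]
  refine Finset.sum_congr rfl fun χ _ => ?_
  rw [IsCharacter_classInner_comm (H4.irr_isChar χ) (rho_char N)]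
  split_ifs with c
  · rw [rho_inner_of_ker c]; push_cast; ring
  · rw [rho_inner_of_not_ker c, zero_mul]

theorem sum_SK {N A : Subgroup L} [N.Normal] [A.Normal] (h : A ≤ N) :
    ∑ χ ∈ SK N A, dg χ ^ 2 + N.index = A.index := by
  classical
  rw [← sum_kerC N, ← sum_kerC A, ← Finset.sum_union]
  · congr 1
    ext χ
    simp only [Finset.mem_union, mem_SK, Finset.mem_filter, Finset.mem_univ, true_and]
    exact ⟨fun c => c.elim And.right (·.mono h), fun c => by tauto⟩
  · rw [Finset.disjoint_left]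
    intro χ h1 h2
    exact (mem_SK.1 h1).1 (Finset.mem_filter.1 h2).2

theorem sub_eq_of_inner {N : Subgroup L} {f : L → ℂ} (hf : IsClassFunction L f) {c : ℂ}
    (h : ∀ φ, ¬ KerC N φ → classInner f φ = c * dg φ) {x : L} (hx : x ∈ N) (hx1 : x ≠ 1) :
    f 1 - f x = c * Nat.card L := by
  classical
  have h1 := sum_degree_mul_irr (G := L) 1
  have h2 := sum_degree_mul_irr (G := L) x
  rw [if_pos rfl] at h1
  rw [if_neg hx1] at h2
  rw [IsClassFunction_apply_eq_sum hf 1, IsClassFunction_apply_eq_sum hf x, ← sub_zero (Nat.card L : ℂ),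
    ← h1, ← h2, ← Finset.sum_sub_distrib, ← Finset.sum_sub_distrib, Finset.mul_sum]
  refine Finset.sum_congr rfl fun φ _ => ?_
  by_cases c' : KerC N φ
  · rw [c' x hx]; ring
  · rw [h φ c', dg_cast]; ring

variable {K : Subgroup L} [hKn : K.Normal]

/-- Centralizers of nonidentity elements of `K` lie in `K`. -/
def CentIn {L : Type*} [Group L] (K : Subgroup L) : Prop :=
  ∀ x ∈ K, x ≠ 1 → centralizer ({x} : Set L) ≤ K

theorem CentIn.off (hK : CentIn K) {N : Subgroup L} (hN : N ≤ K) {χ : IrrCharacter L}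
    (h : ¬ KerC N χ) : Off K (χ : L → ℂ) := fun g hg => by
  have := Fintype.ofFinite K
  refine H4.eq_zero_of_centralizer_trivial K χ.2 ?_ fun k hk hc => ?_
  · by_contra hc
    push Not at hc
    exact h fun x hx => hc x (hN hx)
  · by_contra h1
    exact hg (hK k hk h1 (mem_centralizer_singleton_iff.2 hc))

theorem CentIn.exists_under (hK : CentIn K) [Fintype K] {χ : IrrCharacter L} (h : ¬ KerC K χ) :
    ∃ θ : IrrCharacter K, dg χ = K.index * dg θ ∧
      classInner (fun x : K => (χ : L → ℂ) x) θ ≠ 0 := by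
  obtain ⟨θ, hθ⟩ := IsClassFunction_exists_irr (IsClassFunction_restrict K (irr_cf χ))
    fun e => IsIrrCharacter_apply_one_ne_zero χ.2 (congrFun e 1)
  have h1 : (θ : K → ℂ) ≠ fun _ => 1 := fun e => hθ (by
    rw [e]; exact H4.classInner_res_one_eq_zero K χ.2 (by simpa [KerC] using h))
  have h2 := H4.isIrr_indFun_of_centralizer_le hK θ.2 h1
  refine ⟨θ, ?_, hθ⟩
  have h3 : (χ : L → ℂ) = indFun K θ := by
    by_contra hne
    have := IsIrrCharacter_classInner_of_ne χ.2 h2 hne
    rw [H4.frobenius_reciprocity' K _ (irr_cf χ)] at this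
    exact hθ this
  rw [dg, h3, H4.charDegree_indFun K (H4.irr_isChar θ)]

theorem card_mul_sq_le [Fintype K] {χ : IrrCharacter L} {θ : IrrCharacter K}
    (hθ : classInner (fun x : K => (χ : L → ℂ) x) θ ≠ 0) {A B : Subgroup L} (hA : A ≤ K)
    (hB : KerC B χ) (hAB : ∀ a ∈ A, ∀ x ∈ K, a * x * a⁻¹ * x⁻¹ ∈ B) :
    dg θ ^ 2 ≤ A.relIndex K := by
  classical
  have h1 : ∀ a : K, (a : L) ∈ A → ‖(θ : K → ℂ) a‖ = dg θ := fun a ha => by
    rw [mem_charCenter_of_commutator θ.2 fun g => IsCharacter_eq_of_constituent_ker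
      (IsCharacter_restrict K (H4.irr_isChar χ)) θ.2 hθ (hB _ (hAB a ha g g.2)), ← dg_cast,
      Complex.norm_natCast]
  have h2 := H4.sum_norm_sq_irr θ.2
  have h3 : ∑ a ∈ Finset.univ.filter (fun a : K => (a : L) ∈ A), ‖(θ : K → ℂ) a‖ ^ 2 ≤
      ∑ a, ‖(θ : K → ℂ) a‖ ^ 2 :=
    Finset.sum_le_sum_of_subset_of_nonneg (Finset.filter_subset _ _) fun _ _ _ => by positivity
  rw [h2, Finset.sum_congr rfl fun a ha => by rw [h1 a (Finset.mem_filter.1 ha).2],
    Finset.sum_const, nsmul_eq_mul, ← H1.card_mul_relIndex hA] at h3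
  have h4 : (Finset.univ.filter (fun a : K => (a : L) ∈ A)).card = Nat.card A := by
    rw [← H1.card_subgroupOf_of_le hA, Nat.card_eq_fintype_card, Fintype.card_subtype]
    rfl
  rw [h4] at h3
  have h5 : Nat.card A * dg θ ^ 2 ≤ Nat.card A * A.relIndex K := by exact_mod_cast h3
  exact Nat.le_of_mul_le_mul_left h5 Nat.card_pos

theorem CentIn.sum_SK_eq (A : Subgroup L) [A.Normal] (hA : A ≤ K) :
    ∑ χ ∈ SK K A, dg χ ^ 2 + K.index = K.index * A.relIndex K := by
  rw [sum_SK hA, mul_comm, relIndex_mul_index hA]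

theorem CentIn.relIndex_modEq (hK : CentIn K) (A : Subgroup L) [A.Normal] (hA : A ≤ K) :
    A.relIndex K ≡ 1 [MOD K.index] := by
  have := Fintype.ofFinite K
  have h1 := CentIn.sum_SK_eq A hA
  have h2 : K.index * K.index ∣ ∑ χ ∈ SK K A, dg χ ^ 2 := Finset.dvd_sum fun χ hχ => by
    obtain ⟨θ, h, -⟩ := hK.exists_under (mem_SK.1 hχ).1
    exact ⟨dg θ ^ 2, by rw [h]; ring⟩
  obtain ⟨c, hc⟩ := h2
  have h3 : K.index * c + 1 = A.relIndex K :=
    Nat.eq_of_mul_eq_mul_left (Nat.pos_of_ne_zero index_ne_zero_of_finite)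
      (by rw [← h1, hc]; ring)
  rw [← h3]
  simp [Nat.ModEq]

theorem CentIn.le_relIndex (hK : CentIn K) (hodd : Odd (Nat.card L)) {A B : Subgroup L}
    [A.Normal] [B.Normal] (hAB : A < B) (hB : B ≤ K) : 2 * K.index + 1 ≤ A.relIndex B := by
  have h1 := hK.relIndex_modEq A (hAB.le.trans hB)
  have h2 := hK.relIndex_modEq B hB
  rw [← relIndex_mul_relIndex A B K hAB.le hB] at h1
  have h3 : A.relIndex B ≡ 1 [MOD K.index] := by
    have := (h2.mul_left (A.relIndex B)).symm.trans h1
    rwa [mul_one] at this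
  have h4 : A.relIndex B ≠ 1 := fun e => hAB.not_ge (relIndex_eq_one.1 e)
  have h5 : A.relIndex B ≠ 0 := index_ne_zero_of_finite
  have h6 : Odd (A.relIndex B) := hodd.of_dvd_nat
    ((relIndex_dvd_card A B).trans (card_subgroup_dvd_card B))
  have h7 : Odd K.index := hodd.of_dvd_nat (index_dvd_card K)
  obtain ⟨c, hc⟩ := (Nat.modEq_iff_dvd' (by omega)).1 h3.symm
  have h8 : A.relIndex B = K.index * c + 1 := by omega
  rw [h8] at h6 h4 ⊢
  have h9 : Even c := by
    rw [Nat.odd_add_one, Nat.not_odd_iff_even, Nat.even_mul] at h6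
    exact h6.resolve_left (Nat.not_even_iff_odd.2 h7)
  obtain ⟨d, rfl⟩ := h9
  have : d ≠ 0 := by rintro rfl; simp at h4
  have := Nat.one_le_iff_ne_zero.2 this
  nlinarith

theorem CentIn.coprime (hK : CentIn K) : (Nat.card K).Coprime K.index := by
  have := hK.relIndex_modEq ⊥ bot_le
  rw [relIndex_bot_left] at this
  exact (Nat.Coprime.symm ((Nat.coprime_comm.1 ((Nat.ModEq.gcd_eq this).trans
    (Nat.gcd_one_left _)))))

theorem CentIn.dg_of_commutator (hK : CentIn K) {χ : IrrCharacter L}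
    (h : χ ∈ SK K ⁅K, K⁆) : dg χ = K.index := by
  have := Fintype.ofFinite K
  obtain ⟨θ, h1, h2⟩ := hK.exists_under (mem_SK.1 h).1
  have h3 := card_mul_sq_le h2 le_rfl (mem_SK.1 h).2
    fun a ha x hx => commutator_mem_commutator ha hx
  rw [relIndex_self] at h3
  have := dg_pos θ
  rw [h1, show dg θ = 1 by nlinarith, mul_one]

theorem SK_nonempty {N A : Subgroup L} [N.Normal] [A.Normal] (h : A < N) : (SK N A).Nonempty := by
  by_contra hc
  have := sum_SK h.le
  rw [Finset.not_nonempty_iff_eq_empty.1 hc, Finset.sum_empty, zero_add,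
    ← relIndex_mul_index h.le] at this
  refine h.not_ge (relIndex_eq_one.1 (Nat.eq_of_mul_eq_mul_right
    (Nat.pos_of_ne_zero (index_ne_zero_of_finite (H := N))) ?_))
  rw [one_mul, ← this]

end Frob

section Congr

theorem exists_sum_eq_card_mul {H X : Type*} [Group H] [Finite H] [Fintype X] [MulAction H X]
    (f : X → ℂ) (hint : ∀ x, IsIntegral ℤ (f x)) (hinv : ∀ (h : H) x, f (h • x) = f x)
    (hfree : ∀ x, f x ≠ 0 → ∀ h : H, h • x = x → h = 1) :
    ∃ w : ℂ, IsIntegral ℤ w ∧ ∑ x, f x = Nat.card H * w := by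
  classical
  have := Fintype.ofFinite (MulAction.orbitRel.Quotient H X)
  refine ⟨∑ ω : MulAction.orbitRel.Quotient H X, f ω.out,
    IsIntegral.sum _ fun ω _ => hint _, ?_⟩
  rw [← Finset.sum_fiberwise (s := Finset.univ)
    (g := fun x => (Quotient.mk'' x : MulAction.orbitRel.Quotient H X)), Finset.mul_sum]
  refine Finset.sum_congr rfl fun ω _ => ?_
  have h1 : ∀ x, (Quotient.mk'' x : MulAction.orbitRel.Quotient H X) = ω ↔
      x ∈ MulAction.orbit H ω.out := fun x => by
    rw [← MulAction.orbitRel_apply, ← Quotient.eq'', Quotient.out_eq']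
  rw [Finset.sum_congr rfl (g := fun _ => f ω.out) fun x hx => by
    obtain ⟨h, rfl⟩ := (h1 x).1 (Finset.mem_filter.1 hx).2
    exact hinv h _, Finset.sum_const, nsmul_eq_mul]
  by_cases h0 : f ω.out = 0
  · rw [h0, mul_zero, mul_zero]
  congr 2
  have h2 : MulAction.stabilizer H ω.out = ⊥ := eq_bot_iff.2 fun h hh => hfree _ h0 h hh
  have h3 := MulAction.index_stabilizer H ω.out
  rw [h2, index_bot] at h3
  rw [h3, Set.ncard_eq_toFinset_card']
  congr 1
  ext x
  simp [h1]

theorem exists_sum_eq_card_mul' {H X : Type*} [Group H] [Finite H] [Fintype X]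
    (φ : H →* Equiv.Perm X) (f : X → ℂ) (hint : ∀ x, IsIntegral ℤ (f x))
    (hinv : ∀ (h : H) x, f (φ h x) = f x) (hfree : ∀ x, f x ≠ 0 → ∀ h : H, φ h x = x → h = 1) :
    ∃ w : ℂ, IsIntegral ℤ w ∧ ∑ x, f x = Nat.card H * w :=
  let _ : MulAction H X := MulAction.compHom X φ
  exists_sum_eq_card_mul f hint hinv hfree

variable {G : Type*} [Group G] [Fintype G]

theorem sum_class_mul_class (ψ : IrrCharacter G) (u v : G) :
    ∑ p : G × G, classInd u p.1 * classInd v p.2 * (ψ : G → ℂ) (p.1 * p.2) =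
      centralChar (ψ : G → ℂ) u * centralChar (ψ : G → ℂ) v * (ψ : G → ℂ) 1 := by
  have h1 := omega_conv ψ.2 (classInd_isClassFunction u) (classInd v)
  rw [omega_classInd (irr_cf ψ), omega_classInd (irr_cf ψ), omega, sum_conv_mul,
    div_eq_iff (IsIrrCharacter_apply_one_ne_zero ψ.2)] at h1
  rw [← h1, Fintype.sum_prod_type_right]
  refine Finset.sum_congr rfl fun k _ => ?_
  rw [Finset.mul_sum]
  exact Finset.sum_congr rfl fun h _ => by ring

/-- Peterfalvi (6.7). -/
theorem congr_of_const (hodd : Odd (Nat.card G)) {H Z : Subgroup G} (hH : CentIn H)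
    (hZ : ∀ z ∈ Z, z ≠ 1 → ∀ g : G, g * z * g⁻¹ ∈ H → g * z * g⁻¹ ∈ Z) (ψ : IrrCharacter G)
    {c : ℂ} (hc : ∀ z ∈ Z, z ≠ 1 → (ψ : G → ℂ) z = c) {z : G} (hz : z ∈ Z) (hz1 : z ≠ 1) :
    ∃ w : ℂ, IsIntegral ℤ w ∧
      (centralizer ({z} : Set G)).index * ((ψ : G → ℂ) 1 - c) = Nat.card H * w := by
  classical
  have hcint : IsIntegral ℤ c := hc z hz hz1 ▸ IsCharacter_isIntegral (H4.irr_isChar ψ) z
  have hci : ∀ u x : G, IsIntegral ℤ (classInd u x) := fun u x => by
    by_cases h : IsConj u x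
    · rw [classInd_of_isConj h]; exact isIntegral_one
    · rw [classInd_of_not_isConj h]; exact isIntegral_zero
  have key : ∀ v ∈ Z, v ≠ 1 → ∃ w : ℂ, IsIntegral ℤ w ∧
      centralChar (ψ : G → ℂ) z * centralChar (ψ : G → ℂ) v * (ψ : G → ℂ) 1 -
        c * ((centralizer ({z} : Set G)).index * (centralizer ({v} : Set G)).index) =
        (∑ x, classInd z x * classInd v x⁻¹) * ((ψ : G → ℂ) 1 - c) + Nat.card H * w :=
    fun v hv hv1 => by
      obtain ⟨φ, hs⟩ : ∃ φ : H →* Equiv.Perm (G × G), ∀ (h : H) (x : G × G),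
          φ h x = (h * x.1 * (h : G)⁻¹, h * x.2 * (h : G)⁻¹) :=
        ⟨(MulAction.toPermHom (MulAut G) (G × G)).comp ((MulAut.conj (G := G)).comp H.subtype),
          fun _ _ => rfl⟩
      obtain ⟨w, hw, hw'⟩ := exists_sum_eq_card_mul' φ
        (fun p => if p.1 * p.2 = 1 then 0 else
          classInd z p.1 * classInd v p.2 * ((ψ : G → ℂ) (p.1 * p.2) - c))
        (fun p => by
          split_ifs
          · exact isIntegral_zero
          · exact ((hci _ _).mul (hci _ _)).mul
              ((IsCharacter_isIntegral (H4.irr_isChar ψ) _).sub hcint))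
        (fun h p => by
          simp only [hs, conj_mul, irr_conj,
            classInd_isClassFunction z p.1 h, classInd_isClassFunction v p.2 h,
            conj_eq_one_iff])
        (fun p hp h hh => by
          by_contra h1
          rw [hs] at hh
          have h1' : (h : G) ≠ 1 := fun e => h1 (Subtype.ext e)
          split_ifs at hp with c1
          · exact hp rfl
          have mem : ∀ u ∈ Z, u ≠ 1 → ∀ x, classInd u x ≠ 0 → h * x * (h : G)⁻¹ = x → x ∈ Z :=
            fun u hu hu1 x hx hfix => by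
              by_contra hxZ
              by_cases hc' : IsConj u x
              · obtain ⟨g, rfl⟩ := isConj_iff.1 hc'
                exact hxZ (hZ u hu hu1 g (hH h h.2 h1' (mem_centralizer_singleton_iff.2
                  (mul_inv_eq_iff_eq_mul.1 hfix).symm)))
              · exact hx (classInd_of_not_isConj hc')
          refine hp ?_
          by_cases c2 : classInd z p.1 = 0
          · rw [c2, zero_mul, zero_mul]
          by_cases c3 : classInd v p.2 = 0
          · rw [c3, mul_zero, zero_mul]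
          rw [hc _ (mul_mem (mem z hz hz1 _ c2 (congrArg Prod.fst hh))
            (mem v hv hv1 _ c3 (congrArg Prod.snd hh))) c1, sub_self, mul_zero])
      refine ⟨w, hw, ?_⟩
      have e1 := sum_classInd_mul z (IsClassFunction_const (G := G) 1)
      have e2 := sum_classInd_mul v (IsClassFunction_const (G := G) 1)
      simp only [mul_one] at e1 e2
      rw [← hw', ← sum_class_mul_class, ← e1, ← e2, Finset.sum_mul_sum, Fintype.sum_prod_type,
        Fintype.sum_prod_type, Finset.mul_sum, Finset.sum_mul, ← Finset.sum_sub_distrib,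
        ← Finset.sum_add_distrib]
      refine Finset.sum_congr rfl fun x _ => ?_
      rw [Finset.mul_sum, ← Finset.sum_sub_distrib, ← Finset.sum_erase_add _ _ (Finset.mem_univ x⁻¹),
        ← Finset.sum_erase_add _ _ (Finset.mem_univ x⁻¹), if_pos (mul_inv_cancel x), add_zero,
        add_comm, mul_inv_cancel]
      congr 1
      · ring
      · refine Finset.sum_congr rfl fun y hy => ?_
        rw [if_neg fun e => (Finset.mem_erase.1 hy).1 (eq_inv_of_mul_eq_one_right e)]
        ring
  obtain ⟨w1, hw1, e1⟩ := key z hz hz1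
  obtain ⟨w2, hw2, e2⟩ := key z⁻¹ (inv_mem hz) (inv_ne_one.2 hz1)
  have h1 : ∑ x, classInd z x * classInd z x⁻¹ = 0 := Finset.sum_eq_zero fun x _ => by
    by_cases c1 : IsConj z x
    · rw [classInd_of_not_isConj (x := x⁻¹), mul_zero]
      intro c2
      obtain ⟨g, hg⟩ := isConj_iff.1 (c1.symm.trans c2)
      have := H4.eq_one_of_conj_eq_inv hodd hg
      rw [this, isConj_one_left] at c1
      exact hz1 c1
    · rw [classInd_of_not_isConj c1, zero_mul]
  have h2 : ∑ x, classInd z x * classInd z⁻¹ x⁻¹ = (centralizer ({z} : Set G)).index := by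
    have e := sum_classInd_mul z (IsClassFunction_const (G := G) 1)
    rw [mul_one] at e
    rw [← e]
    refine Finset.sum_congr rfl fun x _ => ?_
    by_cases c1 : IsConj z x
    · obtain ⟨g, rfl⟩ := isConj_iff.1 c1
      rw [classInd_of_isConj (g := z⁻¹) (isConj_iff.2 ⟨g, by group⟩)]
    · rw [classInd_of_not_isConj c1, zero_mul, zero_mul]
  have h3 : centralizer ({z⁻¹} : Set G) = centralizer ({z} : Set G) := by
    ext g
    simp only [mem_centralizer_singleton_iff]
    exact Commute.inv_right_iff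
  have h4 : centralChar (ψ : G → ℂ) z⁻¹ = centralChar (ψ : G → ℂ) z := by
    rw [centralChar, centralChar, h3, hc z hz hz1, hc _ (inv_mem hz) (inv_ne_one.2 hz1)]
  rw [h1] at e1
  rw [h2, h3, h4] at e2
  exact ⟨w1 - w2, hw1.sub hw2, by linear_combination e1 - e2⟩

end Congr

end Cfsg.Agent.H3
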