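import Cfsg.Agent.Lib.H3.Coh2
import Cfsg.Agent.Lib.H6.Basic

/-!
# Sibley's coherence theorem in the Frobenius case
-/

set_option autoImplicit false
set_option linter.unusedSectionVars false

open scoped ComplexConjugate

namespace Cfsg.Agent.H3

open Cfsg Cfsg.Agent Subgroup

theorem exists_central_step {L : Type*} [Group L] {K N B : Subgroup L} [K.Normal] [N.Normal]
    [B.Normal] [hK : Group.IsNilpotent K] (hN : N ≤ K) (hB : B < N) :
    ∃ A : Subgroup L, A.Normal ∧ B < A ∧ A ≤ N ∧ ∀ a ∈ A, ∀ x ∈ K, a * x * a⁻¹ * x⁻¹ ∈ B := by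
  obtain ⟨A, hA⟩ : ∃ A, A = N ⊓ (centralizer ((K.map (QuotientGroup.mk' B) : Subgroup _) :
      Set (L ⧸ B))).comap (QuotientGroup.mk' B) := ⟨_, rfl⟩
  have : (K.map (QuotientGroup.mk' B)).Normal :=
    Normal.map inferInstance _ (QuotientGroup.mk'_surjective B)
  have hmem : ∀ a, a ∈ A ↔ a ∈ N ∧ ∀ x ∈ K, a * x * a⁻¹ * x⁻¹ ∈ B := fun a => by
    rw [hA, mem_inf, mem_comap, mem_centralizer_iff]
    refine and_congr_right fun _ => ⟨fun h x hx => ?_, ?_⟩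
    · rw [← QuotientGroup.eq_one_iff]
      exact commutatorElement_eq_one_iff_mul_comm.2 (h _ (mem_map_of_mem _ hx)).symm
    · rintro h _ ⟨x, hx, rfl⟩
      exact (commutatorElement_eq_one_iff_mul_comm.1
        ((QuotientGroup.eq_one_iff _).2 (h x hx))).symm
  refine ⟨A, hA ▸ inferInstance, lt_of_le_not_ge (fun b hb => (hmem b).2 ⟨hB.le hb, fun x _ => ?_⟩)
    fun hAB => hB.not_ge ?_, fun a ha => ((hmem a).1 ha).1, fun a ha => ((hmem a).1 ha).2⟩
  · simpa [mul_assoc] using mul_mem hb (‹B.Normal›.conj_mem _ (inv_mem hb) x)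
  · obtain ⟨n, hn⟩ := (isNilpotent_iff_lowerCentralSeries K).1 hK
    have key : ∀ i, N ⊓ K.lowerCentralSeries i ≤ B → N ≤ B := fun i => by
      induction i with
      | zero => intro h; exact le_trans (le_inf le_rfl hN) h
      | succ i ih =>
        refine fun h => ih fun a ha => hAB ((hmem a).2 ⟨ha.1, fun x hx => h ⟨?_, ?_⟩⟩)
        · simpa [mul_assoc] using mul_mem ha.1 (‹N.Normal›.conj_mem _ (inv_mem ha.1) x)
        · exact commutator_mem_commutator ha.2 hx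
    exact key n (by rw [hn]; simp)

theorem CentIn.exists_sylow_le {G : Type*} [Group G] [Finite G] {H : Subgroup G} (hH : CentIn H)
    {p : ℕ} [Fact p.Prime] (hp : p ∣ Nat.card H) : ∃ S : Sylow p G, (S : Subgroup G) ≤ H := by
  obtain ⟨x, hx, hxp⟩ := H6.exists_orderOf_eq_of_dvd_card hp
  have hx1 : x ≠ 1 := fun e => (Fact.out : p.Prime).one_lt.ne (by rw [← hxp, e, orderOf_one])
  obtain ⟨S, hS⟩ := H6.exists_sylow_mem (p := p) (x := x) (k := 1)
    (by rw [pow_one, ← hxp, pow_orderOf_eq_one])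
  have : Nontrivial (S : Subgroup G) := ⟨⟨⟨x, hS⟩, 1, fun e => hx1 (congrArg Subtype.val e)⟩⟩
  have := S.isPGroup'.center_nontrivial
  obtain ⟨⟨y, hy⟩, hy1⟩ := exists_ne (1 : center (S : Subgroup G))
  have hy1' : (y : G) ≠ 1 := fun e => hy1 (Subtype.ext (Subtype.ext e))
  have hc : ∀ s ∈ (S : Subgroup G), s * y = y * s := fun s hs =>
    congrArg Subtype.val (mem_center_iff.1 hy ⟨s, hs⟩)
  have h1 : (y : G) ∈ H := hH x hx hx1 (mem_centralizer_singleton_iff.2 (hc x hS).symm)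
  exact ⟨S, fun s hs => hH y h1 hy1' (mem_centralizer_singleton_iff.2 (hc s hs))⟩

theorem CentIn.not_dvd_index {G : Type*} [Group G] [Finite G] {H : Subgroup G} (hH : CentIn H)
    {p : ℕ} [Fact p.Prime] (hp : p ∣ Nat.card H) : ¬ p ∣ H.index := by
  obtain ⟨S, h2⟩ := hH.exists_sylow_le hp
  exact fun h => S.not_dvd_index (h.trans (index_dvd_of_le h2))

variable {G : Type*} [Group G] [Fintype G] {L : Subgroup G} [Fintype L] {K : Subgroup L}

theorem Coh.orth_of {L' : Subgroup G} [Fintype L'] {S : Finset (IrrCharacter L)}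
    {S' : Finset (IrrCharacter L')} {ν : IrrCharacter L → G → ℂ} {ν' : IrrCharacter L' → G → ℂ}
    (h : Coh L S ν) (h' : Coh L' S' ν') {χ : IrrCharacter L} {η : IrrCharacter L'} (hχ : χ ∈ S)
    (hχ' : conjIrr χ ∈ S) (hne : conjIrr χ ≠ χ) (hη : η ∈ S') (hη' : conjIrr η ∈ S')
    (hne' : conjIrr η ≠ η) (h0 : classInner (indFun L ((χ : L → ℂ) - conjIrr χ))
      (indFun L' ((η : L' → ℂ) - conjIrr η)) = 0) : classInner (ν χ) (ν' η) = 0 := by
  rw [h.ind_sub hχ hχ' (dg_conjIrr χ).symm, h'.ind_sub hη hη' (dg_conjIrr η).symm] at h0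
  have e1 := h.apply_one hχ hχ'
  have e2 := h'.apply_one hη hη'
  rw [dg_conjIrr] at e1 e2
  exact orth_of_sub_orth (h.gen _ hχ) (h.gen _ hχ') (h'.gen _ hη) (h'.gen _ hη') (h.one _ hχ)
    (h.one _ hχ') (h'.one _ hη) (h'.one _ hη') (h.orth _ hχ _ hχ' hne.symm)
    (h'.orth _ hη _ hη' hne'.symm) (mul_left_cancel₀ (dg_ne χ) e1)
    (mul_left_cancel₀ (dg_ne η) e2) h0

theorem sub_conj_one {L : Type*} [Group L] [Fintype L] (χ : IrrCharacter L) :
    ((χ : L → ℂ) - conjIrr χ : L → ℂ) 1 = 0 := by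
  rw [Pi.sub_apply, conjIrr_apply, irr_conj_apply_one, sub_self]

/-- `K` is a nilpotent TI-subgroup of the odd order group `G`, the kernel of the Frobenius group
`L`. -/
structure FrobTI (L : Subgroup G) (K : Subgroup L) : Prop where
  odd : Odd (Nat.card G)
  ti : TIin L K
  cent : CentIn (K.map L.subtype)
  nil : Group.IsNilpotent K

theorem FrobTI.oddL (h : FrobTI L K) : Odd (Nat.card L) :=
  h.odd.of_dvd_nat (card_subgroup_dvd_card L)

theorem FrobTI.centL (h : FrobTI L K) : CentIn K := fun x hx hx1 _ hy =>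
  (mem_map_iff_mem L.subtype_injective).1 (h.cent x (mem_map_of_mem _ hx)
    (fun e => hx1 (Subtype.ext e)) (mem_centralizer_singleton_iff.2
      (congrArg Subtype.val (mem_centralizer_singleton_iff.1 hy))))

variable [hKn : K.Normal]

theorem FrobTI.off (h : FrobTI L K) {N A : Subgroup L} (hN : N ≤ K) :
    ∀ χ ∈ SK N A, Off K (χ : L → ℂ) := fun _ hχ => h.centL.off hN (mem_SK.1 hχ).1

theorem FrobTI.conj_ne (h : FrobTI L K) {N A : Subgroup L} {χ : IrrCharacter L}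
    (hχ : χ ∈ SK N A) : conjIrr χ ≠ χ := conjIrr_ne_of_odd h.oddL (ne_triv_of_mem_SK hχ)

theorem FrobTI.coh_derived (h : FrobTI L K) : ∃ ν, Coh L (SK K ⁅K, K⁆) ν :=
  coh_of_uniform h.ti (h.off le_rfl) fun _ h1 _ h2 => by
    rw [h.centL.dg_of_commutator h1, h.centL.dg_of_commutator h2]

theorem FrobTI.derived_lt (h : FrobTI L K) (hK : K ≠ ⊥) : ⁅K, K⁆ < K := by
  have := h.nil
  refine lt_of_le_of_ne (commutator_le_left K K) fun e => hK ?_
  obtain ⟨n, hn⟩ := (isNilpotent_iff_lowerCentralSeries K).1 h.nil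
  have : ∀ i, K.lowerCentralSeries i = K := fun i => by
    induction i with
    | zero => rfl
    | succ i ih => rw [Subgroup.lowerCentralSeries_succ, ih, e]
  rw [← this n, hn]

theorem FrobTI.coh_of_large (h : FrobTI L K) (hK : K ≠ ⊥)
    (hl : (2 * K.index + 1) ^ 2 ≤ (⁅K, K⁆).relIndex K) (n : ℕ) :
    ∀ B : Subgroup L, B.Normal → B ≤ ⁅K, K⁆ → B.index = n → ∃ ν, Coh L (SK K B) ν := by
  induction n using Nat.strong_induction_on with
  | _ n ih =>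
  intro B _ hB hn
  have := h.nil
  have := Fintype.ofFinite K
  rcases hB.eq_or_lt with rfl | hB
  · exact h.coh_derived
  obtain ⟨A, _, h1, h2, h3⟩ := exists_central_step (commutator_le_left K K) hB
  have hAK : A ≤ K := h2.trans (commutator_le_left K K)
  obtain ⟨ν, hν⟩ := ih _ (hn ▸ index_strictAnti h1) A ‹_› h2 rfl
  obtain ⟨η, hη⟩ := SK_nonempty (h.derived_lt hK)
  have hη' : η ∈ SK K A := mem_SK.2 ⟨(mem_SK.1 hη).1, (mem_SK.1 hη).2.mono h2⟩
  refine hν.closure h.ti _ (h.off le_rfl)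
    (fun χ hχ => mem_SK.2 ⟨(mem_SK.1 hχ).1, (mem_SK.1 hχ).2.mono h1.le⟩) hη' fun χ hχ _ => ?_
  obtain ⟨θ, e1, e2⟩ := h.centL.exists_under (mem_SK.1 hχ).1
  rw [h.centL.dg_of_commutator hη, e1]
  refine ⟨Dvd.intro _ rfl, fun T hT _ => lt_of_lt_of_le ?_
    (Finset.sum_le_sum_of_subset (f := fun ξ => dg ξ ^ 2) hT)⟩
  have e3 := card_mul_sq_le e2 hAK (mem_SK.1 hχ).2 h3
  have e4 := CentIn.sum_SK_eq A hAK
  have e5 : (⁅K, K⁆).relIndex K ≤ A.relIndex K :=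
    relIndex_le_of_le_left h2 index_ne_zero_of_finite
  have e6 : 0 < K.index := Nat.pos_of_ne_zero index_ne_zero_of_finite
  have e7 : 2 * K.index * dg θ + 1 < A.relIndex K := by
    by_contra hc
    have : 2 * K.index + 2 ≤ dg θ := by nlinarith
    nlinarith
  nlinarith

theorem FrobTI.exists_pow (h : FrobTI L K) {p : ℕ} [Fact p.Prime] (hp : IsPGroup p K)
    {Z : Subgroup L} (hZ : Z ≤ K) (hc : ∀ a ∈ Z, ∀ x ∈ K, a * x * a⁻¹ * x⁻¹ ∈ (⊥ : Subgroup L))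
    {χ : IrrCharacter L} (hχ : ¬ KerC K χ) :
    ∃ a : ℕ, dg χ = K.index * p ^ a ∧ (p ^ a) ^ 2 ∣ Z.relIndex K := by
  have := Fintype.ofFinite K
  obtain ⟨θ, e1, e2⟩ := h.centL.exists_under hχ
  obtain ⟨n, hn⟩ := hp.exists_card_eq
  obtain ⟨a, -, ha⟩ := (Nat.dvd_prime_pow Fact.out).1 (hn ▸ IsIrrCharacter_charDegree_dvd θ.2)
  obtain ⟨b, -, hb⟩ := (Nat.dvd_prime_pow Fact.out).1 (hn ▸ relIndex_dvd_card Z K)
  have e3 := card_mul_sq_le e2 hZ (kerC_bot χ) hc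
  refine ⟨a, by rw [e1, dg, ha], ?_⟩
  rw [dg, ha, hb, ← pow_mul] at e3
  rw [hb, ← pow_mul]
  exact pow_dvd_pow _ ((Nat.pow_le_pow_iff_right (Fact.out : p.Prime).one_lt).1 e3)

theorem FrobTI.three_le (h : FrobTI L K) {p : ℕ} [hp' : Fact p.Prime] (hp : IsPGroup p K)
    (hK : K ≠ ⊥) : 3 ≤ p ∧ p ∣ Nat.card K := by
  have h1 : p ∣ Nat.card K := by
    obtain ⟨n, hn⟩ := hp.exists_card_eq
    rcases n with _ | n
    · exact absurd (card_eq_one.1 hn) hK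
    · rw [hn]; exact Dvd.intro_left _ rfl
  refine ⟨?_, h1⟩
  have h2 := h.oddL.of_dvd_nat (h1.trans (card_subgroup_dvd_card K))
  have := hp'.out.two_le
  obtain ⟨k, hk⟩ := h2
  omega

/-- Peterfalvi (6.6). -/
theorem FrobTI.coh_center (h : FrobTI L K) {p : ℕ} [Fact p.Prime] (hp : IsPGroup p K)
    {Z : Subgroup L} [Z.Normal] (hZ1 : ⊥ < Z) (hZ : Z ≤ K)
    (hc : ∀ a ∈ Z, ∀ x ∈ K, a * x * a⁻¹ * x⁻¹ ∈ (⊥ : Subgroup L)) : ∃ ν, Coh L (SK Z ⊥) ν := by
  classical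
  obtain ⟨h3, hpK⟩ := h.three_le hp (hZ1.trans_le hZ).ne'
  have hnk : ∀ χ ∈ SK Z ⊥, ¬ KerC K χ := fun χ hχ c => (mem_SK.1 hχ).1 (c.mono hZ)
  obtain ⟨ψ, hψ, hmin⟩ := Finset.exists_min_image (SK Z ⊥) dg (SK_nonempty hZ1)
  obtain ⟨ν, hν⟩ := coh_of_uniform (S := (SK Z ⊥).filter fun χ => dg χ = dg ψ) h.ti
    (fun χ hχ => h.off hZ χ (Finset.mem_filter.1 hχ).1) fun _ h1 _ h2 =>
      (Finset.mem_filter.1 h1).2.trans (Finset.mem_filter.1 h2).2.symm
  refine hν.closure h.ti _ (h.off hZ) (Finset.filter_subset _ _)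
    (Finset.mem_filter.2 ⟨hψ, rfl⟩) fun χ hχ hχ' => ?_
  have hlt : dg ψ < dg χ :=
    lt_of_le_of_ne (hmin χ hχ) fun e => hχ' (Finset.mem_filter.2 ⟨hχ, e.symm⟩)
  have he : 0 < K.index := Nat.pos_of_ne_zero index_ne_zero_of_finite
  have hp1 := (Fact.out : p.Prime).one_lt
  obtain ⟨a, ha, -⟩ := h.exists_pow hp hZ hc (hnk ψ hψ)
  obtain ⟨b, hb, hb'⟩ := h.exists_pow hp hZ hc (hnk χ hχ)
  have hab : a < b := by
    rw [ha, hb] at hlt
    exact (Nat.pow_lt_pow_iff_right hp1).1 (Nat.lt_of_mul_lt_mul_left hlt)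
  refine ⟨by rw [ha, hb]; exact Nat.mul_dvd_mul_left _ (pow_dvd_pow _ hab.le),
    fun T _ hT => lt_of_lt_of_le ?_ (Finset.sum_le_sum_of_subset (f := fun ξ => dg ξ ^ 2)
      (s := (SK Z ⊥).filter fun ξ => dg ξ < dg χ)
      fun ξ hξ => hT ξ (Finset.mem_filter.1 hξ).1 (Finset.mem_filter.1 hξ).2)⟩
  have e1 := Finset.sum_filter_add_sum_filter_not (SK Z ⊥) (fun ξ => dg ξ < dg χ)
    fun ξ => dg ξ ^ 2
  have e2 := sum_SK (N := Z) (A := ⊥) bot_le
  have e3 : (p ^ b) ^ 2 ∣ Z.index := hb'.trans (relIndex_dvd_index_of_le hZ)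
  have e4 : (p ^ b) ^ 2 ∣ ∑ ξ ∈ SK Z ⊥, dg ξ ^ 2 := by
    refine (Nat.dvd_add_left e3).1 ?_
    rw [e2]; exact e3.trans (index_dvd_of_le bot_le)
  have e5 : (p ^ b) ^ 2 ∣ ∑ ξ ∈ (SK Z ⊥).filter fun ξ => dg ξ < dg χ, dg ξ ^ 2 := by
    rw [← e1] at e4
    refine (Nat.dvd_add_left (Finset.dvd_sum fun ξ hξ => ?_)).1 e4
    obtain ⟨c, hc1, -⟩ := h.exists_pow hp hZ hc (hnk ξ (Finset.mem_filter.1 hξ).1)
    have := not_lt.1 (Finset.mem_filter.1 hξ).2
    rw [hb, hc1] at this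
    rw [hc1]
    exact pow_dvd_pow_of_dvd (Dvd.dvd.mul_left (pow_dvd_pow _
      ((Nat.pow_le_pow_iff_right hp1).1 (Nat.le_of_mul_le_mul_left this he))) _) _
  have e6 : K.index ^ 2 ∣ ∑ ξ ∈ (SK Z ⊥).filter fun ξ => dg ξ < dg χ, dg ξ ^ 2 :=
    Finset.dvd_sum fun ξ hξ => by
      obtain ⟨c, hc1, -⟩ := h.exists_pow hp hZ hc (hnk ξ (Finset.mem_filter.1 hξ).1)
      exact pow_dvd_pow_of_dvd (hc1 ▸ Dvd.intro _ rfl) _
  have e7 : (K.index ^ 2).Coprime ((p ^ b) ^ 2) :=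
    Nat.Coprime.pow _ _ (Nat.Coprime.pow_right _
      (Nat.Coprime.coprime_dvd_left hpK h.centL.coprime).symm)
  have e8 := Nat.le_of_dvd (Finset.sum_pos (fun ξ _ => pow_pos (dg_pos ξ) 2)
    ⟨ψ, Finset.mem_filter.2 ⟨hψ, hlt⟩⟩) (e7.mul_dvd_of_dvd_of_dvd e6 e5)
  refine lt_of_lt_of_le ?_ e8
  rw [← mul_pow, ← hb, sq, mul_assoc, mul_left_comm]
  refine Nat.mul_lt_mul_of_pos_left ?_ (dg_pos χ)
  obtain ⟨d, rfl⟩ := Nat.exists_eq_add_of_lt hab
  rw [ha, hb, pow_succ, pow_add]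
  have : 0 < K.index * p ^ a := by positivity
  have : 1 ≤ p ^ d := Nat.one_le_pow _ _ (by omega)
  have : 3 ≤ p ^ d * p := by nlinarith
  nlinarith

theorem FrobTI.orth_center (h : FrobTI L K) {Z : Subgroup L} (hZ : Z ≤ ⁅K, K⁆)
    {ν μ : IrrCharacter L → G → ℂ} (hμ : Coh L (SK Z ⊥) μ) (hν : Coh L (SK K ⁅K, K⁆) ν)
    {χ η : IrrCharacter L} (hχ : χ ∈ SK Z ⊥) (hη : η ∈ SK K ⁅K, K⁆) :
    classInner (μ χ) (ν η) = 0 := by
  have hZK := hZ.trans (commutator_le_left K K)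
  have hne : ∀ χ ∈ SK Z ⊥, ∀ η ∈ SK K ⁅K, K⁆, χ ≠ η := fun χ hχ η hη e =>
    (mem_SK.1 hχ).1 (e ▸ (mem_SK.1 hη).2.mono hZ)
  have hχ' := conjIrr_mem_SK hχ
  have hη' := conjIrr_mem_SK hη
  refine hμ.orth_of hν hχ hχ' (h.conj_ne hχ) hη hη' (h.conj_ne hη) ?_
  rw [h.ti.iso (IsClassFunction_sub (irr_cf _) (irr_cf _)) ((h.off hZK _ hχ).sub (h.off hZK _ hχ'))
    ((h.off le_rfl _ hη).sub (h.off le_rfl _ hη')) (sub_conj_one χ)]
  simp only [classInner_sub_left, classInner_sub_right, irr_ne (hne _ hχ _ hη),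
    irr_ne (hne _ hχ _ hη'), irr_ne (hne _ hχ' _ hη), irr_ne (hne _ hχ' _ hη'), sub_self]

theorem FrobTI.exists_ratio (h : FrobTI L K) {p : ℕ} [Fact p.Prime] (hp : IsPGroup p K)
    {Z : Subgroup L} [hZn : Z.Normal] (hZ1 : ⊥ < Z) (hZ : Z ≤ K)
    (hc : ∀ a ∈ Z, ∀ x ∈ K, a * x * a⁻¹ * x⁻¹ ∈ (⊥ : Subgroup L)) {μ : IrrCharacter L → G → ℂ}
    (hμ : Coh L (SK Z ⊥) μ) (ψ : IrrCharacter G)
    (hψ : ∀ χ ∈ SK Z ⊥, classInner (ψ : G → ℂ) (μ χ) = 0) :
    ∃ t : ℤ, ∀ χ ∈ SK Z ⊥, K.index * classInner (fun x : L => (ψ : G → ℂ) x) χ = t * dg χ := by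
  obtain ⟨-, hpK⟩ := h.three_le hp (hZ1.trans_le hZ).ne'
  obtain ⟨χ₀, hχ₀⟩ := SK_nonempty hZ1
  obtain ⟨f, hf⟩ : ∃ f, f = fun x : L => (ψ : G → ℂ) x := ⟨_, rfl⟩
  have hfg : IsGeneralizedCharacter L f := hf ▸ IsGeneralized_restrict L (irr_gen ψ)
  rw [← hf]
  obtain ⟨c, hc0⟩ := IsGeneralized_classInner hfg (irr_gen χ₀)
  have hrel : ∀ χ ∈ SK Z ⊥, classInner f χ = c / dg χ₀ * dg χ := fun χ hχ => by
    have := hμ.inner_ind ψ hχ hχ₀
    rw [hψ χ hχ, hψ χ₀ hχ₀, H4.frobenius_reciprocity' L _ (irr_cf ψ), ← hf, inner_dz, hc0] at this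
    have h0 := dg_ne χ₀
    field_simp
    linear_combination this
  have hval : ∀ z ∈ Z, z ≠ 1 → (ψ : G → ℂ) z = (ψ : G → ℂ) 1 - c / dg χ₀ * Nat.card L :=
    fun z hz hz1 => by
      have := sub_eq_of_inner (IsGeneralized_isClassFunction hfg)
        (fun φ hφ => hrel φ (mem_SK.2 ⟨hφ, kerC_bot φ⟩)) hz hz1
      rw [hf] at this
      simp only [OneMemClass.coe_one] at this
      linear_combination -this
  obtain ⟨z, hz, hz1⟩ := (bot_or_exists_ne_one Z).resolve_left hZ1.ne'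
  obtain ⟨w, hw, hw'⟩ := congr_of_const h.odd (Z := Z.map L.subtype) h.cent
    (by
      rintro _ ⟨y, hy, rfl⟩ hy1 g hg
      by_cases hgL : g ∈ L
      · exact mem_map_of_mem L.subtype (hZn.conj_mem y hy ⟨g, hgL⟩)
      · exact absurd (h.ti g hgL _ (mem_map_of_mem L.subtype (hZ hy)) hg) hy1) ψ
    (by
      rintro _ ⟨y, hy, rfl⟩ hy1
      exact hval y hy fun e => hy1 (congrArg Subtype.val e))
    (mem_map_of_mem L.subtype hz) fun e => hz1 (Subtype.ext e)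
  have hcz : centralizer ({(L.subtype z : G)} : Set G) = K.map L.subtype := by
    refine le_antisymm (h.cent _ (mem_map_of_mem _ (hZ hz)) fun e => hz1 (Subtype.ext e)) ?_
    rintro _ ⟨x, hx, rfl⟩
    exact mem_centralizer_singleton_iff.2 (congrArg Subtype.val
      (commutatorElement_eq_one_iff_mul_comm.1 (mem_bot.1 (hc z hz x hx))).symm)
  obtain ⟨a, ha, -⟩ := h.exists_pow hp hZ hc fun c => (mem_SK.1 hχ₀).1 (c.mono hZ)
  have hnd := h.cent.not_dvd_index (p := p) (by rwa [H1.card_map_subtype])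
  rw [hcz, H1.card_map_subtype, ← K.card_mul_index, ha] at hw'
  have he : (K.index : ℂ) ≠ 0 := Nat.cast_ne_zero.2 index_ne_zero_of_finite
  have hp0 : (p : ℂ) ≠ 0 := Nat.cast_ne_zero.2 (Fact.out : p.Prime).ne_zero
  have hK0 := card_ne_zero_complex K
  have hdvd : ((p ^ a : ℕ) : ℤ) ∣ ((K.map L.subtype).index : ℤ) * c := by
    refine int_dvd_of_isIntegral_div (by exact_mod_cast pow_ne_zero _ (Fact.out : p.Prime).ne_zero) ?_
    convert hw using 1
    push_cast at hw' ⊢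
    rw [sub_sub_cancel] at hw'
    field_simp at hw' ⊢
    linear_combination hw'
  obtain ⟨t, ht⟩ := Int.dvd_of_dvd_mul_right_of_gcd_one hdvd
    (Nat.Coprime.pow_left a ((Nat.Prime.coprime_iff_not_dvd Fact.out).2 hnd))
  refine ⟨t, fun χ hχ => ?_⟩
  rw [hrel χ hχ, ha, ht]
  push_cast
  field_simp

theorem FrobTI.coh_union (h : FrobTI L K) [DecidableEq (IrrCharacter L)] {p : ℕ} [Fact p.Prime]
    (hp : IsPGroup p K) {Z : Subgroup L} [hZn : Z.Normal] (hZ1 : ⊥ < Z) (hZ : Z ≤ ⁅K, K⁆)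
    (hc : ∀ a ∈ Z, ∀ x ∈ K, a * x * a⁻¹ * x⁻¹ ∈ (⊥ : Subgroup L)) :
    ∃ ν, Coh L (SK K ⁅K, K⁆ ∪ SK Z ⊥) ν := by
  have hZK := hZ.trans (commutator_le_left K K)
  obtain ⟨μ, hμ⟩ := h.coh_center hp hZ1 hZK hc
  obtain ⟨ν, hν⟩ := h.coh_derived
  obtain ⟨η, hη⟩ := SK_nonempty (h.derived_lt (hZ1.trans_le hZK).ne')
  have hη1 := h.centL.dg_of_commutator hη
  have he : (K.index : ℂ) ≠ 0 := Nat.cast_ne_zero.2 index_ne_zero_of_finite
  have hne : ∀ χ ∈ SK Z ⊥, ∀ η ∈ SK K ⁅K, K⁆, χ ≠ η := fun χ hχ η hη e =>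
    (mem_SK.1 hχ).1 (e ▸ (mem_SK.1 hη).2.mono hZ)
  obtain ⟨a, ha⟩ : ∃ a : IrrCharacter L → ℕ, ∀ χ ∈ SK Z ⊥, dg χ = a χ * dg η := by
    refine ⟨fun χ => dg χ / dg η, fun χ hχ => (Nat.div_mul_cancel ?_).symm⟩
    obtain ⟨a, ha, -⟩ := h.exists_pow hp hZK hc fun c => (mem_SK.1 hχ).1 (c.mono hZK)
    rw [hη1, ha]; exact Dvd.intro _ rfl
  obtain ⟨t, ht⟩ : ∃ t : ℤ, ∀ χ ∈ SK Z ⊥,
      K.index * classInner (fun x : L => ν η x) χ = t * dg χ := by
    obtain ⟨ψ, e | e⟩ := H4.gen_norm_one (hν.gen η hη) (hν.one η hη)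
    · rw [e]
      refine h.exists_ratio hp hZ1 hZK hc hμ ψ fun χ hχ => ?_
      rw [← e, H4.classInner_eq_zero_comm, h.orth_center hZ hμ hν hχ hη]
    · obtain ⟨t, ht⟩ := h.exists_ratio hp hZ1 hZK hc hμ ψ fun χ hχ => by
        rw [← neg_eq_zero, ← classInner_neg_left, ← e, H4.classInner_eq_zero_comm,
          h.orth_center hZ hμ hν hχ hη]
      refine ⟨-t, fun χ hχ => ?_⟩
      have : (fun x : L => ν η x) = -fun x : L => (ψ : G → ℂ) x := by rw [e]; rfl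
      rw [this, classInner_neg_left]
      push_cast
      linear_combination -ht χ hχ
  have hfg := IsGeneralized_restrict L (hν.gen η hη)
  obtain ⟨s, hs⟩ := IsGeneralized_classInner hfg (irr_gen η)
  obtain ⟨k, hk⟩ : ∃ k : ℤ, ∀ χ ∈ SK Z ⊥,
      classInner (indFun L (dk χ (a χ) η)) (ν η) = a χ * k := ⟨t - s, fun χ hχ => by
    rw [H4.frobenius_reciprocity L _ (IsGeneralized_isClassFunction (hν.gen η hη)),
      IsGeneralized_classInner_comm (dk_gen _ _ _) hfg, inner_dk, hs]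
    have := ht χ hχ
    rw [ha χ hχ, hη1] at this
    push_cast at this ⊢
    exact mul_left_cancel₀ he (by linear_combination this)⟩
  have hk' : ∀ χ ∈ SK Z ⊥, ∀ η' ∈ SK K ⁅K, K⁆, η' ≠ η →
      classInner (indFun L (dk χ (a χ) η)) (ν η') = a χ * (k + 1) := fun χ hχ η' hη' e => by
    have := hν.inner_rel h.ti (h.off le_rfl) (dk_cf χ (a χ) η)
      (dk_off _ (h.off hZK χ hχ) (h.off le_rfl η hη)) hη' hη
    rw [hk χ hχ, dk_inner, dk_inner, irr_ne (hne χ hχ η hη), irr_ne (hne χ hχ η' hη'),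
      irr_ne e.symm, irr_self, hη1, h.centL.dg_of_commutator hη'] at this
    exact mul_left_cancel₀ he (by linear_combination this)
  obtain ⟨χ, hχ⟩ := SK_nonempty hZ1
  obtain ⟨n, hn, hn0⟩ := hν.toON.bessel (ind_dk_gen χ (a χ) η)
    (fun η' => if η' = η then a χ * k else a χ * (k + 1)) fun η' hη' => by
      split_ifs with e
      · rw [e, hk χ hχ]; push_cast; ring
      · rw [hk' χ hχ η' hη' e]; push_cast; ring
  rw [h.ti.dk_norm (h.off hZK χ hχ) (h.off hZK χ hχ) (h.off le_rfl η hη) (ha χ hχ)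
    (hne χ hχ η hη) (hne χ hχ η hη), irr_self] at hn
  have hn1 : n ≠ 0 := fun e => by
    have hχ' := conjIrr_mem_SK hχ
    have h1 := h.ti.iso (IsClassFunction_sub (irr_cf χ) (irr_cf (conjIrr χ)))
      (dk_off (a χ) (h.off hZK χ hχ) (h.off le_rfl η hη))
      ((h.off hZK _ hχ).sub (h.off hZK _ hχ')) (dk_one (ha χ hχ))
    rw [hn0 e, hμ.ind_sub hχ hχ' (dg_conjIrr χ).symm, classInner_sum_left,
      Finset.sum_eq_zero fun η' hη' => by
        rw [classInner_smul_left, classInner_sub_right, (H4.classInner_eq_zero_comm _ _).1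
          (h.orth_center hZ hμ hν hχ hη'), (H4.classInner_eq_zero_comm _ _).1
          (h.orth_center hZ hμ hν hχ' hη'), sub_zero, mul_zero],
      dk_inner, classInner_sub_right, classInner_sub_right, irr_self, irr_ne (h.conj_ne hχ).symm,
      irr_ne (hne _ hχ η hη).symm, irr_ne (hne _ hχ' η hη).symm] at h1
    simp at h1
  have hn' : (1 : ℤ) + a χ * a χ = n + ∑ η' ∈ SK K ⁅K, K⁆,
      (if η' = η then (a χ : ℤ) * k else a χ * (k + 1)) ^ 2 := by exact_mod_cast hn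
  have hbound : ∀ T ⊆ SK K ⁅K, K⁆, ∑ η' ∈ T,
      (if η' = η then (a χ : ℤ) * k else a χ * (k + 1)) ^ 2 ≤ a χ * a χ := fun T hT => by
    have := Finset.sum_le_sum_of_subset_of_nonneg hT (f := fun η' =>
      (if η' = η then (a χ : ℤ) * k else a χ * (k + 1)) ^ 2) fun _ _ _ => sq_nonneg _
    have : (1 : ℤ) ≤ n := by exact_mod_cast Nat.one_le_iff_ne_zero.2 hn1
    linarith
  have ha0 : (0 : ℤ) < a χ := by
    have := dg_pos χ
    rw [ha χ hχ] at this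
    exact_mod_cast Nat.pos_of_mul_pos_right this
  have hη' := conjIrr_mem_SK hη
  have hηne := h.conj_ne hη
  by_cases hk1 : k = -1
  · refine hν.glue h.ti (h.off le_rfl) hη _ (h.off hZK) (fun χ hχ c => hne χ hχ χ c rfl) a ha
      fun χ hχ => ?_
    rw [hk χ hχ, hk1]; push_cast; ring
  have hk0 : k = 0 := by
    have := hbound {η, conjIrr η} (Finset.insert_subset hη (by simpa using hη'))
    rw [Finset.sum_pair hηne.symm, if_pos rfl, if_neg hηne] at this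
    have h1 : k ^ 2 + (k + 1) ^ 2 ≤ 1 := by
      by_contra hc
      nlinarith [mul_pos ha0 ha0]
    have : k ≤ 0 := by nlinarith
    have : -1 ≤ k := by nlinarith
    omega
  obtain ⟨ν', hν', e⟩ := hν.swap hη hη' hηne.symm (fun φ hφ => by
    by_contra hc
    push Not at hc
    have := hbound {φ, conjIrr η} (Finset.insert_subset hφ (by simpa using hη'))
    rw [Finset.sum_pair hc.2, if_neg hc.1, if_neg hηne, hk0] at this
    nlinarith [mul_pos ha0 ha0]) (dg_conjIrr η).symm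
  refine hν'.glue h.ti (h.off le_rfl) hη _ (h.off hZK) (fun χ hχ c => hne χ hχ χ c rfl) a ha
    fun χ hχ => ?_
  rw [e, classInner_neg_right, hk' χ hχ _ hη' hηne, hk0]; push_cast; ring

/-- Sibley's coherence theorem, Frobenius case. -/
theorem FrobTI.coherent (h : FrobTI L K) : ∃ ν, Coh L (SK K ⊥) ν := by
  classical
  have := h.nil
  have := Fintype.ofFinite K
  by_cases hK : K = ⊥
  · refine coh_of_uniform h.ti (h.off le_rfl) fun χ hχ => ?_
    exact absurd (hK ▸ kerC_bot χ) (mem_SK.1 hχ).1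
  have hlt := h.derived_lt hK
  obtain ⟨p, hp, hpd⟩ := Nat.exists_prime_and_dvd
    (n := (⁅K, K⁆).relIndex K) fun e => hlt.not_ge (relIndex_eq_one.1 e)
  have := Fact.mk hp
  obtain ⟨P⟩ : Nonempty (Sylow p K) := inferInstance
  have hPn := H1.sylow_normal_of_isNilpotent P
  have hPc := P.characteristic_of_normal hPn
  have hPn' := ConjAct.normal_of_characteristic_of_normal (H := K) (K := (P : Subgroup K))
  by_cases hP : (P : Subgroup K) = ⊤
  swap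
  · have hle : (P : Subgroup K).map K.subtype ⊔ ⁅K, K⁆ ≤ K :=
      sup_le (map_subtype_le _) hlt.le
    have h1 : ⁅K, K⁆ < (P : Subgroup K).map K.subtype ⊔ ⁅K, K⁆ := by
      refine lt_of_le_not_ge le_sup_right fun c => P.not_dvd_index (hpd.trans ?_)
      exact index_dvd_of_le (map_le_iff_le_comap.1 (le_sup_left.trans c))
    have h2 : (P : Subgroup K).map K.subtype ⊔ ⁅K, K⁆ < K := by
      refine lt_of_le_of_ne hle fun c => hP ?_
      refine frattini_nongenerating (top_le_iff.1 ?_)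
      rw [← map_subtype_le_map_subtype, Subgroup.map_sup, ← MonoidHom.range_eq_map,
        subtype_range]
      refine c.ge.trans (sup_le_sup_left ?_ _)
      have := map_mono (f := K.subtype) (H1.commutator_le_frattini_of_isNilpotent (G := K))
      rwa [commutator_def, map_commutator, ← MonoidHom.range_eq_map, subtype_range] at this
    refine h.coh_of_large hK ?_ _ ⊥ inferInstance bot_le rfl
    rw [← relIndex_mul_relIndex _ _ _ h1.le h2.le, sq]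
    exact Nat.mul_le_mul (h.centL.le_relIndex h.oddL h1 h2.le)
      (h.centL.le_relIndex h.oddL h2 le_rfl)
  have hpK : IsPGroup p K := (hP ▸ P.isPGroup').of_equiv topEquiv
  by_cases hc : ⁅K, K⁆ = ⊥
  · exact hc ▸ h.coh_derived
  obtain ⟨Z, _, hZ1, hZ, hZc⟩ := exists_central_step hlt.le (bot_lt_iff_ne_bot.2 hc)
  have hZK := hZ.trans hlt.le
  obtain ⟨ν, hν⟩ := h.coh_union hpK hZ1 hZ hZc
  obtain ⟨η, hη⟩ := SK_nonempty hlt
  refine hν.closure h.ti _ (h.off le_rfl) (Finset.union_subset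
    (fun χ hχ => mem_SK.2 ⟨(mem_SK.1 hχ).1, kerC_bot χ⟩)
    (fun χ hχ => mem_SK.2 ⟨fun c => (mem_SK.1 hχ).1 (c.mono hZK), kerC_bot χ⟩))
    (Finset.mem_union_left _ hη) fun χ hχ _ => ?_
  obtain ⟨θ, e1, e2⟩ := h.centL.exists_under (mem_SK.1 hχ).1
  rw [h.centL.dg_of_commutator hη, e1]
  refine ⟨Dvd.intro _ rfl, fun T hT _ => lt_of_lt_of_le ?_
    (Finset.sum_le_sum_of_subset (f := fun ξ => dg ξ ^ 2) (s := insert η (SK Z ⊥))
      (Finset.insert_subset (hT (Finset.mem_union_left _ hη))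
        (Finset.subset_union_right.trans hT)))⟩
  rw [Finset.sum_insert fun c => (mem_SK.1 c).1 ((mem_SK.1 hη).2.mono hZ)]
  have e3 := card_mul_sq_le e2 hZK (kerC_bot χ) hZc
  have e4 := sum_SK (N := Z) (A := ⊥) bot_le
  have e5 := h.centL.le_relIndex h.oddL hZ1 hZK
  rw [← relIndex_mul_index (bot_le : ⊥ ≤ Z), ← relIndex_mul_index hZK] at e4
  have e6 := dg_pos η
  have e7 := dg_pos θ
  have e8 : dg θ ≤ Z.relIndex K := by nlinarith
  have e9 : (2 * K.index + 1) * (Z.relIndex K * K.index) ≤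
      (⊥ : Subgroup L).relIndex Z * (Z.relIndex K * K.index) := Nat.mul_le_mul_right _ e5
  have e10 : K.index * K.index * dg θ ≤ K.index * K.index * Z.relIndex K :=
    Nat.mul_le_mul_left _ e8
  nlinarith

end Cfsg.Agent.H3
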