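import Cfsg.Agent.Lib.H1.QuadLift

/-!
# Two transvections over a finite commutative ring
-/

set_option autoImplicit false

namespace Cfsg.Agent.H3.MC

open Subgroup Cfsg.Agent.H7 Cfsg.Agent.H9 MatrixGroups
open scoped commutatorElement

theorem one_add_zpow {Γ R : Type*} [Group Γ] [Ring R] (ρ : Γ →* R) {x : Γ} {α : R}
    (hx : ρ x = 1 + α) (hα : α * α = 0) (m : ℤ) : ρ (x ^ m) = 1 + (m : R) * α := by
  have hi : ρ x⁻¹ = 1 - α := by
    have h1 : ρ x⁻¹ * (1 + α) = 1 := by rw [← hx, ← map_mul, inv_mul_cancel, map_one]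
    have h2 : (1 + α) * (1 - α) = 1 := by rw [add_mul, one_mul, mul_sub, mul_one, hα]; abel
    calc ρ x⁻¹ = ρ x⁻¹ * ((1 + α) * (1 - α)) := by rw [h2, mul_one]
      _ = 1 - α := by rw [← mul_assoc, h1, one_mul]
  induction m using Int.induction_on with
  | zero => simp
  | succ i ih =>
    rw [zpow_add_one, map_mul, ih, hx]
    push_cast
    simp only [add_mul, mul_add, one_mul, mul_one, mul_assoc, hα, mul_zero]
    abel
  | pred i ih =>
    rw [zpow_sub_one, map_mul, ih, hi]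
    push_cast
    simp only [add_mul, mul_sub, sub_mul, one_mul, mul_one, mul_assoc, hα, mul_zero, neg_mul]
    abel

/-- The braid relations force `x ^ 12` into every normal subgroup identifying `x` and `y`. -/
theorem rel_twelve {Γ R : Type*} [Group Γ] [Ring R] (ρ : Γ →* R) {x y : Γ} {α β : R}
    (hx : ρ x = 1 + α) (hy : ρ y = 1 + β) (hα : α * α = 0) (hβ : β * β = 0) {m : ℤ}
    (hm : (m : R) * (α * β + β * α) = 1) (N : Subgroup Γ) [N.Normal]
    (hN : ∀ g, ρ g = 1 → g ∈ N) (hxy : x⁻¹ * y ∈ N) : x ^ 12 ∈ N := by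
  have c : ∀ r : R, r * (m : R) = m * r := fun r => (Int.cast_commute m r).eq.symm
  have h1 := one_add_zpow ρ hx hα m
  have h2 := one_add_zpow ρ hy hβ (-1)
  rw [show (1 : R) + ((-1 : ℤ) : R) * β = 1 - β by simp [sub_eq_add_neg]] at h2
  obtain ⟨e1, e2⟩ := H1.ring_sl2_aux (α := (m : R) * α) (β := β)
    (by rw [mul_assoc, ← mul_assoc α, c, mul_assoc, hα, mul_zero, mul_zero]) hβ
    (by rw [← hm, mul_add, mul_assoc, ← mul_assoc β, c, mul_assoc])
  have m1 : (x ^ m * y ^ (-1 : ℤ) * x ^ m) ^ 4 ∈ N := hN _ (by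
    rw [map_pow, map_mul, map_mul, h1, h2, show 4 = 2 * 2 from rfl, pow_mul, e1]; simp)
  have m2 : (x ^ m * (x ^ m * y ^ (-1 : ℤ) * x ^ m)) ^ 3 ∈ N := hN _ (by
    rw [map_pow, map_mul, map_mul, map_mul, h1, h2, e2])
  have e : (QuotientGroup.mk' N) y = QuotientGroup.mk' N x := (QuotientGroup.eq.2 hxy).symm
  rw [← QuotientGroup.eq_one_iff] at m1 m2 ⊢
  change QuotientGroup.mk' N _ = 1 at m1 m2 ⊢
  simp only [map_pow, map_mul, map_zpow, e] at m1 m2 ⊢
  generalize QuotientGroup.mk' N x = u at m1 m2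
  have f1 : u ^ (8 * m - 4) = 1 := by rw [← m1]; group
  have f2 : u ^ (9 * m - 3) = 1 := by rw [← m2]; group
  have : u ^ 12 = (u ^ (9 * m - 3)) ^ (8 : ℤ) * (u ^ (8 * m - 4)) ^ (-9 : ℤ) := by group
  rw [this, f1, f2]; simp

theorem slU_zpow {R : Type*} [CommRing R] (a : R) (m : ℤ) : slU a ^ m = slU ((m : R) * a) := by
  have z : slU (0 : R) = 1 := by ext i j; fin_cases i <;> fin_cases j <;> simp [coe_slU]
  induction m using Int.induction_on with
  | zero => simp [z]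
  | succ i ih => rw [zpow_add_one, ih, ← slU_add]; push_cast; ring_nf
  | pred i ih => rw [zpow_sub_one, ih, ← H1.slU_neg, ← slU_add]; push_cast; ring_nf

theorem slU_inj {R : Type*} [CommRing R] {a b : R} (h : slU a = slU b) : a = b := by
  simpa [coe_slU] using congrArg (fun g : SL(2, R) => g 0 1) h

theorem slU_zero {R : Type*} [CommRing R] : slU (0 : R) = 1 := by
  ext i j; fin_cases i <;> fin_cases j <;> simp [coe_slU]

theorem dickson_five {K : Type*} [Field K] [Finite K] {p : ℕ} [Fact p.Prime] [CharP K p]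
    (hp : 5 ≤ p) {H : Subgroup SL(2, K)} {γ : K} (hγ : γ ≠ 0) (ha : slU γ ∈ H)
    (hb : slL 1 ∈ H) : slU 1 ∈ H := by
  have h3 : ((3 : ℕ) : K) ≠ 0 := by
    rw [Ne, CharP.cast_eq_zero_iff K p]; intro h; have := Nat.le_of_dvd (by omega) h; omega
  have h2 : ((2 : ℕ) : K) ≠ 0 := by
    rw [Ne, CharP.cast_eq_zero_iff K p]; intro h; have := Nat.le_of_dvd (by omega) h; omega
  rcases H1.dickson_finite (p := p) (by omega) hγ ha hb with h | h
  · exact h
  rcases H1.dickson_finite (p := p) (by omega) (γ := γ + γ)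
    (by rw [← two_mul]; exact mul_ne_zero (by exact_mod_cast h2) hγ)
    (by rw [slU_add]; exact H.mul_mem ha ha) hb with h' | h'
  · exact h'
  exact absurd (by push_cast; linear_combination 4 * h - h') h3

variable {K : Type*} [CommRing K] {p : ℕ} [hp : Fact p.Prime]

theorem map_slU {F : Type*} [CommRing F] (f : K →+* F) (a : K) :
    Matrix.SpecialLinearGroup.map f (slU a) = slU (f a) := by
  ext i j; fin_cases i <;> fin_cases j <;> simp [coe_slU]

theorem map_slL {F : Type*} [CommRing F] (f : K →+* F) (a : K) :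
    Matrix.SpecialLinearGroup.map f (slL a) = slL (f a) := by
  ext i j; fin_cases i <;> fin_cases j <;> simp [coe_slL]

theorem sl_mul_apply (g h : SL(2, K)) (i j : Fin 2) :
    (g * h) i j = g i 0 * h 0 j + g i 1 * h 1 j := by
  show (g.1 * h.1) i j = _
  simp [Matrix.mul_apply, Fin.sum_univ_two]

/-- A `p`-element of `SL₂(K)` commuting with `slU γ` is a transvection. -/
theorem eq_slU_of_comm (hp5 : 5 ≤ p) (hK : (p : K) = 0) {γ : K} (hγ : IsUnit γ) {x : SL(2, K)}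
    (hc : x * slU γ = slU γ * x) {k : ℕ} (hx : x ^ p ^ k = 1) : x = slU (x 0 1) := by
  have c00 := congrArg (fun g : SL(2, K) => g 0 0) hc
  have c01 := congrArg (fun g : SL(2, K) => g 0 1) hc
  simp [coe_slU, Matrix.mul_apply, Fin.sum_univ_two] at c00 c01
  have h10 : x 1 0 = 0 := hγ.mul_right_eq_zero.1 c00
  have h11 : x 1 1 = x 0 0 := by
    have : γ * (x 0 0 - x 1 1) = 0 := by linear_combination c01
    have := hγ.mul_right_eq_zero.1 this
    linear_combination -this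
  have hd : x 0 0 * x 0 0 = 1 := by
    have := x.2
    rw [Matrix.det_fin_two] at this
    change x 0 0 * x 1 1 - x 0 1 * x 1 0 = 1 at this
    rw [h10, h11] at this; linear_combination this
  have hn : ∀ n : ℕ, (x ^ n) 0 0 = x 0 0 ^ n ∧ (x ^ n) 1 0 = 0 := fun n => by
    induction n with
    | zero => simp
    | succ n ih =>
      rw [pow_succ, pow_succ, sl_mul_apply, sl_mul_apply, ih.1, ih.2, h10]
      constructor <;> ring
  have h1 := (hn (p ^ k)).1
  rw [hx] at h1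
  obtain ⟨j, hj⟩ : Odd (p ^ k) := (hp.out.odd_of_ne_two (by omega)).pow
  rw [hj, pow_succ, pow_mul, sq, hd, one_pow, one_mul] at h1
  replace h1 : 1 = x 0 0 := h1
  ext i j; fin_cases i <;> fin_cases j <;> simp [coe_slU, h10, h11, ← h1]

theorem slU_pow_p (hK : (p : K) = 0) (a : K) : slU a ^ p = 1 := by
  rw [← zpow_natCast, slU_zpow, Int.cast_natCast, hK, zero_mul, slU_zero]

theorem sylowIn_slU [Nontrivial K] [Finite K] (hp5 : 5 ≤ p) (hK : (p : K) = 0) {γ : K}
    (hγ : IsUnit γ) {Y : Subgroup SL(2, K)} (ha : slU γ ∈ Y)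
    (h : ∀ r : K, slU r ∈ Y → ∃ j : ℤ, r = j * γ) : SylowIn p (zpowers (slU γ)) Y := by
  have ha1 : slU γ ≠ 1 := fun e => hγ.ne_zero (slU_inj (e.trans slU_zero.symm))
  have ho : orderOf (slU γ) = p := orderOf_eq_prime (slU_pow_p hK γ) ha1
  have key : ∀ x ∈ Y, x * slU γ = slU γ * x → (∃ k, x ^ p ^ k = 1) → x ∈ zpowers (slU γ) := by
    rintro x hx hc ⟨k, hk⟩
    have e := eq_slU_of_comm hp5 hK hγ hc hk
    obtain ⟨j, hj⟩ := h _ (e ▸ hx)
    exact ⟨j, by rw [e, hj]; exact slU_zpow γ j⟩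
  refine ⟨zpowers_le.2 ha, IsPGroup.of_card (n := 1) (by rw [Nat.card_zpowers, ho, pow_one]),
    fun Q hQ hTQ hQY => ?_⟩
  have haQ : slU γ ∈ Q := hTQ (mem_zpowers _)
  have : Nontrivial Q := ⟨⟨⟨_, haQ⟩, 1, fun e => ha1 (congrArg Subtype.val e)⟩⟩
  have hpel : ∀ x ∈ Q, ∃ k, x ^ p ^ k = 1 := fun x hx => by
    obtain ⟨k, hk⟩ := hQ ⟨x, hx⟩; exact ⟨k, congrArg Subtype.val hk⟩
  obtain ⟨z, hz1⟩ := (nontrivial_iff_exists_ne 1).1 hQ.center_nontrivial
  have hzc : ∀ g ∈ Q, g * z.1.1 = z.1.1 * g := fun g hg =>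
    congrArg Subtype.val (mem_center_iff.1 z.2 ⟨g, hg⟩)
  have hz := key _ (hQY z.1.2) (hzc _ haQ).symm (hpel _ z.1.2)
  have hz' : slU γ ∈ zpowers z.1.1 := by
    rw [zpowers_eq_of_card_prime hp.out (by rw [Nat.card_zpowers, ho]) hz
      fun e => hz1 (Subtype.ext (Subtype.ext e))]
    exact mem_zpowers _
  intro g hg
  refine key g (hQY hg) ?_ (hpel g hg)
  obtain ⟨i, hi⟩ := hz'
  rw [← hi]
  exact ((Commute.zpow_right (hzc g hg : Commute g z.1.1) i)).eq

theorem exists_one_add_pow_eq_one {R : Type*} [Ring R] [CharP R p] {n : R} (h : IsNilpotent n) :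
    ∃ k, (1 + n) ^ p ^ k = 1 := by
  obtain ⟨k, hk⟩ := h
  refine ⟨k, ?_⟩
  rw [add_pow_char_pow_of_commute _ _ (Commute.one_left n), one_pow,
    pow_eq_zero_of_le (Nat.lt_pow_self hp.out.one_lt).le hk, add_zero]

theorem exists_int_inv {F : Type*} [Field F] [CharP F p] {j : ℤ} (hj : (j : F) ≠ 0) :
    ∃ i : ℤ, (i : F) * j = 1 := by
  have h : (j : ZMod p) ≠ 0 := fun e => hj (by
    rw [← map_intCast (ZMod.castHom (dvd_refl p) F), e, map_zero])
  refine ⟨((j : ZMod p)⁻¹).val, ?_⟩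
  rw [← map_intCast (ZMod.castHom (dvd_refl p) F), ← map_intCast (ZMod.castHom (dvd_refl p) F),
    ← map_mul, Int.cast_natCast, ZMod.natCast_zmod_val, inv_mul_cancel₀ h, map_one]

/-- The relator measuring the failure of the braid relation. -/
def relK (θ : K) : SL(2, K) :=
  ⟨!![1 + θ * (1 - θ) + θ * (1 - θ) ^ 2, θ * (1 - θ) ^ 2; (1 - θ) ^ 2, 1 - θ * (1 - θ)], by
    simp [Matrix.det_fin_two]; ring⟩

theorem coe_relK (θ : K) : (relK θ).1 = !![1 + θ * (1 - θ) + θ * (1 - θ) ^ 2, θ * (1 - θ) ^ 2;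
    (1 - θ) ^ 2, 1 - θ * (1 - θ)] := rfl

theorem map_relK {F : Type*} [CommRing F] (f : K →+* F) (a : K) :
    Matrix.SpecialLinearGroup.map f (relK a) = relK (f a) := by
  ext i j; fin_cases i <;> fin_cases j <;> simp [coe_relK]

theorem relK_one : relK (1 : K) = 1 := by
  ext i j; fin_cases i <;> fin_cases j <;> simp [coe_relK]

theorem relK_mem {θ : K} {Y : Subgroup SL(2, K)} (ha : slU θ ∈ Y) (hb : slL 1 ∈ Y) :
    relK θ ∈ Y := by
  have e1 : slL (-1 : K) = (slL 1)⁻¹ := eq_inv_of_mul_eq_one_left (by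
    rw [← slL_add]; ext i j; fin_cases i <;> fin_cases j <;> simp [coe_slL])
  have e2 : relK θ * slL (-1) * (slU θ * slL (-1) * slU θ) = slU θ * slL (-1) * slU θ * slU θ := by
    ext i j; fin_cases i <;> fin_cases j <;>
      simp [coe_relK, coe_slU, coe_slL, Matrix.mul_apply, Fin.sum_univ_two] <;> ring
  have hl : slL (-1 : K) ∈ Y := e1 ▸ Y.inv_mem hb
  have hw : slU θ * slL (-1) * slU θ ∈ Y := Y.mul_mem (Y.mul_mem ha hl) ha
  exact (Y.mul_mem_cancel_right hl).1 ((Y.mul_mem_cancel_right hw).1 (e2 ▸ Y.mul_mem hw ha))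

section

variable [Nontrivial K] [Finite K] (hp5 : 5 ≤ p) (hK : (p : K) = 0) {γ : K}
  (hγ : IsUnit γ) {Y : Subgroup SL(2, K)} (ha : slU γ ∈ Y) (hb : slL 1 ∈ Y)
  (h : ∀ r : K, slU r ∈ Y → ∃ j : ℤ, r = j * γ)
include hp5 hK hγ ha h

include hb in
theorem exists_int_mul_map {F : Type*} [Field F] [Finite F] (f : K →+* F) :
    ∃ j : ℤ, (j : F) * f γ = 1 := by
  have hF : (p : F) = 0 := by rw [← map_natCast f, hK, map_zero]
  have : CharP F p := (CharP.charP_iff_prime_eq_zero hp.out).2 hF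
  set g := Matrix.SpecialLinearGroup.map (n := Fin 2) f
  have h1 : slU 1 ∈ Y.map g := dickson_five hp5 (hγ.map f).ne_zero ⟨_, ha, map_slU f γ⟩
    ⟨_, hb, by rw [map_slL, map_one]⟩
  let u : Multiplicative F →* SL(2, F) := MonoidHom.mk' (fun r => slU r.toAdd) fun a b =>
    slU_add _ _
  have hs := (sylowIn_slU hp5 hK hγ ha h).map g
  have hU : IsPGroup p u.range := by
    rintro ⟨_, r, rfl⟩
    exact ⟨1, Subtype.ext (by rw [pow_one]; exact slU_pow_p hF _)⟩
  have := hs.eq_of_le (K := u.range ⊓ Y.map g) (hU.to_le inf_le_left)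
    (le_inf (by
      rintro _ ⟨_, ⟨j, rfl⟩, rfl⟩
      refine ⟨Multiplicative.ofAdd (f (j * γ)), ?_⟩
      simp only [slU_zpow, g, map_slU]; rfl) hs.le) inf_le_right
  have h2 : slU 1 ∈ u.range ⊓ Y.map g := ⟨⟨Multiplicative.ofAdd 1, rfl⟩, h1⟩
  obtain ⟨_, ⟨j, rfl⟩, e⟩ : slU (1 : F) ∈ (zpowers (slU γ)).map g := by
    first | exact this ▸ h2 | exact this.symm ▸ h2
  simp only [slU_zpow, g, map_slU, map_mul, map_intCast] at e
  exact ⟨j, slU_inj e⟩

theorem not_dvd_orderOf_of_map {F : Type*} [Field F] (f : K →+* F) {x : SL(2, K)} (hx : x ∈ Y)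
    (hf : Matrix.SpecialLinearGroup.map f x = 1) : ¬ p ∣ orderOf x := fun hd => by
  have ho := orderOf_pow_orderOf_div (orderOf_pos x).ne' hd
  set y := x ^ (orderOf x / p)
  have hy1 : y ≠ 1 := fun e => hp.out.ne_one (by rw [← ho, e, orderOf_one])
  obtain ⟨b, -, hb⟩ := (sylowIn_slU hp5 hK hγ ha h).exists_conj (K := zpowers y)
    (IsPGroup.of_card (n := 1) (by rw [Nat.card_zpowers, ho, pow_one]))
    (zpowers_le.2 (Y.pow_mem hx _))
  have ha1 : slU γ ≠ 1 := fun e => hγ.ne_zero (slU_inj (e.trans slU_zero.symm))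
  have e := zpowers_eq_of_card_prime hp.out
    (by rw [Nat.card_zpowers, orderOf_eq_prime (slU_pow_p hK γ) ha1]) (hb y (mem_zpowers y))
    (by simpa using hy1)
  obtain ⟨i, hi⟩ : slU γ ∈ zpowers (b * y * b⁻¹) := e ▸ mem_zpowers _
  have := congrArg (Matrix.SpecialLinearGroup.map f) hi
  simp only [map_zpow, map_mul, y, map_pow, hf, one_pow, mul_one, map_inv, mul_inv_cancel,
    one_zpow, map_slU] at this
  exact (hγ.map f).ne_zero (slU_inj (this.symm.trans slU_zero.symm))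

include hb in
theorem map_eq_one_of_map {F F' : Type*} [Field F] [Field F'] [Finite F'] (f : K →+* F)
    (f' : K →+* F') {m : ℤ} (hm : (m : F) * f γ = 1) : (m : F') * f' γ = 1 := by
  by_contra hne
  have hF : (p : F') = 0 := by rw [← map_natCast f', hK, map_zero]
  have : CharP F' p := (CharP.charP_iff_prime_eq_zero hp.out).2 hF
  obtain ⟨j, hj⟩ := exists_int_mul_map hp5 hK hγ ha hb h f'
  obtain ⟨i, hi⟩ := exists_int_inv (p := p) (left_ne_zero_of_mul_eq_one hj)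
  have hi' : f' γ = i := by linear_combination i * hj - f' γ * hi
  have hm0 : (m : F') ≠ 0 := fun e => by
    have : CharP F p := (CharP.charP_iff_prime_eq_zero hp.out).2
      (by rw [← map_natCast f, hK, map_zero])
    rw [CharP.intCast_eq_zero_iff F' p, ← CharP.intCast_eq_zero_iff F p] at e
    rw [e, zero_mul] at hm; exact zero_ne_one hm
  obtain ⟨n, hn⟩ := exists_int_inv (F := F') (p := p) (j := -(m * i * (1 - m * i) ^ 2) ^ 2) (by
    push_cast
    rw [← hi']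
    exact neg_ne_zero.2 (pow_ne_zero _ (mul_ne_zero (mul_ne_zero hm0 (hγ.map f').ne_zero)
      (pow_ne_zero _ (sub_ne_zero.2 (Ne.symm hne))))))
  have hκ : relK (m * γ) ∈ Y := relK_mem (slU_zpow γ m ▸ Y.zpow_mem ha m) hb
  let g₀ : Y →* SL(2, F) := (Matrix.SpecialLinearGroup.map f).comp Y.subtype
  let g₁ : Y →* SL(2, F') := (Matrix.SpecialLinearGroup.map f').comp Y.subtype
  let ρ : Y →* Matrix (Fin 2) (Fin 2) F' := Matrix.SpecialLinearGroup.coeMonoidHom.comp g₁
  have hκ0 : (⟨_, hκ⟩ : Y) ∈ g₀.ker := by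
    show Matrix.SpecialLinearGroup.map f (relK (m * γ)) = 1
    rw [map_relK, map_mul, map_intCast, hm, relK_one]
  have hl' : ρ ⟨_, hb⟩ = !![1, 0; 1, 1] := by
    show (Matrix.SpecialLinearGroup.map f' (slL 1)).1 = _
    rw [map_slL, map_one, coe_slL]
  have hl : ρ ⟨_, hb⟩ = 1 + !![0, 0; 1, 0] := by
    rw [hl']; ext a b; fin_cases a <;> fin_cases b <;> simp
  set θ : F' := m * i with hθ
  have hk : ρ ⟨_, hκ⟩ = (relK θ).1 := by
    show (Matrix.SpecialLinearGroup.map f' (relK (m * γ))).1 = _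
    rw [map_relK, map_mul, map_intCast, hi']
  have hki : ρ (⟨_, hκ⟩ : Y)⁻¹ = !![1 - θ * (1 - θ), -(θ * (1 - θ) ^ 2);
      -(1 - θ) ^ 2, 1 + θ * (1 - θ) + θ * (1 - θ) ^ 2] := by
    refine (Matrix.inv_eq_left_inv (A := ρ ⟨_, hκ⟩) ?_).symm.trans (Matrix.inv_eq_left_inv ?_)
    · rw [← map_mul, inv_mul_cancel, map_one]
    · rw [hk]; ext a b; fin_cases a <;> fin_cases b <;>
        simp [coe_relK, Matrix.mul_apply, Fin.sum_univ_two] <;> ring
  have h12 := rel_twelve ρ (x := ⟨_, hb⟩) (y := ⟨_, hκ⟩ * ⟨_, hb⟩ * (⟨_, hκ⟩ : Y)⁻¹) hl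
    (β := !![θ * (1 - θ) ^ 2 * (1 - θ * (1 - θ)), -(θ * (1 - θ) ^ 2) ^ 2;
      (1 - θ * (1 - θ)) ^ 2, -(θ * (1 - θ) ^ 2 * (1 - θ * (1 - θ)))]) (m := n)
    (by
      rw [map_mul, map_mul, hl', hk, hki]
      ext a b; fin_cases a <;> fin_cases b <;>
        simp [coe_relK, Matrix.mul_apply, Fin.sum_univ_two] <;> ring)
    (by ext a b; fin_cases a <;> fin_cases b <;> simp [Matrix.mul_apply, Fin.sum_univ_two])
    (by
      ext a b; fin_cases a <;> fin_cases b <;> simp [Matrix.mul_apply, Fin.sum_univ_two] <;> ring)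
    (by
      push_cast at hn
      rw [← hθ] at hn
      rw [← Matrix.diagonal_intCast]
      ext a b; fin_cases a <;> fin_cases b <;>
        simp [Matrix.mul_apply, Fin.sum_univ_two] <;> linear_combination hn)
    (g₀.ker ⊔ g₁.ker) (fun g hg => mem_sup_right (Subtype.ext hg : g₁ g = 1)) (mem_sup_left (by
      rw [← mul_assoc, ← mul_assoc]
      exact g₀.ker.mul_mem (by simpa using g₀.normal_ker.conj_mem _ hκ0 (⟨_, hb⟩ : Y)⁻¹)
        (g₀.ker.inv_mem hκ0)))
  obtain ⟨k, hk0, k', hk', e⟩ := mem_sup_of_normal_right.1 h12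
  have hd := not_dvd_orderOf_of_map hp5 hK hγ ha h f k.2 hk0
  have e1 : g₁ (k ^ orderOf k.1) = 1 := by
    rw [orderOf_coe, pow_orderOf_eq_one, map_one]
  have e2 : g₁ k = slL 1 ^ 12 := by
    have := congrArg g₁ e
    rw [map_mul, (hk' : g₁ k' = 1), mul_one, map_pow] at this
    rw [this]
    show Matrix.SpecialLinearGroup.map f' (slL 1) ^ 12 = _
    rw [map_slL, map_one]
  rw [map_pow, e2, ← pow_mul, ← slL_natCast] at e1
  have e3 : ((12 * orderOf k.1 : ℕ) : F') = 0 := by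
    simpa [coe_slL] using congrArg (fun g : SL(2, F') => g 1 0) e1
  rw [CharP.cast_eq_zero_iff F' p, hp.out.dvd_mul, show 12 = 2 * 2 * 3 from rfl, hp.out.dvd_mul,
    hp.out.dvd_mul] at e3
  rcases e3 with ((e3 | e3) | e3) | e3
  · have := Nat.le_of_dvd (by omega) e3; omega
  · have := Nat.le_of_dvd (by omega) e3; omega
  · have := Nat.le_of_dvd (by omega) e3; omega
  · exact hd e3

include hb in
theorem exists_int_mul_eq_one : ∃ m : ℤ, (m : K) * γ = 1 := by
  have : CharP K p := (CharP.charP_iff_prime_eq_zero hp.out).2 hK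
  obtain ⟨J, hJ⟩ := Ideal.exists_maximal K
  have hfin : ∀ I : Ideal K, Finite (K ⧸ I) := fun I =>
    Finite.of_surjective _ Ideal.Quotient.mk_surjective
  letI := Ideal.Quotient.field J
  obtain ⟨m, hm⟩ := exists_int_mul_map hp5 hK hγ ha hb h (Ideal.Quotient.mk J)
  have hn : IsNilpotent (1 - (m : K) * γ) := nilpotent_iff_mem_prime.2 fun I hI => by
    letI := (Finite.isField_of_domain (K ⧸ I)).toField
    have := map_eq_one_of_map hp5 hK hγ ha hb h (Ideal.Quotient.mk J) (Ideal.Quotient.mk I) hm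
    rw [← Ideal.Quotient.eq_zero_iff_mem, map_sub, map_one, map_mul, map_intCast, this, sub_self]
  refine ⟨m, ?_⟩
  set θ := (m : K) * γ with hθ
  have hκ : relK θ ∈ Y := relK_mem (slU_zpow γ m ▸ Y.zpow_mem ha m) hb
  have hd := not_dvd_orderOf_of_map hp5 hK hγ ha h (Ideal.Quotient.mk J) hκ
    (by rw [map_relK, hθ, map_mul, map_intCast, hm, relK_one])
  have e : (relK θ).1 = 1 + (1 - θ) • !![θ + θ * (1 - θ), θ * (1 - θ); 1 - θ, -θ] := by
    ext a b; fin_cases a <;> fin_cases b <;> simp [coe_relK] <;> ring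
  obtain ⟨k, hk⟩ := exists_one_add_pow_eq_one (p := p)
    (n := (1 - θ) • !![θ + θ * (1 - θ), θ * (1 - θ); 1 - θ, -θ])
    (by obtain ⟨r, hr⟩ := hn; exact ⟨r, by rw [smul_pow, hr, zero_smul]⟩)
  have h1 : relK θ ^ p ^ k = 1 := Subtype.ext (by
    rw [Matrix.SpecialLinearGroup.coe_pow, e, hk]; rfl)
  obtain ⟨j, -, hj⟩ := (Nat.dvd_prime_pow hp.out).1 (orderOf_dvd_of_pow_eq_one h1)
  obtain rfl : j = 0 := by
    by_contra hj0; exact hd (hj ▸ dvd_pow_self p hj0)
  have h2 : θ * (1 - θ) = 0 := by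
    have := congrArg (fun g : SL(2, K) => g 1 1) (orderOf_eq_one_iff.1 hj)
    simpa [coe_relK] using this
  have hu : IsUnit θ := by simpa using hn.isUnit_one_sub
  exact (sub_eq_zero.1 (hu.mul_right_eq_zero.1 h2)).symm

end

end Cfsg.Agent.H3.MC
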