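import Cfsg.Agent.Lib.H3.MC0

/-!
# A central involution produced by two opposite quadratic elements
-/

set_option autoImplicit false

namespace Cfsg.Agent.H3.MC

open Subgroup Cfsg.Agent.H7 Cfsg.Agent.H9 MatrixGroups
open scoped commutatorElement

variable {p : ℕ} [hp : Fact p.Prime]

section Iter

variable {Γ R : Type*} [Group Γ] [Ring R]

/-- The anticommutator of `ρ a - 1` and `ρ b - 1`. -/
def cc (ρ : Γ →* R) (a b : Γ) : R := (ρ a - 1) * (ρ b - 1) + (ρ b - 1) * (ρ a - 1)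

theorem map_inv_quad (ρ : Γ →* R) {b : Γ} (hb : (ρ b - 1) * (ρ b - 1) = 0) :
    ρ b⁻¹ = 1 - (ρ b - 1) := by
  have := one_add_zpow ρ (x := b) (α := ρ b - 1) (by abel) hb (-1)
  rw [zpow_neg_one] at this
  rw [this]; simp [sub_eq_add_neg]

theorem map_conj_sub (ρ : Γ →* R) (a b : Γ) : ρ (b * a * b⁻¹) - 1 = ρ b * (ρ a - 1) * ρ b⁻¹ := by
  rw [mul_sub, sub_mul, mul_one, ← map_mul, ← map_mul, ← map_mul, mul_inv_cancel, map_one]

theorem quad_conj (ρ : Γ →* R) {a : Γ} (ha : (ρ a - 1) * (ρ a - 1) = 0) (b : Γ) :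
    (ρ (b * a * b⁻¹) - 1) * (ρ (b * a * b⁻¹) - 1) = 0 := by
  rw [map_conj_sub]
  calc _ = ρ b * ((ρ a - 1) * (ρ b⁻¹ * ρ b) * (ρ a - 1)) * ρ b⁻¹ := by simp only [mul_assoc]
    _ = 0 := by rw [← map_mul, inv_mul_cancel, map_one, mul_one, ha, mul_zero, zero_mul]

theorem conj_sub_eq (ρ : Γ →* R) (a : Γ) {b : Γ} (hb : (ρ b - 1) * (ρ b - 1) = 0) :
    ρ (b * a * b⁻¹) - 1 = (1 + (ρ b - 1)) * (ρ a - 1) * (1 - (ρ b - 1)) := by
  rw [map_conj_sub, map_inv_quad ρ hb, add_sub_cancel]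

theorem cc_conj (ρ : Γ →* R) {a b : Γ} (ha : (ρ a - 1) * (ρ a - 1) = 0)
    (hb : (ρ b - 1) * (ρ b - 1) = 0) : cc ρ a (b * a * b⁻¹) = -(cc ρ a b) ^ 2 := by
  rw [cc, cc, conj_sub_eq ρ a hb]
  generalize ρ a - 1 = A at *
  generalize ρ b - 1 = B at *
  have a3 : ∀ x, A * (A * x) = 0 := fun x => by rw [← mul_assoc, ha, zero_mul]
  have a4 : ∀ x, B * (B * x) = 0 := fun x => by rw [← mul_assoc, hb, zero_mul]
  simp only [sq, mul_add, add_mul, mul_sub, sub_mul, mul_assoc, one_mul, mul_one, a3, a4, ha, hb,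
    mul_zero]
  abel

theorem exists_iter {R₂ : Type*} [Ring R₂] (ρ₁ : Γ →* R) (ρ₂ : Γ →* R₂) {a : Γ}
    (h1 : (ρ₁ a - 1) * (ρ₁ a - 1) = 0) (h2 : (ρ₂ a - 1) * (ρ₂ a - 1) = 0) (O : Γ → Prop)
    (hO : ∀ b, O b → O (b * a * b⁻¹)) {g : Γ} (hg : O (g * a * g⁻¹))
    (hu : IsUnit (cc ρ₁ a (g * a * g⁻¹))) (hn : IsNilpotent (cc ρ₂ a (g * a * g⁻¹))) :
    ∃ g, O (g * a * g⁻¹) ∧ IsUnit (cc ρ₁ a (g * a * g⁻¹)) ∧ ρ₂ (g * a * g⁻¹) = ρ₂ a := by
  have step : ∀ g, IsUnit (cc ρ₁ a (g * a * g⁻¹)) →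
      IsUnit (cc ρ₁ a (g * a * g⁻¹ * a * (g * a * g⁻¹)⁻¹)) := fun g hu => by
    rw [cc_conj ρ₁ h1 (quad_conj ρ₁ h1 g)]; exact (hu.pow 2).neg
  have key : ∀ n g, O (g * a * g⁻¹) → IsUnit (cc ρ₁ a (g * a * g⁻¹)) →
      cc ρ₂ a (g * a * g⁻¹) ^ 2 ^ n = 0 →
      ∃ g, O (g * a * g⁻¹) ∧ IsUnit (cc ρ₁ a (g * a * g⁻¹)) ∧ cc ρ₂ a (g * a * g⁻¹) = 0 := by
    intro n
    induction n with
    | zero => exact fun g h h' h'' => ⟨g, h, h', by simpa using h''⟩
    | succ n ih =>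
      refine fun g h h' h'' => ih _ (hO _ h) (step g h') ?_
      rw [cc_conj ρ₂ h2 (quad_conj ρ₂ h2 g), neg_pow, ← pow_mul, ← pow_succ', h'', mul_zero]
  obtain ⟨n, hn⟩ := hn
  obtain ⟨g, hg, hu, h0⟩ := key n g hg hu (pow_eq_zero_of_le (Nat.lt_two_pow_self).le hn)
  refine ⟨_, hO _ (hO _ hg), step _ (step g hu), ?_⟩
  have q1 := quad_conj ρ₂ h2 g
  have q2 := quad_conj ρ₂ h2 (g * a * g⁻¹)
  rw [← sub_left_inj (a := 1), conj_sub_eq ρ₂ a q2, conj_sub_eq ρ₂ a q1]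
  rw [cc] at h0
  generalize ρ₂ a - 1 = A at *
  generalize ρ₂ (g * a * g⁻¹) - 1 = B at *
  have a3 : ∀ x, A * (A * x) = 0 := fun x => by rw [← mul_assoc, h2, zero_mul]
  have b1 : A * (B * A) = 0 := by
    have := congrArg (A * ·) h0
    simpa only [mul_add, a3, zero_add, mul_zero] using this
  have b2 : ∀ x, A * (B * (A * x)) = 0 := fun x => by
    simpa only [mul_assoc, zero_mul] using congrArg (· * x) b1
  simp only [mul_add, add_mul, mul_sub, sub_mul, mul_assoc, one_mul, mul_one, a3, h2, b1, b2,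
    mul_zero]
  abel

theorem exists_int_cc [Finite R] [Nontrivial R] (hp5 : 5 ≤ p) (hR : (p : R) = 0) (ρ : Γ →* R)
    {a b : Γ} (h1 : (ρ a - 1) * (ρ a - 1) = 0) (h2 : (ρ b - 1) * (ρ b - 1) = 0)
    (hu : IsUnit (cc ρ a b)) (h : ∀ x κ, ρ x = 1 + κ * (ρ a - 1) → κ * (ρ a - 1) = (ρ a - 1) * κ →
      ∃ j : ℤ, ρ x = 1 + j * (ρ a - 1)) : ∃ m : ℤ, (m : R) * cc ρ a b = 1 := by
  have ea : ρ a = 1 + (ρ a - 1) := by abel
  have eb : ρ b = 1 + (ρ b - 1) := by abel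
  rw [cc] at hu ⊢
  generalize ρ a - 1 = α at *
  generalize ρ b - 1 = β at *
  set c := α * β + β * α with hc
  have cα : Commute α c := by
    show α * c = c * α
    simp only [hc, mul_add, add_mul, ← mul_assoc, h1, zero_mul]
    simp only [mul_assoc, h1, mul_zero, zero_add, add_zero]
  have cβ : Commute β c := by
    show β * c = c * β
    simp only [hc, mul_add, add_mul, ← mul_assoc, h2, zero_mul]
    simp only [mul_assoc, h2, mul_zero, zero_add, add_zero]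
  obtain ⟨n, hn⟩ : ∃ n, c ^ n * c = 1 := by
    obtain ⟨u, hu⟩ := hu
    rw [← hu]
    obtain ⟨n, hn, e⟩ := (isOfFinOrder_of_finite u).exists_pow_eq_one
    obtain ⟨n, rfl⟩ := Nat.exists_eq_succ_of_ne_zero hn.ne'
    exact ⟨n, by rw [← pow_succ, ← Units.val_pow_eq_pow_val, e, Units.val_one]⟩
  let ev : Polynomial ℤ →+* R := (Polynomial.aeval c).toRingHom
  let ι := RingHom.kerLift ev
  have hι : Function.Injective ι := RingHom.kerLift_injective ev
  have : Finite (Polynomial ℤ ⧸ RingHom.ker ev) := Finite.of_injective _ hι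
  have : Nontrivial (Polynomial ℤ ⧸ RingHom.ker ev) := ι.domain_nontrivial
  have hcm : ∀ {r : R}, Commute r c → ∀ k, Commute r (ι k) := fun {r} hr k => by
    obtain ⟨q, rfl⟩ := Ideal.Quotient.mk_surjective k
    rw [RingHom.kerLift_mk]
    show Commute r (Polynomial.aeval c q)
    induction q using Polynomial.induction_on' with
    | add a b ha hb => rw [map_add]; exact ha.add_right hb
    | monomial i a =>
      rw [Polynomial.aeval_monomial]
      exact (Int.cast_commute a r).symm.mul_right (hr.pow_right i)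
  let γ : Polynomial ℤ ⧸ RingHom.ker ev := Ideal.Quotient.mk _ Polynomial.X
  have hγ : ι γ = c := by rw [RingHom.kerLift_mk]; exact Polynomial.aeval_X c
  have cδ : ∀ k, Commute (c ^ n) (ι k) := hcm ((Commute.refl c).pow_left n)
  let Φ := H1.matUnitHom ι ![![c ^ n * (α * β), c ^ n * α], ![β, c ^ n * (β * α)]] (fun k i j => by
      fin_cases i <;> fin_cases j
      · exact ((cδ k).mul_left ((hcm cα k).mul_left (hcm cβ k))).eq
      · exact ((cδ k).mul_left (hcm cα k)).eq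
      · exact (hcm cβ k).eq
      · exact ((cδ k).mul_left ((hcm cβ k).mul_left (hcm cα k))).eq)
    (H1.matUnit_aux h1 h2 (cα.pow_right n).eq (cβ.pow_right n).eq hn)
    (by show c ^ n * (α * β) + c ^ n * (β * α) = 1; rw [← mul_add, hn])
  have e1 : c ^ n * (α * β) + c ^ n * (β * α) = 1 := by rw [← mul_add, hn]
  have hU : ∀ r, Φ (slU r).1 = 1 + ι r * c ^ n * α := fun r => by
    simp only [Φ, H1.matUnitHom, coe_slU, RingHom.coe_mk, MonoidHom.coe_mk, OneHom.coe_mk,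
      Fin.sum_univ_two]
    rw [← e1]; simp [mul_assoc]; abel
  have hL : Φ (slL 1).1 = 1 + β := by
    simp only [Φ, H1.matUnitHom, coe_slL, RingHom.coe_mk, MonoidHom.coe_mk, OneHom.coe_mk,
      Fin.sum_univ_two]
    rw [← e1]; simp; abel
  let Y : Subgroup SL(2, Polynomial ℤ ⧸ RingHom.ker ev) :=
    { carrier := {g | ∃ x, Φ g.1 = ρ x}
      one_mem' := ⟨1, by rw [map_one]; exact map_one Φ⟩
      mul_mem' := by
        rintro g g' ⟨x, hx⟩ ⟨x', hx'⟩
        exact ⟨x * x', by rw [map_mul, ← hx, ← hx', ← map_mul]; rfl⟩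
      inv_mem' := by
        rintro g ⟨x, hx⟩
        refine ⟨x⁻¹, ?_⟩
        have : Φ (g⁻¹).1 * Φ g.1 = 1 := by
          rw [← map_mul, ← Matrix.SpecialLinearGroup.coe_mul, inv_mul_cancel]; exact map_one Φ
        rw [← mul_one (Φ _), ← map_one ρ, ← mul_inv_cancel x, map_mul, ← mul_assoc, ← hx, this,
          one_mul] }
  have hn' : c * c ^ n = 1 := by rw [← pow_succ', pow_succ, hn]
  obtain ⟨m, hm⟩ := exists_int_mul_eq_one hp5 (hι (by rw [map_natCast, hR, map_zero]))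
    (γ := γ) (IsUnit.of_mul_eq_one (γ ^ n) (hι (by rw [map_mul, map_pow, hγ, hn', map_one])))
    (Y := Y) ⟨a, by rw [hU, hγ, hn', one_mul, ea]⟩ ⟨b, by rw [hL, eb]⟩ (by
      rintro r ⟨x, hx⟩
      rw [hU] at hx
      have hcα : Commute α (ι r * c ^ n) := (hcm cα r).mul_right (cα.pow_right n)
      have hcβ : Commute β (ι r * c ^ n - _) := ((hcm cβ r).mul_right (cβ.pow_right n)).sub_right
        (Int.cast_commute (h x _ hx.symm hcα.eq.symm).choose β).symm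
      have hj := (h x _ hx.symm hcα.eq.symm).choose_spec
      generalize (h x _ hx.symm hcα.eq.symm).choose = j at hj hcβ
      have h0 : (ι r * c ^ n - j) * α = 0 := by
        rw [sub_mul, sub_eq_zero, ← add_right_inj 1, hx, hj]
      have h3 : (ι r * c ^ n - j) * c = 0 := by
        rw [hc, mul_add, ← mul_assoc, h0, ← mul_assoc, ← hcβ.eq, mul_assoc, h0]; simp
      refine ⟨j, hι ?_⟩
      rw [sub_mul, mul_assoc, hn, mul_one, sub_eq_zero] at h3
      rw [map_mul, map_intCast, hγ, h3])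
  exact ⟨m, by rw [← hγ, ← map_intCast ι, ← map_mul, hm, map_one]⟩

end Iter

section Cut

variable {R : Type*} [Ring R]

theorem exists_idempotent_pow [Finite R] (c : R) : ∃ M, 0 < M ∧ c ^ M * c ^ M = c ^ M := by
  obtain ⟨i, j, hij, e⟩ : ∃ i j : ℕ, i < j ∧ c ^ i = c ^ j := by
    obtain ⟨i, j, hne, e⟩ := Finite.exists_ne_map_eq_of_infinite (fun n : ℕ => c ^ n)
    rcases lt_or_gt_of_ne hne with h | h
    · exact ⟨i, j, h, e⟩
    · exact ⟨j, i, h, e.symm⟩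
  obtain ⟨d, rfl⟩ := Nat.exists_eq_add_of_lt hij
  have key : ∀ k, c ^ (i + k * (d + 1)) = c ^ i := fun k => by
    induction k with
    | zero => simp
    | succ k ih =>
      rw [show i + (k + 1) * (d + 1) = i + k * (d + 1) + (d + 1) by ring, pow_add, ih, ← pow_add,
        ← add_assoc, ← e]
  refine ⟨(i + 1) * (d + 1), by positivity, ?_⟩
  have e1 : (i + 1) * (d + 1) = i + (i * d + d + 1) := by ring
  calc _ = c ^ (i + (i + 1) * (d + 1)) * c ^ (i * d + d + 1) := by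
        rw [← pow_add, ← pow_add]; congr 1; ring
    _ = _ := by rw [key, ← pow_add, e1]

/-- The congruence cut out by a central idempotent. -/
def cutCon (e : R) (hc : ∀ x, x * e = e * x) : RingCon R where
  r x y := x * e = y * e
  iseqv := ⟨fun _ => rfl, Eq.symm, Eq.trans⟩
  mul' {w x y z} h1 h2 := by
    show w * y * e = x * z * e
    rw [mul_assoc, h2, hc z, ← mul_assoc, h1, mul_assoc, ← hc z, mul_assoc]
  add' {w x y z} h1 h2 := by
    show (w + y) * e = (x + z) * e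
    rw [add_mul, add_mul, h1, h2]

theorem cut_eq {e : R} (hc : ∀ x, x * e = e * x) {x y : R} :
    (cutCon e hc).mk' x = (cutCon e hc).mk' y ↔ x * e = y * e := (cutCon e hc).eq

theorem exists_neg_aux {X : Type*} [Group X] [Finite R] (hp5 : 5 ≤ p) (hR : (p : R) = 0)
    (ρ : X →* R) (hρ : Function.Injective ρ) {H : X → Prop}
    (hSE : ∀ x, H x → x ≠ 1 → x ^ p = 1 → ∀ g, H (g * x * g⁻¹) → H g)
    {a : X} (haH : H a) (ha1 : a ≠ 1) (hA : (ρ a - 1) * (ρ a - 1) = 0)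
    (hT : ∀ x κ, ρ x = 1 + κ * (ρ a - 1) → κ * (ρ a - 1) = (ρ a - 1) * κ → x ∈ zpowers a)
    {g : X} (hg : ¬ H g) (hB : (ρ g - 1) * (ρ g - 1) = 0) {M : ℕ} (hM : 0 < M) {e : R}
    (he : cc ρ a g ^ M = e) (hee : e * e = e) (hc : ∀ x, x * e = e * x) :
    ∃ (h : X) (B : R) (m : ℤ), ρ h = 1 - 2 * e ∧ (ρ a - 1) * e = ρ a - 1 ∧
      (m : R) * ((ρ a - 1) * B + B * (ρ a - 1)) = e := by
  have hc' : ∀ x, x * (1 - e) = (1 - e) * x := fun x => by
    rw [mul_sub, sub_mul, hc, mul_one, one_mul]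
  set φ₁ := (cutCon e hc).mk' with hφ₁
  set φ₂ := (cutCon (1 - e) hc').mk' with hφ₂
  have inj : ∀ {x y}, φ₁ x = φ₁ y → φ₂ x = φ₂ y → x = y := fun {x y} h1 h2 => by
    rw [hφ₁, cut_eq] at h1
    rw [hφ₂, cut_eq, mul_sub, mul_sub, h1, mul_one, mul_one] at h2
    exact sub_left_injective h2
  have e1 : φ₁ e = 1 := by rw [← map_one φ₁, hφ₁, cut_eq, hee, one_mul]
  have e2 : φ₂ e = 0 := by
    rw [← map_zero φ₂, hφ₂, cut_eq, mul_sub, hee, mul_one, sub_self, zero_mul]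
  let ρ₁ := φ₁.toMonoidHom.comp ρ
  let ρ₂ := φ₂.toMonoidHom.comp ρ
  have r1 : ∀ x, ρ₁ x = φ₁ (ρ x) := fun _ => rfl
  have r2 : ∀ x, ρ₂ x = φ₂ (ρ x) := fun _ => rfl
  have s1 : ∀ x, ρ₁ x - 1 = φ₁ (ρ x - 1) := fun x => by rw [map_sub, map_one, r1]
  have s2 : ∀ x, ρ₂ x - 1 = φ₂ (ρ x - 1) := fun x => by rw [map_sub, map_one, r2]
  have c1 : ∀ x y, cc ρ₁ x y = φ₁ (cc ρ x y) := fun x y => by
    simp only [cc, s1, map_add, map_mul]
  have c2 : ∀ x y, cc ρ₂ x y = φ₂ (cc ρ x y) := fun x y => by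
    simp only [cc, s2, map_add, map_mul]
  have hA1 : (ρ₁ a - 1) * (ρ₁ a - 1) = 0 := by rw [s1, ← map_mul, hA, map_zero]
  have hA2 : (ρ₂ a - 1) * (ρ₂ a - 1) = 0 := by rw [s2, ← map_mul, hA, map_zero]
  have z : ∀ m : ℤ, ρ (a ^ m) = 1 + m * (ρ a - 1) := one_add_zpow ρ (by abel) hA
  have z1 : ∀ m : ℤ, ρ₁ (a ^ m) = 1 + m * (ρ₁ a - 1) := one_add_zpow ρ₁ (by abel) hA1
  have z2 : ∀ m : ℤ, ρ₂ (a ^ m) = 1 + m * (ρ₂ a - 1) := one_add_zpow ρ₂ (by abel) hA2
  have hap : a ^ p = 1 := hρ (by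
    rw [← zpow_natCast, z, Int.cast_natCast, hR, zero_mul, add_zero, map_one])
  obtain ⟨g, hg, hu, hb⟩ := exists_iter ρ₁ ρ₂ hA1 hA2 (fun b => ¬ H b)
    (fun b hb h => hb (hSE a haH ha1 hap b h)) (g := g) (fun h => hg (hSE a haH ha1 hap g h))
    (by
      rw [cc_conj ρ₁ hA1 (by rw [s1, ← map_mul, hB, map_zero]), c1]
      exact (((isUnit_pow_iff hM.ne').1 (by rw [← map_pow, he, e1]; exact isUnit_one)).pow 2).neg)
    (by
      rw [cc_conj ρ₂ hA2 (by rw [s2, ← map_mul, hB, map_zero]), c2]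
      exact (IsNilpotent.pow_succ 1 ⟨M, by rw [← map_pow, he, e2]⟩).neg)
  have hB1 := quad_conj ρ₁ hA1 g
  generalize g * a * g⁻¹ = b at hg hu hb hB1
  have : Finite (cutCon e hc).Quotient := Finite.of_surjective _ (cutCon e hc).mk'_surjective
  let Γ : Subgroup X :=
    { carrier := {x | ∃ m : ℤ, ρ₂ x = ρ₂ (a ^ m)}
      one_mem' := ⟨0, by rw [zpow_zero]⟩
      mul_mem' := by
        rintro x y ⟨i, hi⟩ ⟨j, hj⟩
        exact ⟨i + j, by rw [zpow_add, map_mul, map_mul, hi, hj]⟩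
      inv_mem' := by
        rintro x ⟨i, hi⟩
        refine ⟨-i, ?_⟩
        rw [← mul_one (ρ₂ x⁻¹), ← map_one ρ₂, ← mul_inv_cancel (a ^ i), map_mul, ← mul_assoc, ← hi,
          ← map_mul, inv_mul_cancel, map_one, one_mul, zpow_neg] }
  have haΓ : a ∈ Γ := ⟨1, by rw [zpow_one]⟩
  have hbΓ : b ∈ Γ := ⟨1, by rw [zpow_one, hb]⟩
  have injX : ∀ {x y}, ρ₁ x = ρ₁ y → ρ₂ x = ρ₂ y → x = y := fun h1 h2 => hρ (inj h1 h2)
  have : Nontrivial (cutCon e hc).Quotient := by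
    by_contra hn
    rw [not_nontrivial_iff_subsingleton] at hn
    exact hg (injX (Subsingleton.elim _ _) hb ▸ haH)
  have ker1 : ∀ x ∈ Γ, ρ₁ x = 1 → x = 1 := by
    rintro x ⟨i, hi⟩ hx
    by_contra hx1
    have cm : ∀ y, ρ₂ y = ρ₂ a → y * x * y⁻¹ = x := fun y hy => by
      rw [mul_inv_eq_iff_eq_mul]
      refine injX (by rw [map_mul, map_mul, hx, one_mul, mul_one]) ?_
      rw [map_mul, map_mul, hy, hi, ← map_mul, ← map_mul, (Commute.zpow_self a i).eq]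
    have hxH : H x := hSE a haH ha1 hap x (by
      rwa [show x * a * x⁻¹ = a by rw [mul_inv_eq_iff_eq_mul, ← mul_inv_eq_iff_eq_mul.1 (cm a rfl)]])
    refine hg (hSE x hxH hx1 (injX (by rw [map_pow, hx, one_pow, map_one]) ?_) b
      (by rwa [cm b hb]))
    rw [map_pow, hi, ← map_pow, ← zpow_natCast, ← zpow_mul, mul_comm, zpow_mul, zpow_natCast, hap,
      one_zpow]
  obtain ⟨m, hm⟩ := exists_int_cc hp5 (by rw [← map_natCast φ₁, hR, map_zero]) (ρ₁.comp Γ.subtype)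
    (a := ⟨a, haΓ⟩) (b := ⟨b, hbΓ⟩) hA1 hB1 hu (by
      rintro ⟨x, i, hi⟩ κ₁ (hx : ρ₁ x = 1 + κ₁ * (ρ₁ a - 1)) (hκ : κ₁ * (ρ₁ a - 1) = (ρ₁ a - 1) * κ₁)
      obtain ⟨κ, rfl⟩ : ∃ κ, φ₁ κ = κ₁ := (cutCon e hc).mk'_surjective κ₁
      show ∃ j : ℤ, ρ₁ x = 1 + j * (ρ₁ a - 1)
      obtain ⟨j, hj⟩ := hT (x * a ^ (-i)) ((κ - i) * e) (inj (by
          rw [← r1, map_mul, hx, z1, map_add, map_one, map_mul, map_mul, e1, map_sub, map_intCast,
            ← s1]
          generalize ρ₁ a - 1 = A at hA1 ⊢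
          simp only [add_mul, mul_add, sub_mul, mul_one, one_mul, Int.cast_neg, neg_mul, mul_neg,
            mul_assoc]
          rw [← mul_assoc A, ← (Int.cast_commute i _).eq, mul_assoc, hA1]
          simp [sub_eq_add_neg]; abel)
        (by
          rw [← r2, map_mul, hi, ← map_mul, ← zpow_add, add_neg_cancel, zpow_zero, map_one,
            map_add, map_mul, map_mul, e2]; simp))
        (inj (by
          simp only [map_mul, e1, ← s1, map_sub φ₁ κ, map_intCast, mul_one]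
          generalize ρ₁ a - 1 = A at hκ ⊢
          rw [sub_mul, mul_sub, hκ, (Int.cast_commute i _).eq])
          (by simp only [map_mul, e2, mul_zero, zero_mul]))
      refine ⟨j + i, ?_⟩
      rw [← z1, zpow_add, show a ^ j = x * a ^ (-i) from hj, mul_assoc, ← zpow_add,
        neg_add_cancel, zpow_zero, mul_one])
  replace hm : (m : (cutCon e hc).Quotient) * cc ρ₁ a b = 1 := hm
  have h12 := rel_twelve (ρ₁.comp Γ.subtype) (x := ⟨a, haΓ⟩) (y := ⟨b, hbΓ⟩) (α := ρ₁ a - 1)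
    (β := ρ₁ b - 1) (show ρ₁ a = _ by abel) (show ρ₁ b = _ by abel) hA1 hB1 hm
    (ρ₂.comp Γ.subtype).toHomUnits.ker
    (fun x hx => by rw [show x = 1 from Subtype.ext (ker1 x.1 x.2 hx)]; exact one_mem _)
    (Units.ext (by
      show ρ₂ (a⁻¹ * b) = 1
      rw [map_mul, hb, ← map_mul, inv_mul_cancel, map_one]))
  have ha2 : ρ₂ a = 1 := by
    have h1 : ρ₂ a ^ 12 = 1 := by rw [← map_pow]; exact congrArg Units.val h12
    have h2 : ρ₂ a ^ p = 1 := by rw [← map_pow, hap, map_one]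
    have h3 := pow_gcd_eq_one.2 ⟨h1, h2⟩
    have c2 : Nat.Coprime 2 p := (Nat.coprime_primes Nat.prime_two hp.out).2 (by omega)
    have c3 : Nat.Coprime 3 p := (Nat.coprime_primes Nat.prime_three hp.out).2 (by omega)
    rwa [show Nat.gcd 12 p = 1 from (c2.mul_left c2).mul_left c3, pow_one] at h3
  have c : ∀ r : (cutCon e hc).Quotient, r * m = m * r := fun r => (Int.cast_commute m r).eq.symm
  obtain ⟨w1, -⟩ := H1.ring_sl2_aux (α := m * (ρ₁ a - 1)) (β := ρ₁ b - 1)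
    (by rw [mul_assoc, ← mul_assoc (ρ₁ a - 1), c, mul_assoc, hA1, mul_zero, mul_zero]) hB1
    (by rw [mul_assoc, ← mul_assoc (ρ₁ b - 1), c, mul_assoc, ← mul_add]; exact hm)
  refine ⟨(a ^ m * b⁻¹ * a ^ m) ^ 2, ρ b - 1, m, inj ?_ ?_, inj ?_ ?_, inj ?_ ?_⟩
  · rw [← r1, map_pow, map_mul, map_mul, z1, map_inv_quad ρ₁ hB1, w1, map_sub, map_mul, e1,
      map_one, map_ofNat]; norm_num
  · have : ρ₂ b⁻¹ = 1 := by rw [← mul_one (ρ₂ _), ← ha2, ← hb, ← map_mul, inv_mul_cancel, map_one,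
      hb, ha2]
    rw [← r2, map_pow, map_mul, map_mul, z2, this, ha2, map_sub, map_mul, e2]; simp
  · rw [map_mul, e1, mul_one]
  · rw [map_mul, e2, mul_zero, ← s2, ha2, sub_self]
  · rw [map_mul, map_intCast, e1, ← hm, c1, cc]
  · rw [map_mul, e2, map_add, map_mul, map_mul, ← s2, ha2]; simp

/-- Two opposite quadratic elements produce a central involution. -/
theorem exists_neg {X : Type*} [Group X] [Finite R] (hp5 : 5 ≤ p) (hR : (p : R) = 0)
    (ρ : X →* R) (hρ : Function.Injective ρ) {H : Subgroup X}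
    (hSE : ∀ x ∈ H, x ≠ 1 → x ^ p = 1 → ∀ g, g * x * g⁻¹ ∈ H → g ∈ H)
    {a : X} (haH : a ∈ H) (ha1 : a ≠ 1) (hA : (ρ a - 1) * (ρ a - 1) = 0)
    (hT : ∀ x κ, ρ x = 1 + κ * (ρ a - 1) → κ * (ρ a - 1) = (ρ a - 1) * κ → x ∈ zpowers a)
    {g : X} (hg : g * a * g⁻¹ ∉ H) :
    ∃ (h : X) (e B : R) (m : ℤ), ρ h = 1 - 2 * e ∧ e * e = e ∧ (ρ a - 1) * e = ρ a - 1 ∧
      e * (ρ a - 1) = ρ a - 1 ∧ (m : R) * ((ρ a - 1) * B + B * (ρ a - 1)) = e := by
  obtain ⟨M, hM, hee⟩ := exists_idempotent_pow (cc ρ a (g * a * g⁻¹))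
  have hB := quad_conj ρ hA g
  set b := g * a * g⁻¹ with hb
  set e := cc ρ a b ^ M with he
  have cα : Commute (ρ a - 1) (cc ρ a b) := by
    show _ * _ = _ * _
    simp only [cc, mul_add, add_mul, ← mul_assoc, hA, zero_mul]
    simp only [mul_assoc, hA, mul_zero, zero_add, add_zero]
  have cβ : Commute (ρ b - 1) (cc ρ a b) := by
    show _ * _ = _ * _
    simp only [cc, mul_add, add_mul, ← mul_assoc, hB, zero_mul]
    simp only [mul_assoc, hB, mul_zero, zero_add, add_zero]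
  let C := Subring.centralizer ({e} : Set R)
  have memC : ∀ {x}, x ∈ C ↔ Commute x e := by
    intro x; simp [C, Subring.mem_centralizer_iff, Commute, SemiconjBy, eq_comm]
  let Y : Subgroup X :=
    { carrier := {x | ρ x ∈ C}
      one_mem' := by show ρ 1 ∈ C; rw [map_one]; exact C.one_mem
      mul_mem' := fun {x y} hx hy => by show ρ _ ∈ C; rw [map_mul]; exact C.mul_mem hx hy
      inv_mem' := fun {x} hx => by
        refine memC.2 ?_
        have := (memC.1 hx).eq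
        show _ * _ = _ * _
        calc ρ x⁻¹ * e = ρ x⁻¹ * (e * ρ x) * ρ x⁻¹ := by
              rw [mul_assoc, mul_assoc, ← map_mul, mul_inv_cancel, map_one, mul_one]
          _ = e * ρ x⁻¹ := by rw [← this, ← mul_assoc, ← map_mul, inv_mul_cancel, map_one, one_mul] }
  have haY : a ∈ Y := memC.2 (by simpa using (cα.pow_right M).add_left (Commute.one_left e))
  have hbY : b ∈ Y := memC.2 (by simpa using (cβ.pow_right M).add_left (Commute.one_left e))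
  let ρ' : Y →* C := MonoidHom.codRestrict (ρ.comp Y.subtype) C fun x => x.2
  have heC : e ∈ C := memC.2 (Commute.refl e)
  obtain ⟨h, B, m, h1, h2, h3⟩ := exists_neg_aux hp5 (Subtype.ext hR : (p : C) = 0) ρ'
    (fun x y h => Subtype.ext (hρ (congrArg Subtype.val h))) (H := fun x => x.1 ∈ H)
    (fun x hx h1 h2 g hg => hSE x hx (fun e => h1 (Subtype.ext e)) (congrArg Subtype.val h2) g hg)
    (a := ⟨a, haY⟩) haH (fun e => ha1 (congrArg Subtype.val e)) (Subtype.ext hA)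
    (fun x κ h1 h2 => by
      obtain ⟨j, hj⟩ := hT x κ (congrArg Subtype.val h1) (congrArg Subtype.val h2)
      exact ⟨j, Subtype.ext hj⟩)
    (g := ⟨b, hbY⟩) hg (Subtype.ext hB) hM (e := ⟨e, heC⟩) (Subtype.ext rfl) (Subtype.ext hee)
    fun x => Subtype.ext (memC.1 x.2).eq
  have h2' : (ρ a - 1) * e = ρ a - 1 := congrArg Subtype.val h2
  exact ⟨h, e, B, m, congrArg Subtype.val h1, hee, h2', by
    rw [← (cα.pow_right M).eq, h2'], congrArg Subtype.val h3⟩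

end Cut

end Cfsg.Agent.H3.MC
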