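import Cfsg.Agent.Lib.H3.MC1

/-!
# Cyclic nilpotent endomorphisms
-/

set_option autoImplicit false

namespace Cfsg.Agent.H3.MC

open Subgroup Cfsg.Agent.H7 Cfsg.Agent.H9 Polynomial

section Cyc

variable {k V : Type*} [Field k] [AddCommGroup V] [Module k V] {N : Module.End k V} {v₀ : V}
  {w : ℕ}

theorem commute_aeval {B : Module.End k V} (h : Commute B N) (f : k[X]) :
    Commute B (aeval N f) := by
  induction f using Polynomial.induction_on' with
  | add a b ha hb => rw [map_add]; exact ha.add_right hb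
  | monomial i a =>
    rw [aeval_monomial]
    exact (Algebra.commute_algebraMap_right a B).mul_right (h.pow_right i)

theorem isUnit_aeval (hN : IsNilpotent N) {g : k[X]} (hg : g.coeff 0 ≠ 0) :
    IsUnit (aeval N g) := by
  rw [← X_mul_divX_add g, map_add, map_mul, aeval_X, aeval_C]
  refine IsNilpotent.isUnit_add_right_of_commute
    ((commute_aeval (Commute.refl N) _).isNilpotent_mul_right hN)
    ((IsUnit.mk0 _ hg).map _) (Algebra.commutes _ _).symm

theorem exists_X_pow_mul {f : k[X]} (hf : f ≠ 0) : ∃ m g, f = X ^ m * g ∧ g.coeff 0 ≠ 0 := by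
  obtain ⟨g, h1, h2⟩ := exists_eq_pow_rootMultiplicity_mul_and_not_dvd f hf 0
  simp only [map_zero, sub_zero, X_dvd_iff] at h1 h2
  exact ⟨_, g, h1, h2⟩

theorem range_pow_anti (N : Module.End k V) {i j : ℕ} (h : i ≤ j) :
    LinearMap.range (N ^ j) ≤ LinearMap.range (N ^ i) := by
  obtain ⟨d, rfl⟩ := Nat.exists_eq_add_of_le h
  rintro _ ⟨v, rfl⟩
  exact ⟨(N ^ d) v, by rw [pow_add]; rfl⟩

theorem apply_mem_range_succ {j : ℕ} {v : V} (h : v ∈ LinearMap.range (N ^ j)) :
    N v ∈ LinearMap.range (N ^ (j + 1)) := by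
  obtain ⟨u, rfl⟩ := h
  exact ⟨u, by rw [pow_succ']; rfl⟩

theorem exists_aeval_of_coker (hN : IsNilpotent N)
    (h : ∀ v, ∃ c : k, v - c • v₀ ∈ LinearMap.range N) (v : V) : ∃ f : k[X], aeval N f v₀ = v := by
  have key : ∀ j v, ∃ f : k[X], v - aeval N f v₀ ∈ LinearMap.range (N ^ j) := fun j => by
    induction j with
    | zero => exact fun v => ⟨0, by simp⟩
    | succ j ih =>
      intro v
      obtain ⟨c, u, hu⟩ := h v
      obtain ⟨f, hf⟩ := ih u
      refine ⟨C c + X * f, ?_⟩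
      have := apply_mem_range_succ hf
      rw [map_sub, hu] at this
      simpa [Module.algebraMap_end_apply, sub_sub] using this
  obtain ⟨j, hj⟩ := hN
  obtain ⟨f, u, hu⟩ := key j v
  exact ⟨f, by rw [hj, LinearMap.zero_apply] at hu; exact (sub_eq_zero.1 hu.symm).symm⟩

/-- `N` is nilpotent of index `w` with cyclic vector `v₀`. -/
structure Cyc (N : Module.End k V) (v₀ : V) (w : ℕ) : Prop where
  gen : ∀ v, ∃ f : k[X], aeval N f v₀ = v
  nil : ∀ j, N ^ j = 0 ↔ w ≤ j

theorem exists_cyc (hN : IsNilpotent N) (h : ∀ v, ∃ c : k, v - c • v₀ ∈ LinearMap.range N) :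
    ∃ w, Cyc N v₀ w := by
  classical
  exact ⟨Nat.find hN, exists_aeval_of_coker hN h, fun j => ⟨fun e => Nat.find_min' hN e,
    fun e => pow_eq_zero_of_le e (Nat.find_spec hN)⟩⟩

namespace Cyc

theorem isNilpotent (h : Cyc N v₀ w) : IsNilpotent N := ⟨w, (h.nil w).2 le_rfl⟩

theorem eq_zero (h : Cyc N v₀ w) {B : Module.End k V} (hB : Commute B N) (h0 : B v₀ = 0) :
    B = 0 := by
  ext v
  obtain ⟨f, rfl⟩ := h.gen v
  rw [← Module.End.mul_apply, (commute_aeval hB f).eq, Module.End.mul_apply, h0, map_zero]; rfl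

theorem exists_aeval (h : Cyc N v₀ w) {B : Module.End k V} (hB : Commute B N) :
    ∃ f : k[X], B = aeval N f := by
  obtain ⟨f, hf⟩ := h.gen (B v₀)
  exact ⟨f, sub_eq_zero.1 (h.eq_zero (hB.sub_left (commute_aeval (Commute.refl N) f).symm)
    (by rw [LinearMap.sub_apply, hf, sub_self]))⟩

theorem le_of_aeval (h : Cyc N v₀ w) {m : ℕ} {g : k[X]} (hg : g.coeff 0 ≠ 0)
    (h0 : aeval N (X ^ m * g) = 0) : w ≤ m := by
  rw [map_mul, map_pow, aeval_X, (isUnit_aeval h.isNilpotent hg).mul_left_eq_zero] at h0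
  exact (h.nil m).1 h0

theorem mem_range (h : Cyc N v₀ w) {j : ℕ} {v : V} (hv : (N ^ j) v = 0) :
    v ∈ LinearMap.range (N ^ (w - j)) := by
  obtain ⟨f, rfl⟩ := h.gen v
  by_cases hf : f = 0
  · rw [hf, map_zero]; exact Submodule.zero_mem _
  obtain ⟨m, g, rfl, hg⟩ := exists_X_pow_mul hf
  have := h.le_of_aeval (m := j + m) hg (h.eq_zero (commute_aeval (Commute.refl N) _).symm (by
    rw [pow_add, mul_assoc, map_mul, map_pow, aeval_X, Module.End.mul_apply, hv]))
  exact range_pow_anti N (j := m) (by omega) ⟨aeval N g v₀, by rw [map_mul, map_pow, aeval_X]; rfl⟩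

theorem not_mem_range (h : Cyc N v₀ w) {j : ℕ} (hj : j < w) :
    (N ^ j) v₀ ∉ LinearMap.range (N ^ (j + 1)) := by
  rintro ⟨u, hu⟩
  obtain ⟨f, rfl⟩ := h.gen u
  refine absurd (h.le_of_aeval (m := j) (g := 1 - X * f) (by simp)
    (h.eq_zero (commute_aeval (Commute.refl N) _).symm ?_)) (by omega)
  simp only [map_mul, map_pow, aeval_X, map_sub, map_one, mul_sub, mul_one, LinearMap.sub_apply]
  rw [← hu, ← mul_assoc, ← pow_succ, Module.End.mul_apply, sub_self]

theorem exists_smul (h : Cyc N v₀ w) {j : ℕ} {v : V} (hv : v ∈ LinearMap.range (N ^ j)) :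
    ∃ c : k, v - c • (N ^ j) v₀ ∈ LinearMap.range (N ^ (j + 1)) := by
  obtain ⟨u, rfl⟩ := hv
  obtain ⟨f, rfl⟩ := h.gen u
  refine ⟨f.coeff 0, aeval N f.divX v₀, ?_⟩
  have e : aeval N f = N * aeval N f.divX + algebraMap k _ (f.coeff 0) := by
    conv_lhs => rw [← X_mul_divX_add f, map_add, map_mul, aeval_X, aeval_C]
  rw [e]
  simp [pow_succ, Module.algebraMap_end_apply]

/-- The key computation making a central element quadratic. -/
theorem le_of_conj (h : Cyc N v₀ w) {m : ℕ} (hm : ((m + 1 : ℕ) : k) ≠ 0) {g : k[X]}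
    (hg : g.coeff 0 ≠ 0) {Y : Module.End k V} (hY : IsUnit Y)
    (h1 : Y * aeval N (X ^ (m + 1) * g) = aeval N (X ^ (m + 1) * g) * Y)
    (h2 : Y * N = (N + (1 + N) * aeval N (X ^ (m + 1) * g)) * Y) : w ≤ 2 * m + 1 := by
  set f := X ^ (m + 1) * g with hf
  have key : ∀ q : k[X], Y * aeval N q = aeval N (q.comp (X + (1 + X) * f)) * Y := fun q => by
    induction q using Polynomial.induction_on' with
    | add a b ha hb => rw [add_comp, map_add, map_add, mul_add, add_mul, ha, hb]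
    | monomial i a =>
      rw [monomial_comp, aeval_monomial, map_mul, aeval_C, map_pow, map_add, map_mul, map_add,
        map_one, aeval_X, ← mul_assoc, ← Algebra.commutes, mul_assoc, mul_assoc,
        (SemiconjBy.pow_right h2 i).eq]
  have e1 := key f
  rw [h1, hY.mul_left_inj] at e1
  obtain ⟨c, hc⟩ := binomExpansion (f.map C) X ((1 + X) * f)
  rw [derivative_map, eval_map, eval_map, eval_map, eval₂_C_X, eval₂_C_X] at hc
  refine h.le_of_aeval (g := (C (m + 1 : k) * g + X * derivative g) * (1 + X) * g +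
    X * (c * (1 + X) ^ 2 * g ^ 2)) (by simpa [mul_coeff_zero, hg] using hm) ?_
  rw [comp, hc, add_assoc, map_add, left_eq_add] at e1
  rw [← e1, hf, derivative_mul, derivative_X_pow_succ]
  congr 1; ring

end Cyc

theorem comm_pow_sub {R : Type*} [Ring R] {C N D : R} (h : C * N - N * C = D) (hD : Commute N D)
    (r : ℕ) : C * N ^ (r + 1) - N ^ (r + 1) * C = ((r + 1 : ℕ) : R) * (N ^ r * D) := by
  induction r with
  | zero => simpa using h
  | succ r ih =>
    have e : C * N ^ (r + 1 + 1) - N ^ (r + 1 + 1) * C =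
        (C * N ^ (r + 1) - N ^ (r + 1) * C) * N + N ^ (r + 1) * (C * N - N * C) := by
      rw [pow_succ N (r + 1)]; simp only [sub_mul, mul_sub, mul_assoc]; abel
    rw [e, ih, h, mul_assoc, mul_assoc, ← hD.eq, ← mul_assoc (N ^ r), ← pow_succ]
    push_cast; simp only [add_mul, one_mul]

end Cyc

end Cfsg.Agent.H3.MC
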