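import Cfsg.Agent.Lib.H3.MC2

/-!
# The quadratic case
-/

set_option autoImplicit false

namespace Cfsg.Agent.H3.MC

open Subgroup Cfsg.Agent.H7 Cfsg.Agent.H9 Polynomial LinearMap

variable {p : ℕ} [hp : Fact p.Prime]

theorem pow_p_of_quad {X R : Type*} [Group X] [Ring R] (hR : (p : R) = 0) {ρ : X →* R}
    (hρ : Function.Injective ρ) {x : X} (h : (ρ x - 1) * (ρ x - 1) = 0) : x ^ p = 1 := hρ (by
  rw [← zpow_natCast, one_add_zpow ρ (by abel) h, Int.cast_natCast, hR, zero_mul, add_zero,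
    map_one])

theorem mem_of_mul_eq_zero {X R : Type*} [Group X] [Ring R] (hR : (p : R) = 0) {ρ : X →* R}
    (hρ : Function.Injective ρ) {H : Subgroup X}
    (hSE : ∀ x ∈ H, x ≠ 1 → x ^ p = 1 → ∀ g, g * x * g⁻¹ ∈ H → g ∈ H) {y b : X} (hy : y ∈ H)
    (hy1 : y ≠ 1) (h1 : (ρ y - 1) * (ρ y - 1) = 0) (h2 : (ρ b - 1) * (ρ b - 1) = 0)
    (h3 : (ρ b - 1) * (ρ y - 1) = 0) : b ∈ H := by
  have cm : ∀ x ∈ H, x ≠ 1 → (ρ x - 1) * (ρ x - 1) = 0 → ∀ g, ρ g * ρ x = ρ x * ρ g → g ∈ H :=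
    fun x hx hx1 hq g hg => hSE x hx hx1 (pow_p_of_quad hR hρ hq) g (by
      rwa [show g * x = x * g from hρ (by rw [map_mul, map_mul, hg]), mul_inv_cancel_right])
  have e : ρ (y * b * y⁻¹ * b⁻¹) = 1 + (ρ y - 1) * (ρ b - 1) := by
    rw [map_mul, map_mul, map_mul, map_inv_quad ρ h1, map_inv_quad ρ h2]
    have ey : ρ y = 1 + (ρ y - 1) := by abel
    have eb : ρ b = 1 + (ρ b - 1) := by abel
    generalize ρ y - 1 = C at *
    generalize ρ b - 1 = B at *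
    have a1 : ∀ x, C * (C * x) = 0 := fun x => by rw [← mul_assoc, h1, zero_mul]
    have a2 : ∀ x, B * (C * x) = 0 := fun x => by rw [← mul_assoc, h3, zero_mul]
    rw [ey, eb]
    simp only [mul_add, add_mul, mul_sub, sub_mul, mul_assoc, one_mul, mul_one, a1, a2, h1, h2, h3,
      mul_zero, zero_mul]
    abel
  have ey : ρ y = 1 + (ρ y - 1) := by abel
  have eb : ρ b = 1 + (ρ b - 1) := by abel
  by_cases hx : y * b * y⁻¹ * b⁻¹ = 1
  · refine cm y hy hy1 h1 b ?_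
    rw [← map_mul, ← map_mul, ← mul_inv_eq_iff_eq_mul.1 (mul_inv_eq_one.1 hx)]
  have a1 : ∀ x, (ρ y - 1) * ((ρ y - 1) * x) = 0 := fun x => by rw [← mul_assoc, h1, zero_mul]
  have a2 : ∀ x, (ρ b - 1) * ((ρ y - 1) * x) = 0 := fun x => by rw [← mul_assoc, h3, zero_mul]
  refine cm _ (cm y hy hy1 h1 _ ?_) hx ?_ b ?_
  · rw [e, ey]; simp only [add_sub_cancel_left, mul_add, add_mul, mul_assoc, a1, h3, mul_one,
      one_mul, mul_zero]
    abel
  · rw [e, add_sub_cancel_left, mul_assoc, a2, mul_zero]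
  · rw [e, eb]; simp only [add_sub_cancel_left, mul_add, add_mul, mul_assoc, a2, h2, mul_one,
      one_mul, mul_zero]
    abel

variable {X V : Type*} [Group X] [Finite X] [AddCommGroup V] [Module (ZMod p) V]

theorem natCast_end : (p : Module.End (ZMod p) V) = 0 := by
  rw [← map_natCast (algebraMap (ZMod p) (Module.End (ZMod p) V)), ZMod.natCast_self, map_zero]

theorem map_inv_mem {ρ : X →* Module.End (ZMod p) V} {U : Submodule (ZMod p) V} {x : X}
    (h : ∀ v ∈ U, ρ x v ∈ U) : ∀ v ∈ U, ρ x⁻¹ v ∈ U := by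
  have key : ∀ n : ℕ, ∀ v ∈ U, ρ (x ^ n) v ∈ U := fun n => by
    induction n with
    | zero => simp
    | succ n ih => intro v hv; rw [pow_succ, map_mul]; exact ih _ (h v hv)
  obtain ⟨n, hn⟩ : ∃ n : ℕ, x⁻¹ = x ^ n := ⟨orderOf x - 1, by
    rw [inv_eq_iff_mul_eq_one, ← pow_succ', Nat.sub_add_cancel (orderOf_pos x),
      pow_orderOf_eq_one]⟩
  exact hn ▸ key n

theorem inv_apply (ρ : X →* Module.End (ZMod p) V) (x : X) (v : V) : ρ x⁻¹ (ρ x v) = v := by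
  rw [← Module.End.mul_apply, ← map_mul, inv_mul_cancel, map_one]; rfl

theorem apply_inv (ρ : X →* Module.End (ZMod p) V) (x : X) (v : V) : ρ x (ρ x⁻¹ v) = v := by
  rw [← Module.End.mul_apply, ← map_mul, mul_inv_cancel, map_one]; rfl

/-- The elements acting trivially on `U / U'`. -/
def triv (ρ : X →* Module.End (ZMod p) V) {U U' : Submodule (ZMod p) V} (h : U' ≤ U) :
    Subgroup X where
  carrier := {x | ∀ v ∈ U, ρ x v - v ∈ U'}
  one_mem' := by intro v _; simp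
  mul_mem' {x y} hx hy v hv := by
    have := U'.add_mem (hx _ (by simpa using U.add_mem (h (hy v hv)) hv)) (hy v hv)
    simpa using this
  inv_mem' {x} hx v hv := by
    have := hx _ (map_inv_mem (fun v hv => by simpa using U.add_mem (h (hx v hv)) hv) v hv)
    rw [apply_inv] at this
    simpa using U'.neg_mem this

theorem conj_mem_triv {ρ : X →* Module.End (ZMod p) V} {U U' : Submodule (ZMod p) V} {h : U' ≤ U}
    {u x : X} (h1 : ∀ v ∈ U, ρ u v ∈ U) (h2 : ∀ v ∈ U', ρ u v ∈ U') (hx : x ∈ triv ρ h) :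
    u * x * u⁻¹ ∈ triv ρ h := fun v hv => by
  have := h2 _ (hx _ (map_inv_mem h1 v hv))
  rwa [map_sub, apply_inv, ← Module.End.mul_apply, ← Module.End.mul_apply, ← map_mul,
    ← map_mul] at this

theorem comm_mem_triv {ρ : X →* Module.End (ZMod p) V} {U U' : Submodule (ZMod p) V} {h : U' ≤ U}
    {s t : X} (h1 : ∀ v ∈ U, ρ s v ∈ U) (h2 : ∀ v ∈ U', ρ s v ∈ U') (h3 : ∀ v ∈ U, ρ t v ∈ U)
    (h4 : ∀ v ∈ U', ρ t v ∈ U') {ε : ZMod p} (ht : ∀ v ∈ U, ρ t v - ε • v ∈ U') :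
    s⁻¹ * (t * s * t⁻¹) ∈ triv ρ h := fun v hv => by
  have a1 := ht _ (map_inv_mem h3 v hv)
  have a2 := ht _ (h1 _ (map_inv_mem h3 v hv))
  rw [apply_inv] at a1
  have := map_inv_mem h2 _ (U'.sub_mem a2 (h2 _ a1))
  rw [map_sub (ρ s), map_smul, sub_sub_sub_cancel_right, map_sub, inv_apply] at this
  simpa using this

theorem isPGroup_of_nilpotent [Nontrivial V] {ρ : X →* Module.End (ZMod p) V}
    (hρ : Function.Injective ρ) {K : Subgroup X} (h : ∀ x ∈ K, IsNilpotent (ρ x - 1)) :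
    IsPGroup p K := fun x => by
  have : CharP (Module.End (ZMod p) V) p := (CharP.charP_iff_prime_eq_zero hp.out).2 natCast_end
  obtain ⟨k, hk⟩ := exists_one_add_pow_eq_one (p := p) (h x x.2)
  exact ⟨k, Subtype.ext (hρ (by
    rw [add_sub_cancel, ← map_pow, ← map_one ρ] at hk; exact hk))⟩

theorem le_normalizer_of_conj {P K : Subgroup X} (h : ∀ u ∈ P, ∀ x ∈ K, u * x * u⁻¹ ∈ K) :
    P ≤ normalizer (K : Set X) := fun u hu => mem_normalizer_iff.2 fun x =>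
  ⟨h u hu x, fun hx => by simpa [mul_assoc] using h _ (P.inv_mem hu) _ hx⟩

theorem quad_case [Finite V] (hp5 : 5 ≤ p) (ρ : X →* Module.End (ZMod p) V)
    (hρ : Function.Injective ρ) {H P Γ : Subgroup X} (hPH : P ≤ H)
    (hSE : ∀ x ∈ H, x ≠ 1 → x ^ p = 1 → ∀ g, g * x * g⁻¹ ∈ H → g ∈ H) {g : X} (hg : g ∉ H)
    (hP : SylowIn p P ⊤) {s y z : X} (hs : s ∈ P) (hy : y ∈ P) (hz : z ∈ P) (hz1 : z ≠ 1)
    (hsp : s ^ p = 1) (hzc : ∀ u ∈ P, u * z = z * u) (hys : y * s * y⁻¹ = s * z)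
    {N : Module.End (ZMod p) V} (hN : ρ s = 1 + N) {v₀ : V} {w : ℕ} (hc : Cyc N v₀ w)
    (H1 : ∀ u ∈ P, ∀ j, ∀ v ∈ range (N ^ j), ρ u v - v ∈ range (N ^ (j + 1)))
    (U1 : ∀ u ∈ P, u ∈ Γ → ∀ j, j + 2 < w → ∀ v ∈ range (N ^ j), ρ u v - v ∈ range (N ^ (j + 2)))
    (U2 : ∀ u ∈ P, u ∉ Γ → ∀ j, j + 2 < w → ∀ v ∈ range (N ^ j),
      ρ u v - v ∈ range (N ^ (j + 2)) → v ∈ range (N ^ (j + 1)))
    (hZ : ∀ R₀ ≤ P, R₀ ≤ Γ → (∀ u ∈ P, ∀ x ∈ R₀, u * x * u⁻¹ ∈ R₀) → ¬ R₀ ≤ zpowers z → y ∈ R₀) :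
    False := by
  have : Finite (Module.End (ZMod p) V) := Finite.of_injective _ DFunLike.coe_injective
  have hR : (p : Module.End (ZMod p) V) = 0 := natCast_end
  obtain ⟨A, hA⟩ : ∃ A, ρ z - 1 = A := ⟨_, rfl⟩
  have hA' : ρ z = 1 + A := by rw [← hA]; abel
  have hA0 : A ≠ 0 := fun e => hz1 (hρ (by rw [hA', e, add_zero, map_one]))
  have : Nontrivial V := by
    by_contra hn
    rw [not_nontrivial_iff_subsingleton] at hn
    exact hA0 (Subsingleton.elim _ _)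
  have : CharP (Module.End (ZMod p) V) p := (CharP.charP_iff_prime_eq_zero hp.out).2 hR
  have cA : ∀ u ∈ P, Commute (ρ u) A := fun u hu => by
    rw [← hA]
    exact Commute.sub_right (by show _ * _ = _ * _; rw [← map_mul, hzc u hu, map_mul])
      (Commute.one_right _)
  have cAN : Commute A N := by simpa [hN] using (cA s hs).symm.sub_right (Commute.one_right A)
  obtain ⟨f, hf⟩ := hc.exists_aeval cAN
  obtain ⟨k, q, rfl, hq⟩ := exists_X_pow_mul (f := f) (fun e => hA0 (by rw [hf, e, map_zero]))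
  have hu := isUnit_aeval hc.isNilpotent hq
  have cu := commute_aeval (Commute.refl N) q
  have hA1 : A = N ^ k * aeval N q := by rw [hf, map_mul, map_pow, aeval_X]
  have hkw : k < w := by
    by_contra h; exact hA0 (by rw [hA1, (hc.nil k).2 (by omega), zero_mul])
  have rA : range A = range (N ^ k) := by
    refine le_antisymm (by rintro _ ⟨v, rfl⟩; exact ⟨aeval N q v, by rw [hA1]; rfl⟩) ?_
    rintro _ ⟨v, rfl⟩
    obtain ⟨v, rfl⟩ := ((Module.End.isUnit_iff _).1 hu).2 v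
    exact ⟨v, by rw [hA1]; rfl⟩
  have top0 : ∀ v, v ∈ range (N ^ 0) := fun v => ⟨v, rfl⟩
  obtain ⟨m, rfl⟩ : ∃ m, k = m + 1 := by
    refine Nat.exists_eq_succ_of_ne_zero ?_
    rintro rfl
    obtain ⟨v, hv⟩ : v₀ ∈ range A := rA ▸ top0 v₀
    refine hc.not_mem_range hkw ?_
    have := H1 z hz 0 v (top0 v)
    rwa [hA', LinearMap.add_apply, Module.End.one_apply, add_sub_cancel_left, hv] at this
  have hwp : w ≤ p := (hc.nil p).1 (by
    have := add_pow_char_of_commute p (Commute.one_left N)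
    rw [← hN, ← map_pow, hsp, map_one, one_pow] at this
    exact (left_eq_add.1 this))
  have cast_ne : ∀ j, 0 < j → j < w → ((j : ℕ) : ZMod p) ≠ 0 := fun j h1 h2 e => by
    have := Nat.le_of_dvd h1 ((ZMod.natCast_eq_zero_iff j p).1 e); omega
  have hYN : ρ y * N = (N + (1 + N) * A) * ρ y := by
    have := congrArg ρ (mul_inv_eq_iff_eq_mul.1 hys)
    rw [map_mul, map_mul, map_mul, hN, hA'] at this
    rw [← add_right_inj (ρ y), ← mul_one_add, this]; noncomm_ring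
  have hw : w ≤ 2 * m + 1 := hc.le_of_conj (cast_ne _ (by omega) hkw) hq
    ((Group.isUnit y).map ρ) (hf ▸ (cA y hy).eq) (hf ▸ hYN)
  obtain ⟨d, rfl⟩ : ∃ d, w = m + 1 + (d + 1) := ⟨w - (m + 1) - 1, by omega⟩
  have kA : ker A = range (N ^ (d + 1)) := by
    refine le_antisymm (fun v hv => ?_) ?_
    · have := hc.mem_range (j := m + 1) (v := v) (((Module.End.isUnit_iff _).1 hu).1 (by
        rw [← Module.End.mul_apply, ← (cu.pow_left _).eq, ← hA1, map_zero]; exact hv))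
      rwa [Nat.add_sub_cancel_left] at this
    · rintro _ ⟨v, rfl⟩
      rw [mem_ker, ← Module.End.mul_apply, hA1, mul_assoc, ← (cu.pow_left _).eq, ← mul_assoc,
        ← pow_add, (hc.nil _).2 le_rfl, zero_mul, LinearMap.zero_apply]
  have rk : range A ≤ ker A := by rw [rA, kA]; exact range_pow_anti N (by omega)
  have hAA : A * A = 0 := LinearMap.ext fun v => rk ⟨v, rfl⟩
  have inv1 : ∀ u, Commute (ρ u) A → ∀ v ∈ ker A, ρ u v ∈ ker A := fun u hu v hv => by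
    rw [mem_ker, ← Module.End.mul_apply, ← hu.eq, Module.End.mul_apply, hv, map_zero]
  have inv2 : ∀ u, Commute (ρ u) A → ∀ v ∈ range A, ρ u v ∈ range A := by
    rintro u hu _ ⟨v, rfl⟩
    exact ⟨ρ u v, by rw [← Module.End.mul_apply, ← hu.eq]; rfl⟩
  have inv3 : ∀ u, ∀ v ∈ (⊥ : Submodule (ZMod p) V), ρ u v ∈ (⊥ : Submodule (ZMod p) V) := by
    intro u v hv; rw [(Submodule.mem_bot _).1 hv, map_zero]; exact Submodule.zero_mem _
  have hv0 : v₀ ∉ range (N ^ (0 + 1)) := hc.not_mem_range (j := 0) (by omega)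
  -- `R₀ = T`
  have hR0 : triv ρ (bot_le : ⊥ ≤ ker A) ⊓ triv ρ (le_top : range A ≤ ⊤) ≤ zpowers z := by
    set R₀ := triv ρ (bot_le : ⊥ ≤ ker A) ⊓ triv ρ (le_top : range A ≤ ⊤)
    have hn : ∀ u ∈ P, ∀ x ∈ R₀, u * x * u⁻¹ ∈ R₀ := fun u hu x hx =>
      ⟨conj_mem_triv (inv1 u (cA u hu)) (inv3 u) hx.1,
        conj_mem_triv (fun _ _ => trivial) (inv2 u (cA u hu)) hx.2⟩
    have hle : R₀ ≤ P := hP.le_of_le_normalizer (isPGroup_of_nilpotent hρ fun x hx =>
      ⟨2, LinearMap.ext fun v => by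
        simpa [sq] using hx.1 _ (rk (hx.2 v trivial))⟩) le_top (le_normalizer_of_conj hn)
    by_contra hne
    have hy0 := hZ R₀ hle (fun x hx => by
      by_contra hxΓ
      exact hv0 (U2 x (hle hx) hxΓ 0 (by omega) v₀ (top0 _)
        (range_pow_anti N (by omega) (rA ▸ hx.2 v₀ trivial)))) hn hne
    obtain ⟨C, hC⟩ : ∃ C, ρ y = 1 + C := ⟨ρ y - 1, by abel⟩
    have c1 : ∀ v ∈ ker A, C v = 0 := fun v hv => by simpa [hC] using hy0.1 v hv
    have c2 : ∀ v, C v ∈ range A := fun v => by simpa [hC] using hy0.2 v trivial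
    have c3 : A * C = 0 := LinearMap.ext fun v => rk (c2 v)
    have e := comm_pow_sub (C := C) (N := N) (D := (1 + N) * A) (by
      rw [hC, mul_add, mul_one, add_mul (N), mul_assoc, c3, add_mul 1 C, one_mul] at hYN
      rw [sub_eq_iff_eq_add, ← add_right_inj N, hYN]; simp only [mul_zero]; abel)
      (((Commute.one_right N).add_right (Commute.refl N)).mul_right cAN.symm) d
    have e1 : C * N ^ (d + 1) = 0 := LinearMap.ext fun v => c1 _ (kA ▸ ⟨v, rfl⟩)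
    have e2 : N ^ (d + 1) * C = 0 := LinearMap.ext fun v => by
      obtain ⟨u, hu⟩ : C v ∈ range (N ^ (m + 1)) := rA ▸ c2 v
      rw [Module.End.mul_apply, ← hu, ← Module.End.mul_apply, ← pow_add, (hc.nil _).2 (by omega)]; rfl
    rw [e1, e2, sub_self] at e
    refine absurd (hc.le_of_aeval (m := m + 1 + d)
      (g := Polynomial.C (d + 1 : ZMod p) * ((1 + Polynomial.X) * q))
      (by simpa [mul_coeff_zero, hq] using cast_ne (d + 1) (by omega) (by omega)) ?_) (by omega)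
    rw [show Polynomial.X ^ (m + 1 + d) * (Polynomial.C (d + 1 : ZMod p) *
        ((1 + Polynomial.X) * q)) = ((d + 1 : ℕ) : (ZMod p)[X]) * (Polynomial.X ^ d *
        ((1 + Polynomial.X) * (Polynomial.X ^ (m + 1) * q))) by
        push_cast; simp only [map_add, map_natCast, map_one]; ring,
      map_mul, map_natCast, map_mul, map_mul, ← hf, map_pow, map_add, map_one, aeval_X, ← e]
  have hzp : z ^ p = 1 := pow_p_of_quad hR hρ (by rw [hA, hAA])
  have hgz : g * z * g⁻¹ ∉ H := fun h => hg (hSE z (hPH hz) hz1 hzp g h)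
  obtain ⟨h, e, B, i, h1, h2, h3, h4, h5⟩ := exists_neg hp5 hR ρ hρ hSE (hPH hz) hz1
    (by rw [hA, hAA]) (fun x κ hx hκ => hR0 ⟨fun v hv => by
      rw [hx, hA]; simp [mem_ker.1 hv], fun v _ => ⟨κ v, by
      rw [hx, hκ, hA]; simp⟩⟩) hgz
  rw [hA] at h3 h4 h5
  have ch : Commute (ρ h) A := by
    rw [h1]
    exact (Commute.one_left A).sub_left ((Commute.ofNat_left 2 A).mul_left (h4.trans h3.symm))
  have hv : ∀ v, ρ h v = v - (2 : ZMod p) • e v := fun v => by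
    rw [h1, two_mul, two_smul]; rfl
  have t1 : ∀ v ∈ (⊤ : Submodule (ZMod p) V), ρ h v - (-1 : ZMod p) • v ∈ ker A := fun v _ => by
    rw [mem_ker, hv, map_sub, map_sub, map_smul, map_smul, ← Module.End.mul_apply A e, h3,
      two_smul]
    simp
  have t2 : ∀ v ∈ ker A, ρ h v - (1 : ZMod p) • v ∈ range A := fun v hv' => by
    rw [hv, one_smul, sub_sub_cancel_left]
    refine Submodule.neg_mem _ (Submodule.smul_mem _ _ ⟨(i : ZMod p) • B v, ?_⟩)
    rw [← h5]; simp [mem_ker.1 hv', Int.cast_smul_eq_zsmul]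
  have t3 : ∀ v ∈ range A, ρ h v - (-1 : ZMod p) • v ∈ (⊥ : Submodule (ZMod p) V) := by
    rintro _ ⟨v, rfl⟩
    rw [hv, ← Module.End.mul_apply e A, h4, two_smul]; simp
  set R := triv ρ (le_top : ker A ≤ ⊤) ⊓ triv ρ rk ⊓ triv ρ (bot_le : ⊥ ≤ range A) with hRdef
  have hRP : R ≤ P := hP.le_of_le_normalizer (isPGroup_of_nilpotent hρ fun x hx =>
      ⟨3, LinearMap.ext fun v => by
        simpa [pow_succ] using hx.2 _ (hx.1.2 _ (hx.1.1 v trivial))⟩) le_top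
    (le_normalizer_of_conj fun u hu x hx =>
      ⟨⟨conj_mem_triv (fun _ _ => trivial) (inv1 u (cA u hu)) hx.1.1,
        conj_mem_triv (inv1 u (cA u hu)) (inv2 u (cA u hu)) hx.1.2⟩,
        conj_mem_triv (inv2 u (cA u hu)) (inv3 u) hx.2⟩)
  have hr : s⁻¹ * (h * s * h⁻¹) ∈ R :=
    ⟨⟨comm_mem_triv (fun _ _ => trivial) (inv1 s (cA s hs)) (fun _ _ => trivial) (inv1 h ch) t1,
      comm_mem_triv (inv1 s (cA s hs)) (inv2 s (cA s hs)) (inv1 h ch) (inv2 h ch) t2⟩,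
      comm_mem_triv (inv2 s (cA s hs)) (inv3 s) (inv2 h ch) (inv3 h) t3⟩
  have sN : ∀ v, ρ s v = v + N v := fun v => by rw [hN]; rfl
  by_cases hrΓ : s⁻¹ * (h * s * h⁻¹) ∈ Γ
  · have a1 := U1 _ (hRP hr) hrΓ d (by omega) _ ⟨v₀, rfl⟩
    set v := (N ^ d) v₀ with hvdef
    set W := range (N ^ (d + 2)) with hW
    have rW : range A ≤ W := rA ▸ range_pow_anti N (by omega)
    have Wk : W ≤ ker A := kA ▸ range_pow_anti N (by omega)
    have NW : ∀ t ∈ W, N t ∈ W := fun t ht =>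
      range_pow_anti N (Nat.le_succ _) (apply_mem_range_succ ht)
    have Nk : ∀ t ∈ ker A, N t ∈ W := fun t ht => apply_mem_range_succ (kA ▸ ht)
    have Nv : N v ∈ ker A := kA ▸ apply_mem_range_succ ⟨v₀, rfl⟩
    have a2 : ρ s (ρ (s⁻¹ * (h * s * h⁻¹)) v - v) ∈ W := by
      rw [sN]; exact W.add_mem a1 (NW _ a1)
    rw [map_sub, map_mul, Module.End.mul_apply, apply_inv, map_mul, map_mul, Module.End.mul_apply,
      Module.End.mul_apply, sN, sN, map_add, apply_inv] at a2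
    have a3 : ρ h⁻¹ v + v ∈ ker A := by
      have := map_inv_mem (inv1 h ch) _ (t1 v trivial)
      rw [map_sub, inv_apply, map_smul] at this
      simpa [add_comm] using this
    have a4 := Nk _ a3
    have a5 := W.add_mem (rW (t2 _ (Wk a4))) ((Submodule.smul_mem _ 1 a4))
    have a6 := rW (t2 _ Nv)
    have a7 := W.sub_mem (W.sub_mem a5 a2) a6
    simp only [map_add, one_smul] at a7
    have a8 : (2 : ZMod p) • N v ∈ W := by convert a7 using 1; rw [two_smul]; abel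
    refine hc.not_mem_range (j := d + 1) (by omega) ?_
    rw [pow_succ' N d, Module.End.mul_apply]
    exact (W.smul_mem_iff (by exact_mod_cast cast_ne 2 (by omega) (by omega))).1 a8
  obtain rfl : d = 0 := by
    by_contra hd
    exact hv0 (U2 _ (hRP hr) hrΓ 0 (by omega) v₀ (top0 _)
      (range_pow_anti N (by omega) (kA ▸ hr.1.1 v₀ trivial)))
  obtain rfl : m = 1 := by
    by_contra hm
    exact hc.not_mem_range (j := 1) (by omega) (U2 _ (hRP hr) hrΓ 1 (by omega) _ ⟨v₀, rfl⟩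
      (range_pow_anti N (by omega) (rA ▸ hr.1.2 _ (by rw [kA]; exact ⟨v₀, rfl⟩))))
  -- dimension three
  have n3 : N ^ (2 + 1) = 0 := (hc.nil _).2 le_rfl
  have top2 : ∀ v ∈ range (N ^ 2), ∃ c : ZMod p, v = c • (N ^ 2) v₀ := fun v hv => by
    obtain ⟨c, u, hu⟩ := hc.exists_smul hv
    exact ⟨c, sub_eq_zero.1 (by rw [← hu, n3]; rfl)⟩
  obtain ⟨c, hc1⟩ := top2 _ (H1 y hy 1 _ ⟨v₀, rfl⟩)
  have sz : ∀ j : ℤ, ρ (s ^ j) ((N ^ 1) v₀) = (N ^ 1) v₀ + (j : ZMod p) • (N ^ 2) v₀ := by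
    have f0 : ∀ u ∈ P, ρ u ((N ^ 2) v₀) = (N ^ 2) v₀ := fun u hu => by
      obtain ⟨t, ht⟩ := H1 u hu 2 _ ⟨v₀, rfl⟩
      rw [n3] at ht; exact sub_eq_zero.1 ht.symm
    have f1 : ρ s ((N ^ 1) v₀) = (N ^ 1) v₀ + (N ^ 2) v₀ := by rw [sN, pow_one, sq]; rfl
    intro j
    induction j using Int.induction_on with
    | zero => simp
    | succ j ih =>
      rw [add_comm, zpow_one_add, map_mul, Module.End.mul_apply, ih, map_add, map_smul, f1,
        f0 s hs]
      push_cast; module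
    | pred j ih =>
      apply ((Module.End.isUnit_iff _).1 ((Group.isUnit s).map ρ)).1
      rw [← Module.End.mul_apply, ← map_mul, ← zpow_one_add, add_sub_cancel, ih, map_add, map_smul,
        f1, f0 s hs]
      push_cast; module
  obtain ⟨j₀, hj₀⟩ := ZMod.intCast_surjective (-c)
  have hy₁ : s ^ j₀ * y ∈ P := P.mul_mem (P.zpow_mem hs _) hy
  have f0 : ∀ u ∈ P, ρ u ((N ^ 2) v₀) = (N ^ 2) v₀ := fun u hu => by
    obtain ⟨t, ht⟩ := H1 u hu 2 _ ⟨v₀, rfl⟩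
    rw [n3] at ht; exact sub_eq_zero.1 ht.symm
  have fix : ∀ v ∈ range (N ^ 1), ρ (s ^ j₀ * y) v = v := fun v hv => by
    obtain ⟨a, ha⟩ := hc.exists_smul hv
    obtain ⟨b, hb⟩ := top2 _ ha
    rw [sub_eq_iff_eq_add.1 hb, map_add, map_smul, map_smul, f0 _ hy₁, map_mul,
      Module.End.mul_apply, sub_eq_iff_eq_add.1 hc1, map_add, map_smul, f0 _ (P.zpow_mem hs _), sz,
      hj₀]
    module
  have hy₁s : ∀ j : ℕ, (s ^ j₀ * y) ^ j * s * ((s ^ j₀ * y) ^ j)⁻¹ = s * z ^ j := fun j => by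
    have b1 : s ^ j₀ * y * s * (s ^ j₀ * y)⁻¹ = s * z := by
      rw [show s ^ j₀ * y * s * (s ^ j₀ * y)⁻¹ = s ^ j₀ * (y * s * y⁻¹) * (s ^ j₀)⁻¹ by group, hys,
        mul_inv_eq_iff_eq_mul, mul_assoc, ← hzc _ (P.zpow_mem hs _), ← mul_assoc, ← mul_assoc,
        (Commute.zpow_self s j₀).eq]
    induction j with
    | zero => simp
    | succ j ih =>
      rw [show (s ^ j₀ * y) ^ (j + 1) * s * ((s ^ j₀ * y) ^ (j + 1))⁻¹ = (s ^ j₀ * y) ^ j *
        (s ^ j₀ * y * s * (s ^ j₀ * y)⁻¹) * ((s ^ j₀ * y) ^ j)⁻¹ by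
          generalize s ^ j₀ * y = u; group, b1, ← mul_assoc,
        mul_assoc _ z, ← hzc _ (P.inv_mem (P.pow_mem hy₁ j)), ← mul_assoc, ih, mul_assoc, pow_succ]
  generalize s ^ j₀ * y = y₁ at hy₁ fix hy₁s
  obtain ⟨C, hC⟩ : ∃ C, ρ y₁ - 1 = C := ⟨_, rfl⟩
  have c1 : ∀ v ∈ range (N ^ 1), C v = 0 := fun v hv => by rw [← hC]; simp [fix v hv]
  have c2 : ∀ v, C v ∈ range (N ^ 1) := fun v => by rw [← hC]; exact H1 _ hy₁ 0 v (top0 v)
  have c3 : ∀ v ∈ range (N ^ 1), A v = 0 := fun v hv => by rw [← mem_ker, kA]; exact hv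
  have c4 : ∀ v, A v ∈ range (N ^ 1) := fun v => kA ▸ rk ⟨v, rfl⟩
  have hCC : C * C = 0 := LinearMap.ext fun v => c1 _ (c2 v)
  have hCA : C * A = 0 := LinearMap.ext fun v => c1 _ (c4 v)
  have hB : ∀ v, ∃ a : ZMod p, (ρ (g * z * g⁻¹) - 1) v = a • ρ g ((N ^ 2) v₀) := fun v => by
    obtain ⟨a, ha⟩ := top2 (A (ρ g⁻¹ v)) (rA ▸ ⟨_, rfl⟩)
    exact ⟨a, by rw [map_conj_sub, hA, Module.End.mul_apply, Module.End.mul_apply, ha, map_smul]⟩
  have key : ∀ a b : ZMod p, (ρ (g * z * g⁻¹) - 1) ((a • C + b • A) v₀) = 0 →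
      y₁ ^ a.val * z ^ b.val = 1 := fun a b hab => by
    have e1 : ρ (y₁ ^ a.val * z ^ b.val) - 1 = a • C + b • A := by
      rw [map_mul, ← zpow_natCast, ← zpow_natCast, one_add_zpow ρ (α := C) (by rw [← hC]; abel) hCC,
        one_add_zpow ρ hA' hAA, Int.cast_natCast, Int.cast_natCast, ← nsmul_eq_mul, ← nsmul_eq_mul,
        ← Nat.cast_smul_eq_nsmul (ZMod p), ← Nat.cast_smul_eq_nsmul (ZMod p), ZMod.natCast_zmod_val,
        ZMod.natCast_zmod_val, add_mul, mul_add, mul_add, smul_mul_smul_comm, hCA]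
      simp only [mul_one, one_mul, smul_zero, add_zero]; abel
    have k1 : ∀ v ∈ range (N ^ 1), (a • C + b • A) v = 0 := fun v hv => by simp [c1 v hv, c3 v hv]
    by_contra hne
    refine hgz (mem_of_mul_eq_zero hR hρ hSE (hPH (P.mul_mem (P.pow_mem hy₁ _) (P.pow_mem hz _)))
      hne ?_ (quad_conj ρ (by rw [hA, hAA]) g) ?_)
    · rw [e1]
      exact LinearMap.ext fun v => k1 _ (Submodule.add_mem _ (Submodule.smul_mem _ _ (c2 v))
        (Submodule.smul_mem _ _ (c4 v)))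
    · rw [e1]
      refine LinearMap.ext fun v => ?_
      obtain ⟨t, ht⟩ := hc.exists_smul (top0 v)
      rw [← sub_add_cancel v (t • (N ^ 0) v₀), Module.End.mul_apply, map_add, k1 _ ht, zero_add,
        map_smul, map_smul, pow_zero, Module.End.one_apply, hab, smul_zero, LinearMap.zero_apply]
  have hoz : orderOf z = p := orderOf_eq_prime hzp hz1
  have zval : ∀ a : ZMod p, z ^ a.val = 1 → a = 0 := fun a ha => by
    rw [← orderOf_dvd_iff_pow_eq_one, hoz, ← ZMod.natCast_eq_zero_iff, ZMod.natCast_zmod_val] at ha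
    exact ha
  obtain ⟨a₁, ha₁⟩ := hB (C v₀)
  obtain ⟨a₂, ha₂⟩ := hB (A v₀)
  by_cases h0 : a₂ = 0
  · exact one_ne_zero (zval 1 (by simpa using key 0 1 (by
      rw [zero_smul, one_smul, zero_add, ha₂, h0, zero_smul])))
  have := key a₂ (-a₁) (by
    rw [LinearMap.add_apply, LinearMap.smul_apply, LinearMap.smul_apply, map_add, map_smul,
      map_smul, ha₁, ha₂]; module)
  have b2 := hy₁s a₂.val
  rw [eq_inv_of_mul_eq_one_left this, inv_inv, mul_assoc,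
    (Commute.pow_right (hzc s hs : Commute s z) _).eq, inv_mul_cancel_left, left_eq_mul] at b2
  exact h0 (zval _ b2)

end Cfsg.Agent.H3.MC
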