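import Cfsg.Agent.Lib.H3.MC3
import Mathlib.Algebra.DualNumber

/-!
# A corestricted derivation
-/

set_option autoImplicit false

namespace Cfsg.Agent.H3.MC

open Subgroup Cfsg.Agent.H7 Cfsg.Agent.H9 Polynomial LinearMap MulAction

variable {p : ℕ} [hp : Fact p.Prime]

section Sec

variable {X : Type*} [Group X] {P H : Subgroup X}

theorem out_mem_iff (hPH : P ≤ H) {x : X} {ω : X ⧸ P} (h : (x : X ⧸ P) = ω) :
    ω.out ∈ H ↔ x ∈ H := by
  have : x⁻¹ * ω.out ∈ P := QuotientGroup.eq.1 (by rw [h, QuotientGroup.out_eq'])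
  exact ⟨fun h' => by simpa using H.mul_mem h' (H.inv_mem (hPH this)),
    fun h' => by simpa using H.mul_mem h' (hPH this)⟩

theorem smul_out_mem_iff (hPH : P ≤ H) {g : X} (hg : g ∈ H) (ω : X ⧸ P) :
    (g • ω).out ∈ H ↔ ω.out ∈ H := by
  rw [out_mem_iff hPH (x := g * ω.out) (by
    rw [← smul_eq_mul, ← Quotient.smul_coe, QuotientGroup.out_eq']), H.mul_mem_cancel_left hg]

theorem free_out (hTI : ∀ u ∈ P, u ≠ 1 → ∀ g, g⁻¹ * u * g ∈ P → g ∈ H) {u : X} (hu : u ∈ P)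
    {ω : X ⧸ P} (hω : ω.out ∉ H) (h : u • ω = ω) : u = 1 := by
  by_contra h1
  refine hω (hTI u hu h1 _ ?_)
  rw [mul_assoc, ← QuotientGroup.eq, QuotientGroup.out_eq', ← smul_eq_mul, ← Quotient.smul_coe,
    QuotientGroup.out_eq', h]

theorem exists_section (hPH : P ≤ H) (hTI : ∀ u ∈ P, u ≠ 1 → ∀ g, g⁻¹ * u * g ∈ P → g ∈ H) :
    ∃ σ : X ⧸ P → X, (∀ ω, (σ ω : X ⧸ P) = ω) ∧
      ∀ u ∈ P, ∀ ω : X ⧸ P, ω.out ∉ H → σ (u • ω) = u * σ ω := by
  let r : X ⧸ P → X ⧸ P := fun ω => (Quotient.mk (orbitRel P (X ⧸ P)) ω).out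
  have hr : ∀ ω, ∃ u : P, u • r ω = ω := fun ω =>
    (orbitRel P (X ⧸ P)).symm (Quotient.mk_out (s := orbitRel P (X ⧸ P)) ω)
  choose u hu using hr
  refine ⟨fun ω => u ω * (r ω).out, fun ω => ?_, fun a ha ω hω => ?_⟩
  · show (((u ω : X) • (r ω).out : X) : X ⧸ P) = ω
    rw [← Quotient.smul_coe, QuotientGroup.out_eq']; exact hu ω
  have e : r (a • ω) = r ω := congrArg Quotient.out (Quotient.sound ⟨⟨a, ha⟩, rfl⟩)
  have h1 : (u (a • ω) : X) • r ω = a • ω := e ▸ hu (a • ω)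
  have h2 : (u ω : X) • r ω = ω := hu ω
  have h3 : (r ω).out ∉ H := by rwa [← smul_out_mem_iff hPH (hPH (u ω).2), h2]
  have := free_out hTI (u := (u (a • ω) : X)⁻¹ * (a * u ω))
    (P.mul_mem (P.inv_mem (u _).2) (P.mul_mem ha (u ω).2)) h3
    (by rw [mul_smul, mul_smul, h2, inv_smul_eq_iff, h1])
  show u (a • ω) * (r (a • ω)).out = a * (u ω * (r ω).out)
  rw [e, inv_mul_eq_one.1 this, mul_assoc]

end Sec

section Log

variable {X R : Type*} [Group X] [Ring R] [Algebra (ZMod p) R]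

/-- A substitute for the logarithm. -/
noncomputable def logM (p : ℕ) [Fact p.Prime] [Algebra (ZMod p) R] (ρ : X →* R) (u : X) : R :=
  ∑ j : ZMod p, j⁻¹ • ρ (u ^ j.val)

theorem logM_conj (ρ : X →* R) (y u : X) : ρ y * logM p ρ u * ρ y⁻¹ = logM p ρ (y * u * y⁻¹) := by
  simp only [logM, Finset.mul_sum, Finset.sum_mul, mul_smul_comm, smul_mul_assoc, ← map_mul,
    conj_pow]

theorem logM_pow (ρ : X →* R) {u : X} (hu : u ^ p = 1) {i : ZMod p} (hi : i ≠ 0) :
    logM p ρ (u ^ i.val) = i • logM p ρ u := by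
  rw [logM, logM, Finset.smul_sum, eq_comm, ← Equiv.sum_comp (Equiv.mulLeft₀ i hi)]
  refine Finset.sum_congr rfl fun j _ => ?_
  rw [← pow_mul, Equiv.mulLeft₀_apply, smul_smul, mul_inv, mul_inv_cancel_left₀ hi, ZMod.val_mul,
    ← pow_eq_pow_mod _ hu]

theorem exists_logM (hp2 : p ≠ 2) (ρ : X →* R) (u : X) :
    ∃ q : (ZMod p)[X], q.coeff 0 ≠ 0 ∧ logM p ρ u = (ρ u - 1) * aeval (ρ u - 1) q := by
  let m : (ZMod p)[X] := ∑ j : ZMod p, C j⁻¹ * (1 + Polynomial.X) ^ j.val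
  have h0 : m.coeff 0 = 0 := by
    simp only [m, finset_sum_coeff, coeff_C_mul, coeff_one_add_X_pow, Nat.choose_zero_right,
      Nat.cast_one, mul_one]
    have e1 : ∑ j : ZMod p, j⁻¹ = ∑ j : ZMod p, j := (Equiv.mk _ _ inv_inv inv_inv).sum_comp fun j => j
    have e2 : ∑ j : ZMod p, -j = ∑ j : ZMod p, j := Equiv.sum_comp (Equiv.neg (ZMod p)) fun j => j
    rw [Finset.sum_neg_distrib] at e2
    have h2 : (2 : ZMod p) ≠ 0 := fun e => hp2 ((Nat.prime_dvd_prime_iff_eq hp.out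
      Nat.prime_two).1 ((ZMod.natCast_eq_zero_iff 2 p).1 (by exact_mod_cast e)))
    exact e1.trans ((mul_eq_zero.1 (by linear_combination -e2)).resolve_left h2)
  have h1 : m.coeff 1 = -1 := by
    simp only [m, finset_sum_coeff, coeff_C_mul, coeff_one_add_X_pow, Nat.choose_one_right,
      ZMod.natCast_zmod_val]
    have : ∀ j : ZMod p, j⁻¹ * j = 1 - if j = 0 then 1 else 0 := fun j => by
      split_ifs with h
      · simp [h]
      · simp [inv_mul_cancel₀ h]
    simp [this]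
  refine ⟨m.divX, by rw [coeff_divX, zero_add, h1]; simp, ?_⟩
  have e := X_mul_divX_add m
  rw [h0, map_zero, add_zero] at e
  calc logM p ρ u = aeval (ρ u - 1) m := by
        simp [m, logM, Algebra.smul_def]
    _ = _ := by conv_lhs => rw [← e, map_mul, aeval_X]

end Log

section Tr

variable {X V : Type*} [Group X] [AddCommGroup V] [Module (ZMod p) V] [Finite V]

theorem trace_deriv_of_coprime {ρ : X →* Module.End (ZMod p) V} {D : X → Module.End (ZMod p) V}
    (hD : ∀ g g', D (g * g') = D g * ρ g' + ρ g * D g') {g : X} {n : ℕ} (hg : g ^ n = 1)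
    (hn : ¬ p ∣ n) : trace _ _ (D g) = 0 := by
  have h1 : D 1 = 0 := by simpa using hD 1 1
  have key : ∀ n r : ℕ, trace _ _ (D (g ^ n) * ρ g ^ (r + 1)) =
      (n : ZMod p) * trace _ _ (D g * ρ g ^ (n + r)) := fun n => by
    induction n with
    | zero => simp [h1]
    | succ n ih =>
      intro r
      rw [pow_succ g, hD, add_mul, map_add, mul_assoc, ← pow_succ', ih, mul_assoc, trace_mul_comm
        _ (ρ _), mul_assoc, map_pow, ← pow_add]
      rw [show n + (r + 1) = n + 1 + r by ring, show r + 1 + n = n + 1 + r by ring]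
      push_cast; ring
  have := key n 0
  rw [hg, h1, zero_mul, map_zero, add_zero, ← map_pow, hg, map_one, mul_one] at this
  exact (mul_eq_zero.1 this.symm).resolve_left fun e => hn ((ZMod.natCast_eq_zero_iff n p).1 e)

theorem eq_zero_of_deriv {ρ : X →* Module.End (ZMod p) V} {D : X → Module.End (ZMod p) V}
    (hD : ∀ g g', D (g * g') = D g * ρ g' + ρ g * D g') (htr : ∀ g, trace _ _ (D g) = 0)
    (irr : ∀ U : Submodule (ZMod p) V, (∀ g, ∀ v ∈ U, ρ g v ∈ U) → U = ⊥ ∨ U = ⊤)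
    {s t : X} (hs : D s = 0) (hst : s * t = t * s) {v₀ : V} {w : ℕ} (hc : Cyc (ρ s - 1) v₀ w) :
    D t = 0 := by
  have h1 : D 1 = 0 := by simpa using hD 1 1
  let ρ' : X →* DualNumber (Module.End (ZMod p) V) :=
    { toFun := fun g => TrivSqZeroExt.inl (ρ g) + TrivSqZeroExt.inr (D g)
      map_one' := TrivSqZeroExt.ext (by simp) (by simp [h1])
      map_mul' := fun g g' => TrivSqZeroExt.ext (by simp) (by
        rw [DualNumber.snd_mul]; simp [hD, add_comm]) }
  have r1 : ∀ g, (ρ' g).fst = ρ g := fun g => by simp [ρ']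
  have r2 : ∀ g, (ρ' g).snd = D g := fun g => by simp [ρ']
  have key : ∀ a ∈ Algebra.adjoin (ZMod p) (Set.range ρ'), trace _ _ a.snd = 0 := fun a ha => by
    rw [← Subalgebra.mem_toSubmodule, Algebra.adjoin_eq_span, ← MonoidHom.coe_mrange,
      Submonoid.closure_eq] at ha
    induction ha using Submodule.span_induction with
    | mem x hx => obtain ⟨g, rfl⟩ := hx; rw [r2]; exact htr g
    | zero => simp
    | add x y _ _ hx hy => simp [hx, hy]
    | smul c x _ hx => simp [hx]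
  have mem : ∀ g, ρ' g ∈ Algebra.adjoin (ZMod p) (Set.range ρ') := fun g =>
    Algebra.subset_adjoin ⟨g, rfl⟩
  set N := ρ s - 1 with hN
  obtain ⟨f, hf⟩ := hc.exists_aeval (B := ρ t) (Commute.sub_right (by
    show _ * _ = _ * _; rw [← map_mul, ← hst, map_mul]) (Commute.one_right _))
  have e1 : ρ' s - 1 = TrivSqZeroExt.inlAlgHom (ZMod p) _ _ N :=
    TrivSqZeroExt.ext (by simp [r1, hN]) (by simp [r2, hs])
  have e2 : ρ' t - aeval (ρ' s - 1) f = TrivSqZeroExt.inr (D t) := by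
    rw [e1, aeval_algHom_apply, ← hf]
    exact TrivSqZeroExt.ext (by simp [r1]) (by simp [r2])
  have ms := Subalgebra.sub_mem _ (mem s) (Subalgebra.one_mem _)
  have key2 : ∀ a b : X, ∀ i : ℕ, trace _ _ (D t * (ρ a * N ^ i * ρ b)) = 0 := fun a b i => by
    have := key _ (Subalgebra.mul_mem _ (Subalgebra.sub_mem _ (mem t)
      (Polynomial.aeval_mem_adjoin_singleton _ _ (p := f) |> Algebra.adjoin_le
        (Set.singleton_subset_iff.2 ms)))
      (Subalgebra.mul_mem _ (Subalgebra.mul_mem _ (mem a) (Subalgebra.pow_mem _ ms i)) (mem b)))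
    rw [e2, DualNumber.snd_mul] at this
    simpa [r1] using this
  rcases subsingleton_or_nontrivial V with hV | hV
  · exact Subsingleton.elim _ _
  obtain ⟨m, rfl⟩ : ∃ m, w = m + 1 := Nat.exists_eq_succ_of_ne_zero (by
    rintro rfl; exact one_ne_zero ((hc.nil 0).2 le_rfl))
  have hv₁ : (N ^ m) v₀ ≠ 0 := fun e => hc.not_mem_range (j := m) (by omega)
    (e ▸ Submodule.zero_mem _)
  obtain ⟨φ, hφ⟩ := Module.Projective.exists_dual_eq_one (ZMod p) hv₁
  have e3 : N ^ m = (φ ∘ₗ N ^ m).smulRight ((N ^ m) v₀) := LinearMap.ext fun v => by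
    obtain ⟨c, u, hu⟩ := hc.exists_smul (j := m) ⟨v, rfl⟩
    rw [(hc.nil _).2 le_rfl, LinearMap.zero_apply, eq_comm, sub_eq_zero] at hu
    simp [hu, hφ]
  have key3 : ∀ a b : X, φ ((N ^ m) (ρ b (D t (ρ a ((N ^ m) v₀))))) = 0 := fun a b => by
    have := key2 a b m
    rw [← mul_assoc, trace_mul_comm, ← mul_assoc, ← mul_assoc, e3,
      show ρ b * D t * ρ a * (φ ∘ₗ N ^ m).smulRight ((N ^ m) v₀) = (φ ∘ₗ N ^ m).smulRight
        ((ρ b * D t * ρ a) ((N ^ m) v₀)) from LinearMap.ext fun v => by simp,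
      trace_smulRight] at this
    exact this
  have inv : ∀ (ψ : V →ₗ[ZMod p] V), ∀ g, ∀ v ∈ ⨅ b, ker (ψ ∘ₗ ρ b), ρ g v ∈ ⨅ b, ker (ψ ∘ₗ ρ b) := fun ψ g v hv => by
    simp only [Submodule.mem_iInf, mem_ker, comp_apply] at hv ⊢
    intro b; rw [← Module.End.mul_apply (ρ b), ← map_mul]; exact hv _
  have k1 : ∀ v, (∀ b, φ ((N ^ m) (ρ b v)) = 0) → v = 0 := fun v hv => by
    rcases irr _ (inv (N ^ m)) with e | e
    · rw [← Submodule.mem_bot (ZMod p), ← e, e3]; simp [hv]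
    · have : v₀ ∈ ⨅ b, ker ((N ^ m) ∘ₗ ρ b) := e ▸ Submodule.mem_top
      have := (Submodule.mem_iInf _).1 this 1
      simp [hv₁] at this
  rcases irr _ (inv (D t)) with e | e
  · refine absurd ?_ hv₁
    rw [← Submodule.mem_bot (ZMod p), ← e]
    simpa using fun a => k1 _ (key3 a)
  · ext v
    have : v ∈ ⨅ b, ker (D t ∘ₗ ρ b) := e ▸ Submodule.mem_top
    simpa using (Submodule.mem_iInf _).1 this 1

end Tr

section Cor

variable {X R : Type*} [Group X] [Finite X] [Ring R] [Algebra (ZMod p) R] {P H : Subgroup X}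

/-- The corestricted derivation with weights `χ`. -/
noncomputable def corD (ρ : X →* R) (σ : X ⧸ P → X) (lam : X → ZMod p) (M : R)
    (χ : X ⧸ P → ZMod p) (g : X) : R :=
  ρ g * ∑ᶠ ω, (χ ω * lam ((σ (g • ω))⁻¹ * g * σ ω)) • (ρ (σ ω) * M * ρ (σ ω)⁻¹)

omit [Finite X] in
theorem sec_mem {σ : X ⧸ P → X} (hσ : ∀ ω, (σ ω : X ⧸ P) = ω) (g : X) (ω : X ⧸ P) :
    (σ (g • ω))⁻¹ * g * σ ω ∈ P := by
  rw [mul_assoc, ← QuotientGroup.eq, hσ, ← smul_eq_mul, ← Quotient.smul_coe, hσ]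

theorem corD_mul {ρ : X →* R} {σ : X ⧸ P → X} (hσ : ∀ ω, (σ ω : X ⧸ P) = ω) {lam : X → ZMod p}
    (hl : ∀ u ∈ P, ∀ u' ∈ P, lam (u * u') = lam u + lam u') {M : R}
    (hM : ∀ u ∈ P, ρ u * M = M * ρ u) {χ : X ⧸ P → ZMod p} (g : X) {g' : X}
    (hχ : ∀ ω, χ (g' • ω) = χ ω) :
    corD ρ σ lam M χ (g * g') = corD ρ σ lam M χ g * ρ g' + ρ g * corD ρ σ lam M χ g' := by
  have := Fintype.ofFinite (X ⧸ P)
  simp only [corD, finsum_eq_sum_of_fintype]
  rw [map_mul, mul_assoc, mul_assoc, ← mul_add]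
  congr 1
  rw [Finset.mul_sum, Finset.mul_sum, Finset.sum_mul,
    ← Equiv.sum_comp (MulAction.toPerm g') (fun ω => _ * ρ g'), ← Finset.sum_add_distrib]
  refine Finset.sum_congr rfl fun ω _ => ?_
  have e : ρ (σ (g' • ω)) * M * ρ (σ (g' • ω))⁻¹ * ρ g' = ρ g' * (ρ (σ ω) * M * ρ (σ ω)⁻¹) := by
    have h1 := hM _ (sec_mem hσ g' ω)
    calc _ = ρ (σ (g' • ω)) * (M * ρ ((σ (g' • ω))⁻¹ * g' * σ ω)) * ρ (σ ω)⁻¹ := by
          simp only [mul_assoc, ← map_mul, mul_inv_cancel, mul_one]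
      _ = _ := by
          rw [← h1]
          simp only [← mul_assoc, ← map_mul, mul_inv_cancel, one_mul]
  rw [toPerm_apply, smul_mul_assoc, e, mul_smul_comm, mul_smul_comm, ← add_smul, hχ, ← mul_add,
    ← hl _ (sec_mem hσ g _) _ (sec_mem hσ g' ω), mul_smul g g']
  congr 3; group

theorem corD_add (ρ : X →* R) (σ : X ⧸ P → X) (lam : X → ZMod p) (M : R)
    (χ χ' : X ⧸ P → ZMod p) (g : X) :
    corD ρ σ lam M (fun ω => χ ω + χ' ω) g = corD ρ σ lam M χ g + corD ρ σ lam M χ' g := by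
  have := Fintype.ofFinite (X ⧸ P)
  simp only [corD, finsum_eq_sum_of_fintype, add_mul, add_smul, Finset.sum_add_distrib, mul_add]

/-- A derivation vanishing on a subgroup of index prime to `p` is inner. -/
theorem exists_inner {ρ : X →* R} {σ : X ⧸ P → X} (hσ : ∀ ω, (σ ω : X ⧸ P) = ω) (hPH : P ≤ H)
    {E : X → R} (hE : ∀ x ∈ H, ∀ y ∈ H, E (x * y) = E x * ρ y + ρ x * E y)
    (h0 : ∀ u ∈ P, E u = 0) [Fintype (X ⧸ P)] [DecidablePred (· ∈ H)] :
    ∃ B : R, ∀ x ∈ H, (∑ ω : X ⧸ P, if ω.out ∈ H then (1 : ZMod p) else 0) • E x =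
      B * ρ x - ρ x * B := by
  refine ⟨∑ ω : X ⧸ P, if ω.out ∈ H then E (σ ω) * ρ (σ ω)⁻¹ else 0, fun x hx => ?_⟩
  rw [Finset.sum_smul, Finset.sum_mul, Finset.mul_sum,
    ← Equiv.sum_comp (MulAction.toPerm x) (fun ω => _ * ρ x), ← Finset.sum_sub_distrib]
  refine Finset.sum_congr rfl fun ω _ => ?_
  rw [toPerm_apply]
  by_cases h : ω.out ∈ H
  · have h' := (smul_out_mem_iff hPH hx ω).2 h
    rw [if_pos h, if_pos h, if_pos h', one_smul]
    have m1 := (out_mem_iff hPH (hσ ω)).1 h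
    have m2 := (out_mem_iff hPH (hσ _)).1 h'
    have e1 := hE _ m2 _ (hPH (sec_mem hσ x ω))
    rw [h0 _ (sec_mem hσ x ω), mul_zero, add_zero, ← mul_assoc, ← mul_assoc, mul_inv_cancel,
      one_mul, hE x hx _ m1] at e1
    have e2 := congrArg (· * ρ (σ ω)⁻¹) e1
    simp only [add_mul, mul_assoc, ← map_mul, mul_inv_cancel, map_one, mul_one] at e2
    rw [mul_assoc, ← map_mul, ← e2, add_sub_cancel_right]
  · rw [if_neg h, if_neg h, if_neg (mt (smul_out_mem_iff hPH hx ω).1 h)]; simp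

omit [Algebra (ZMod p) R] in
theorem sum_in_ne_zero (hP : SylowIn p P ⊤) (hPH : P ≤ H)
    (hTI : ∀ u ∈ P, u ≠ 1 → ∀ g, g⁻¹ * u * g ∈ P → g ∈ H) (hne : P ≠ ⊥)
    [Fintype (X ⧸ P)] [DecidablePred (· ∈ H)] :
    (∑ ω : X ⧸ P, if ω.out ∈ H then (1 : ZMod p) else 0) ≠ 0 := fun e => by
  have h1 := H1.card_dvd_ncard_of_free P {ω : X ⧸ P | ω.out ∉ H}
    (fun k hk y hy => mt (smul_out_mem_iff hPH (hPH hk) y).1 hy)
    fun k hk y hy h => free_out hTI hk hy h
  have h2 : p ∣ Nat.card P := by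
    obtain ⟨n, hn⟩ := hP.isPGroup.exists_card_eq
    rw [hn]; refine dvd_pow_self p ?_
    rintro rfl; exact hne (card_eq_one.1 hn)
  have h3 := hP.not_dvd_relIndex
  rw [relIndex_top_right, Subgroup.index, Nat.card_eq_fintype_card] at h3
  refine h3 ((ZMod.natCast_eq_zero_iff _ p).1 ?_)
  have h4 := (ZMod.natCast_eq_zero_iff _ p).2 (h2.trans h1)
  rw [Finset.sum_boole] at e
  rw [← Finset.card_univ, ← Finset.card_filter_add_card_filter_not (fun ω : X ⧸ P => ω.out ∈ H),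
    Nat.cast_add, e, zero_add, ← h4, Set.ncard_eq_toFinset_card', Set.toFinset_setOf]

end Cor

variable {X : Type*} [Group X] [Finite X] {P H : Subgroup X}

theorem simple_case {V : Type*} [AddCommGroup V] [Module (ZMod p) V] [Finite V] (hp2 : p ≠ 2)
    (ρ : X →* Module.End (ZMod p) V) (hP : SylowIn p P ⊤) (hPH : P ≤ H)
    (hTI : ∀ u ∈ P, u ≠ 1 → ∀ g, g⁻¹ * u * g ∈ P → g ∈ H) {t : X} (ht : t ∈ P) (htp : t ^ p = 1)
    (hc : ∀ u ∈ P, u * t = t * u) (hH : ∀ y ∈ H, y * t * y⁻¹ ∈ zpowers t) {lam : X → ZMod p}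
    (hl : ∀ u ∈ P, ∀ u' ∈ P, lam (u * u') = lam u + lam u') (hlt : lam t = 1)
    {s₀ : X} (hs₀ : s₀ ∈ P) (hcyc : ∀ j : ℕ, ∃ v₀ w, Cyc (ρ (s₀ * t ^ j) - 1) v₀ w)
    (irr : ∀ U : Submodule (ZMod p) V, (∀ g, ∀ v ∈ U, ρ g v ∈ U) → U = ⊥ ∨ U = ⊤) : ρ t = 1 := by
  classical
  have := Fintype.ofFinite (X ⧸ P)
  rcases subsingleton_or_nontrivial V with hV | hV
  · exact Subsingleton.elim _ _
  have : CharP (Module.End (ZMod p) V) p := (CharP.charP_iff_prime_eq_zero hp.out).2 natCast_end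
  have hl1 : lam 1 = 0 := by simpa using hl 1 P.one_mem 1 P.one_mem
  have ht1 : t ≠ 1 := fun e => one_ne_zero (by rw [← hlt, e, hl1])
  have hlp : ∀ n : ℕ, lam (t ^ n) = n := fun n => by
    induction n with
    | zero => simp [hl1]
    | succ n ih => rw [pow_succ, hl _ (P.pow_mem ht n) _ ht, ih, hlt]; push_cast; rfl
  obtain ⟨σ, hσ, hσ'⟩ := exists_section hPH hTI
  set M := logM p ρ t with hMdef
  have hHj : ∀ y ∈ H, ∃ j : ZMod p, j ≠ 0 ∧ y * t * y⁻¹ = t ^ j.val ∧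
      ρ y * M * ρ y⁻¹ = j • M := fun y hy => by
    obtain ⟨i, hi⟩ := hH y hy
    have e : y * t * y⁻¹ = t ^ (i : ZMod p).val := by rw [pow_val_intCast htp, ← hi]
    have h0 : (i : ZMod p) ≠ 0 := fun h0 => ht1 (by simpa [h0] using e)
    exact ⟨i, h0, e, by rw [hMdef, logM_conj, e, logM_pow ρ htp h0]⟩
  have hM : ∀ u ∈ P, ρ u * M = M * ρ u := fun u hu => by
    have := logM_conj (p := p) ρ u t
    rw [hc u hu, mul_inv_cancel_right] at this
    conv_rhs => rw [hMdef, ← this, mul_assoc, ← map_mul, inv_mul_cancel, map_one, mul_one]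
  obtain ⟨q, hq, hMq⟩ := exists_logM hp2 ρ t
  have hnil : IsNilpotent (ρ t - 1) := ⟨p, by
    rw [sub_pow_char_of_commute _ (Commute.one_right _), ← map_pow, htp, map_one, one_pow,
      sub_self]⟩
  have hMn : IsNilpotent M := by
    rw [hMdef, hMq]; exact (commute_aeval (Commute.refl _) q).isNilpotent_mul_right hnil
  have trM : ∀ x ∈ H, trace _ _ (ρ x * M) = 0 := fun x hx => by
    obtain ⟨j, -, -, hj⟩ := hHj x hx
    have e : ρ x * M = j • (M * ρ x) := by
      rw [← smul_mul_assoc, ← hj, mul_assoc, ← map_mul, inv_mul_cancel, map_one, mul_one]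
    have key : ∀ n : ℕ, ∃ c : ZMod p, (ρ x * M) ^ n = c • (ρ x ^ n * M ^ n) := fun n => by
      induction n with
      | zero => exact ⟨1, by simp⟩
      | succ n ih =>
        obtain ⟨c, hc⟩ := ih
        obtain ⟨j, hj0, -, hj⟩ := hHj (x ^ n) (H.pow_mem hx n)
        have e : M * ρ x ^ n = j⁻¹ • (ρ x ^ n * M) := by
          rw [eq_inv_smul_iff₀ hj0, ← smul_mul_assoc, ← hj, mul_assoc, ← map_pow, ← map_mul,
            inv_mul_cancel, map_one, mul_one]
        refine ⟨c * j⁻¹, ?_⟩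
        rw [pow_succ', hc, mul_smul_comm, mul_assoc, ← mul_assoc M, e, smul_mul_assoc,
          mul_smul_comm, smul_smul, mul_assoc, ← pow_succ', ← mul_assoc, ← pow_succ']
    obtain ⟨n, hn⟩ := hMn
    obtain ⟨c, hc⟩ := key n
    exact (isNilpotent_trace_of_isNilpotent ⟨n, by rw [hc, hn, mul_zero, smul_zero]⟩).eq_zero
  set χ : X ⧸ P → ZMod p := fun ω => if ω.out ∈ H then 1 else 0 with hχ
  set χ' : X ⧸ P → ZMod p := fun ω => if ω.out ∈ H then 0 else 1 with hχ'
  have hn := sum_in_ne_zero hP hPH hTI (fun e => ht1 (mem_bot.1 (e ▸ ht)))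
  have hsum : ∀ g, corD ρ σ lam M (fun _ => 1) g = corD ρ σ lam M χ g + corD ρ σ lam M χ' g :=
    fun g => by
      rw [← corD_add]; congr 1; funext ω; simp only [hχ, hχ']; split_ifs <;> simp
  have hout : ∀ u ∈ P, corD ρ σ lam M χ' u = 0 := fun u hu => by
    rw [corD, finsum_eq_zero_of_forall_eq_zero, mul_zero]
    intro ω
    by_cases h : ω.out ∈ H
    · simp [hχ', h]
    · rw [hσ' u hu ω h, mul_assoc, inv_mul_cancel, hl1, mul_zero, zero_smul]
  obtain ⟨B, hB⟩ := exists_inner (p := p) (ρ := ρ) hσ hPH (E := corD ρ σ lam M χ')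
    (fun x _ y hy => corD_mul hσ hl hM x fun ω => by simp only [hχ', smul_out_mem_iff hPH hy]) hout
  have hin : ∀ x, ∃ μ : ZMod p, corD ρ σ lam M χ x = μ • (ρ x * M) := fun x => by
    rw [corD, finsum_eq_sum_of_fintype]
    obtain ⟨μ, hμ⟩ := Submodule.mem_span_singleton.1 (Submodule.sum_mem
      (Submodule.span (ZMod p) {M}) (t := Finset.univ) (f := fun ω => (χ ω *
        lam ((σ (x • ω))⁻¹ * x * σ ω)) • (ρ (σ ω) * M * ρ (σ ω)⁻¹)) fun ω _ => by
      by_cases h : ω.out ∈ H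
      · obtain ⟨j, -, -, hj⟩ := hHj _ ((out_mem_iff hPH (hσ ω)).1 h)
        rw [hj]
        exact Submodule.smul_mem _ _ (Submodule.smul_mem _ _ (Submodule.mem_span_singleton_self M))
      · simp [hχ, h])
    exact ⟨μ, by rw [← hμ, mul_smul_comm]⟩
  set D := corD ρ σ lam M (fun _ => 1) with hDdef
  have hD : ∀ g g', D (g * g') = D g * ρ g' + ρ g * D g' := fun g g' =>
    corD_mul hσ hl hM g fun _ => rfl
  have trH : ∀ x ∈ H, trace _ _ (D x) = 0 := fun x hx => by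
    obtain ⟨μ, hμ⟩ := hin x
    have := congrArg (trace (ZMod p) V) (hB x hx)
    rw [map_sub, trace_mul_comm, sub_self, map_smul, smul_eq_mul] at this
    rw [hsum, map_add, hμ, map_smul, trM x hx, smul_zero, zero_add]
    exact (mul_eq_zero.1 this).resolve_left hn
  have htr : ∀ g, trace _ _ (D g) = 0 := fun g => by
    by_cases hd : p ∣ orderOf g
    swap
    · exact trace_deriv_of_coprime hD (pow_orderOf_eq_one g) hd
    have ho := orderOf_pow_orderOf_div (orderOf_pos g).ne' hd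
    set y := g ^ (orderOf g / p) with hy
    have hy1 : y ≠ 1 := fun e => hp.out.ne_one (by rw [← ho, e, orderOf_one])
    obtain ⟨b, -, hb⟩ := hP.exists_conj (K := zpowers y)
      (IsPGroup.of_card (n := 1) (by rw [Nat.card_zpowers, ho, pow_one])) le_top
    have := trH (b * g * b⁻¹) (hTI _ (hb y (mem_zpowers y)) (by simpa using hy1) _ (by
      rw [show (b * g * b⁻¹)⁻¹ * (b * y * b⁻¹) * (b * g * b⁻¹) = b * (g⁻¹ * (y * g)) * b⁻¹ by group,
        hy, pow_mul_comm', inv_mul_cancel_left]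
      exact hb y (mem_zpowers y)))
    rwa [hD, map_add, trace_mul_comm, trace_mul_comm _ (ρ (b * g)), add_comm, ← map_add, ← hD,
      inv_mul_cancel_left] at this
  have hDt : D t = (∑ ω : X ⧸ P, χ ω) • (ρ t * M) := by
    rw [hsum, hout t ht, add_zero, corD, finsum_eq_sum_of_fintype, ← mul_smul_comm,
      Finset.sum_smul]
    congr 1
    refine Finset.sum_congr rfl fun ω _ => ?_
    by_cases h : ω.out ∈ H
    · obtain ⟨j, -, e, hj⟩ := hHj _ (H.inv_mem ((out_mem_iff hPH (hσ ω)).1 h))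
      rw [inv_inv] at e hj
      have e2 : t • ω = ω := by
        rw [← hσ ω, Quotient.smul_coe, eq_comm, QuotientGroup.eq, smul_eq_mul, ← mul_assoc, e]
        exact P.pow_mem ht _
      rw [e2, e, hlp, ZMod.natCast_zmod_val, mul_smul, ← smul_mul_assoc j, ← mul_smul_comm j, ← hj]
      simp only [← mul_assoc, ← map_mul, mul_inv_cancel, map_one, one_mul]
      rw [mul_assoc, ← map_mul, mul_inv_cancel, map_one, mul_one]
    · simp [hχ, h]
  obtain ⟨μ, hμ⟩ := hin s₀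
  have hDj : ∀ j : ℕ, D (s₀ * t ^ j) = (μ + j * ∑ ω : X ⧸ P, χ ω) • (ρ (s₀ * t ^ j) * M) := by
    intro j
    induction j with
    | zero => simp [hsum, hout s₀ hs₀, hμ]
    | succ j ih =>
      rw [pow_succ, ← mul_assoc, hD, ih, hDt, smul_mul_assoc, mul_smul_comm, mul_assoc, ← hM t ht,
        ← add_smul, ← mul_assoc, ← map_mul]
      congr 1; push_cast; ring
  obtain ⟨v₀, w, hcy⟩ := hcyc (-μ / ∑ ω : X ⧸ P, χ ω).val
  have := eq_zero_of_deriv hD htr irr (t := t) (by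
    rw [hDj, ZMod.natCast_zmod_val, div_mul_cancel₀ _ hn, add_neg_cancel, zero_smul])
    (hc _ (P.mul_mem hs₀ (P.pow_mem ht _))) hcy
  rw [hDt, smul_eq_zero, ((Group.isUnit t).map ρ).mul_right_eq_zero, hMdef, hMq,
    (isUnit_aeval hnil hq).mul_left_eq_zero, sub_eq_zero] at this
  exact this.resolve_left hn

theorem finrank_ker_le_one_iff {V : Type*} [AddCommGroup V] [Module (ZMod p) V] [Finite V]
    (N : Module.End (ZMod p) V) : Module.finrank (ZMod p) (ker N) ≤ 1 ↔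
      ∃ v₀, ∀ v, ∃ c : ZMod p, v - c • v₀ ∈ range N := by
  have h1 := finrank_range_add_finrank_ker N
  have h2 := Submodule.finrank_quotient_add_finrank (range N)
  rw [show Module.finrank (ZMod p) (ker N) = Module.finrank (ZMod p) (V ⧸ range N) by omega,
    finrank_le_one_iff]
  constructor
  · rintro ⟨v₀, h⟩
    obtain ⟨v₀, rfl⟩ := Submodule.Quotient.mk_surjective _ v₀
    refine ⟨v₀, fun v => ?_⟩
    obtain ⟨c, hc⟩ := h (Submodule.Quotient.mk v)
    exact ⟨c, (Submodule.Quotient.eq _).1 hc.symm⟩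
  · rintro ⟨v₀, h⟩
    refine ⟨Submodule.Quotient.mk v₀, fun v => ?_⟩
    obtain ⟨v, rfl⟩ := Submodule.Quotient.mk_surjective _ v
    obtain ⟨c, hc⟩ := h v
    exact ⟨c, ((Submodule.Quotient.eq _).2 hc).symm⟩

universe u

theorem nilpotent_of_mem_normalClosure (hp2 : p ≠ 2) (hP : SylowIn p P ⊤) (hPH : P ≤ H)
    (hTI : ∀ u ∈ P, u ≠ 1 → ∀ g, g⁻¹ * u * g ∈ P → g ∈ H) {t : X} (ht : t ∈ P) (htp : t ^ p = 1)
    (hc : ∀ u ∈ P, u * t = t * u) (hH : ∀ y ∈ H, y * t * y⁻¹ ∈ zpowers t) {lam : X → ZMod p}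
    (hl : ∀ u ∈ P, ∀ u' ∈ P, lam (u * u') = lam u + lam u') (hlt : lam t = 1)
    {s₀ : X} (hs₀ : s₀ ∈ P) (hsp : ∀ j : ℕ, (s₀ * t ^ j) ^ p = 1) (n : ℕ) :
    ∀ (V : Type u) [AddCommGroup V] [Module (ZMod p) V] [Finite V]
      (ρ : X →* Module.End (ZMod p) V), Module.finrank (ZMod p) V = n →
      (∀ j : ℕ, Module.finrank (ZMod p) (ker (ρ (s₀ * t ^ j) - 1)) ≤ 1) →
      ∀ x ∈ normalClosure ({t} : Set X), IsNilpotent (ρ x - 1) := by
  induction n using Nat.strong_induction_on with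
  | _ n ih =>
  intro V _ _ _ ρ hn hk x hx
  by_cases irr : ∀ U : Submodule (ZMod p) V, (∀ g, ∀ v ∈ U, ρ g v ∈ U) → U = ⊥ ∨ U = ⊤
  · rcases subsingleton_or_nontrivial V with hV | hV
    · exact ⟨0, Subsingleton.elim _ _⟩
    have : CharP (Module.End (ZMod p) V) p := (CharP.charP_iff_prime_eq_zero hp.out).2 natCast_end
    have h1 := simple_case hp2 ρ hP hPH hTI ht htp hc hH hl hlt hs₀ (fun j => by
      obtain ⟨v₀, h⟩ := (finrank_ker_le_one_iff _).1 (hk j)
      exact ⟨v₀, exists_cyc ⟨p, by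
        rw [sub_pow_char_of_commute _ (Commute.one_right _), ← map_pow, hsp, map_one, one_pow,
          sub_self]⟩ h⟩) irr
    have h2 : normalClosure ({t} : Set X) ≤ ρ.toHomUnits.ker :=
      normalClosure_le_normal (Set.singleton_subset_iff.2 (Units.ext h1))
    exact ⟨1, by rw [pow_one, sub_eq_zero]; exact congrArg Units.val (h2 hx)⟩
  push Not at irr
  obtain ⟨U, hU, h0, h1⟩ := irr
  have hq := Submodule.finrank_quotient_add_finrank U
  have hU0 : 0 < Module.finrank (ZMod p) U := by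
    rw [Nat.pos_iff_ne_zero, Ne, Submodule.finrank_eq_zero]; exact h0
  have hU1 := Submodule.finrank_lt h1
  obtain ⟨a, ha⟩ := ih _ (hn ▸ hU1) U (Representation.subrepresentation ρ U hU) rfl (fun j => by
    refine le_trans ?_ (hk j)
    rw [← Submodule.finrank_map_subtype_eq]
    refine Submodule.finrank_mono ?_
    rintro _ ⟨v, hv, rfl⟩
    exact congrArg Subtype.val (mem_ker.1 hv)) x hx
  have : Finite (V ⧸ U) := Finite.of_surjective _ (Submodule.Quotient.mk_surjective U)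
  obtain ⟨b, hb⟩ := ih _ (by omega) (V ⧸ U) (Representation.quotient ρ U hU) rfl (fun j => by
    obtain ⟨v₀, h⟩ := (finrank_ker_le_one_iff _).1 (hk j)
    refine (finrank_ker_le_one_iff _).2 ⟨Submodule.Quotient.mk v₀, fun v => ?_⟩
    obtain ⟨v, rfl⟩ := Submodule.Quotient.mk_surjective _ v
    obtain ⟨c, u, hu⟩ := h v
    exact ⟨c, Submodule.Quotient.mk u, congrArg Submodule.Quotient.mk hu⟩) x hx
  have k1 : ∀ (i : ℕ) (v : U), (((Representation.subrepresentation ρ U hU x - 1) ^ i) v : V) =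
      ((ρ x - 1) ^ i) v := fun i => by
    induction i with
    | zero => exact fun _ => rfl
    | succ i ih => exact fun v => by rw [pow_succ, pow_succ]; exact ih _
  have k2 : ∀ (i : ℕ) (v : V), ((Representation.quotient ρ U hU x - 1) ^ i)
      (Submodule.Quotient.mk v) = Submodule.Quotient.mk (((ρ x - 1) ^ i) v) := fun i => by
    induction i with
    | zero => exact fun _ => rfl
    | succ i ih => exact fun v => by rw [pow_succ, pow_succ]; exact ih ((ρ x - 1) v)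
  refine ⟨a + b, LinearMap.ext fun v => ?_⟩
  have e := k2 b v
  rw [hb, LinearMap.zero_apply, eq_comm, Submodule.Quotient.mk_eq_zero] at e
  have e' := k1 a ⟨_, e⟩
  rw [ha] at e'
  rw [pow_add]; exact e'.symm

theorem two_case {V : Type u} [AddCommGroup V] [Module (ZMod p) V] [Finite V] (hp2 : p ≠ 2)
    (ρ : X →* Module.End (ZMod p) V) (hρ : Function.Injective ρ) (hP : SylowIn p P ⊤)
    (hE : IsEA2 p P) {s : X} (hs : s ∈ P) (hs1 : s ≠ 1) {N : Module.End (ZMod p) V}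
    (hN : ρ s = 1 + N) {v₀ : V} {w : ℕ} (hc : Cyc N v₀ w)
    (H1 : ∀ u ∈ P, ρ u v₀ - v₀ ∈ range (N ^ 1))
    (hO : ∀ K : Subgroup X, K.Normal → IsPGroup p K → K = ⊥) : False := by
  have comm : ∀ u ∈ P, ∀ u' ∈ P, u * u' = u' * u := fun u hu u' hu' =>
    congrArg Subtype.val (hE.comm ⟨u, hu⟩ ⟨u', hu'⟩)
  have hexp : ∀ u ∈ P, u ^ p = 1 := fun u hu => congrArg Subtype.val (hE.pow ⟨u, hu⟩)
  have cN : ∀ u ∈ P, Commute (ρ u - 1) N := fun u hu => by
    have : Commute (ρ u) (ρ s) := by show _ * _ = _ * _; rw [← map_mul, comm u hu s hs, map_mul]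
    simpa [hN] using (this.sub_right (Commute.one_right _)).sub_left (Commute.one_left _)
  let Q : X → ZMod p → Prop := fun u c =>
    ∃ q : (ZMod p)[X], q.coeff 0 = c ∧ ρ u = 1 + N * aeval N q
  have Qmul : ∀ {u u' c c'}, Q u c → Q u' c' → Q (u * u') (c + c') := by
    rintro u u' _ _ ⟨q, rfl, h⟩ ⟨q', rfl, h'⟩
    refine ⟨q + q' + Polynomial.X * (q * q'), by simp, ?_⟩
    have e : ∀ q : (ZMod p)[X], 1 + N * aeval N q = aeval N (1 + Polynomial.X * q) := by simp
    rw [map_mul, h, h', e, e, e, ← map_mul]; congr 1; ring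
  have Qpow : ∀ {u c}, Q u c → ∀ n : ℕ, Q (u ^ n) (n * c) := fun {u c} h n => by
    induction n with
    | zero => exact ⟨0, by simp, by simp⟩
    | succ n ih => rw [pow_succ, Nat.cast_succ, add_mul, one_mul]; exact Qmul ih h
  have Qs : Q s 1 := ⟨1, by simp, by simp [hN]⟩
  have Qex : ∀ u ∈ P, ∃ c, Q u c := fun u hu => by
    obtain ⟨v, hv⟩ := H1 u hu
    obtain ⟨q, rfl⟩ := hc.gen v
    refine ⟨_, q, rfl, ?_⟩
    have := hc.eq_zero (B := ρ u - 1 - N * aeval N q) ((cN u hu).sub_left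
      ((Commute.refl N).mul_left (commute_aeval (Commute.refl N) q).symm)) (by
        rw [pow_one] at hv; simp [hv])
    rw [sub_sub, sub_eq_zero] at this; exact this
  obtain ⟨s', hs'⟩ : ∃ s' : P, s' ∉ zpowers (⟨s, hs⟩ : P) := by
    by_contra h; push Not at h
    have := hE.index_zpowers (x := ⟨s, hs⟩) fun e => hs1 (congrArg Subtype.val e)
    rw [(eq_top_iff' _).2 h, index_top] at this
    exact hp.out.ne_one this.symm
  obtain ⟨c, hc'⟩ := Qex _ s'.2
  obtain ⟨t, ht, hts, Qt⟩ : ∃ t, ∃ ht : t ∈ P, (⟨t, ht⟩ : P) ∉ zpowers (⟨s, hs⟩ : P) ∧ Q t 0 :=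
    ⟨s' * s ^ (-c).val, P.mul_mem s'.2 (P.pow_mem hs _), fun h => hs'
      (((zpowers _).mul_mem_cancel_right (pow_mem (mem_zpowers _) (-c).val)).1 h), by
      simpa using Qmul hc' (Qpow Qs (-c).val)⟩
  have ht1 : t ≠ 1 := fun e => hts (by
    rw [show (⟨t, ht⟩ : P) = 1 from Subtype.ext e]; exact one_mem _)
  obtain ⟨e, he⟩ := hE.exists_equiv (x := ⟨s, hs⟩) (fun e => hs1 (congrArg Subtype.val e)) hts
  have Qcyc : ∀ {u c}, Q u c → c ≠ 0 → Cyc (ρ u - 1) v₀ w ∧
      ∀ v, ∃ c : ZMod p, v - c • v₀ ∈ range (ρ u - 1) := by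
    rintro u _ ⟨q, rfl, h⟩ hq
    have hu := isUnit_aeval hc.isNilpotent hq
    have nil : ∀ j, (ρ u - 1) ^ j = 0 ↔ w ≤ j := fun j => by
      rw [h, add_sub_cancel_left, (commute_aeval (Commute.refl N) q).mul_pow,
        (hu.pow j).mul_left_eq_zero, hc.nil]
    have cok : ∀ v, ∃ c : ZMod p, v - c • v₀ ∈ range (ρ u - 1) := fun v => by
      obtain ⟨c, x, hx⟩ := hc.exists_smul (j := 0) (v := v) ⟨v, rfl⟩
      obtain ⟨x, rfl⟩ := ((Module.End.isUnit_iff _).1 hu).2 x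
      exact ⟨c, x, by rw [h, add_sub_cancel_left]; simpa using hx⟩
    exact ⟨⟨exists_aeval_of_coker ⟨w, (nil w).2 le_rfl⟩ cok, nil⟩, cok⟩
  have hw : 2 ≤ w := by
    by_contra h
    exact hs1 (hρ (by rw [hN, ← pow_one N, (hc.nil 1).2 (by omega), add_zero, map_one]))
  have Qnil : ∀ {u}, Q u 0 → (ρ u - 1) ^ (w - 1) = 0 := by
    rintro u ⟨q, hq, h⟩
    rw [h, add_sub_cancel_left, ← X_mul_divX_add q, hq, map_zero, add_zero, map_mul, aeval_X,
      ← mul_assoc, ← sq, ((commute_aeval (Commute.refl N) _).pow_left 2).mul_pow, ← pow_mul,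
      (hc.nil _).2 (by omega), zero_mul]
  have memT : ∀ u ∈ P, (ρ u - 1) ^ (w - 1) = 0 → u ∈ zpowers t := fun u hu h => by
    obtain ⟨v, hv⟩ := e.surjective ⟨u, hu⟩
    have e1 : u = s ^ (v.toAdd 0).val * t ^ (v.toAdd 1).val :=
      (congrArg Subtype.val (hv.symm.trans (he v.toAdd)))
    by_cases h0 : v.toAdd 0 = 0
    · rw [e1, h0, ZMod.val_zero, pow_zero, one_mul]; exact pow_mem (mem_zpowers t) _
    · have := ((Qcyc (e1 ▸ Qmul (Qpow Qs _) (Qpow Qt _)) (by simpa using h0)).1.nil _).1 h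
      omega
  have nilT : ∀ u ∈ zpowers t, (ρ u - 1) ^ (w - 1) = 0 := fun u hu => by
    obtain ⟨n, rfl⟩ := (mem_powers_iff_mem_zpowers).2 hu
    exact Qnil (by simpa using Qpow Qt n)
  have nilC : ∀ u g, (ρ u - 1) ^ (w - 1) = 0 → (ρ (g * u * g⁻¹) - 1) ^ (w - 1) = 0 :=
    fun u g h => by
      rw [map_conj_sub, ← MonoidHom.coe_toHomUnits, ← MonoidHom.coe_toHomUnits ρ g⁻¹, map_inv,
        Units.conj_pow, h, mul_zero, zero_mul]
  have hcT : Nat.card (zpowers t) = p := by rw [Nat.card_zpowers, orderOf_eq_prime (hexp t ht) ht1]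
  have memH : ∀ g, g * t * g⁻¹ ∈ zpowers t → g ∈ normalizer (zpowers t : Set X) := fun g hg =>
    mem_normalizer_fintype (by
      rintro _ ⟨i, rfl⟩
      simp only [← conj_zpow]; exact zpow_mem hg i)
  have key := nilpotent_of_mem_normalClosure (H := normalizer (zpowers t : Set X)) hp2 hP
    (fun u hu => memH u (by rw [comm u hu t ht, mul_inv_cancel_right]; exact mem_zpowers t))
    (fun u hu hu1 g hg => by
      by_cases hr : (ρ u - 1) ^ (w - 1) = 0
      · refine (inv_mem_iff).1 (memH _ ?_)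
        have h1 := memT _ hg (by simpa using nilC u g⁻¹ hr)
        obtain ⟨i, hi⟩ : t ∈ zpowers u := by
          rw [zpowers_eq_of_card_prime hp.out hcT (memT u hu hr) hu1]; exact mem_zpowers t
        have := zpow_mem h1 i
        rwa [show g⁻¹ * u * g = g⁻¹ * u * g⁻¹⁻¹ by rw [inv_inv], conj_zpow,
          show u ^ i = t from hi] at this
      · obtain ⟨c, hQ⟩ := Qex u hu
        have hcu := (Qcyc hQ fun e => hr (Qnil (e ▸ hQ))).1
        have pol : ∀ x, x * u = u * x → ∃ f, ρ x = aeval (ρ u - 1) f := fun x hx =>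
          hcu.exists_aeval (Commute.sub_right (by
            show _ * _ = _ * _; rw [← map_mul, hx, map_mul]) (Commute.one_right _))
        obtain ⟨f, hf⟩ := pol (g * t * g⁻¹) (by
          have := comm t ht _ hg
          calc _ = g * (t * (g⁻¹ * u * g)) * g⁻¹ := by group
            _ = _ := by rw [this]; group)
        have hmem : g * t * g⁻¹ ∈ P := hP.le_of_le_normalizer (K := zpowers (g * t * g⁻¹))
          (IsPGroup.of_card (n := 1) (by
            rw [Nat.card_zpowers, pow_one, orderOf_eq_prime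
              (by rw [conj_pow, hexp t ht]; simp) (by simpa using ht1)])) le_top
          (le_normalizer_of_conj fun a ha x hx => by
            obtain ⟨f', hf'⟩ := pol a (comm a ha u hu)
            obtain ⟨i, rfl⟩ := hx
            have : Commute a (g * t * g⁻¹) := hρ (by
              rw [map_mul, map_mul ρ _ a, hf, hf', ← map_mul, ← map_mul, mul_comm])
            rw [(this.zpow_right i).eq, mul_inv_cancel_right]
            exact ⟨i, rfl⟩) (mem_zpowers _)
        exact memH g (memT _ hmem (nilC t g (nilT t (mem_zpowers t)))))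
    ht (hexp t ht) (fun u hu => comm u hu t ht)
    (fun y hy => (mem_normalizer_iff.1 hy t).1 (mem_zpowers t))
    (lam := fun u => by classical exact if h : u ∈ P then (e.symm ⟨u, h⟩).toAdd 1 else 0)
    (fun u hu u' hu' => by
      simp only [dif_pos hu, dif_pos hu', dif_pos (P.mul_mem hu hu')]
      rw [← Pi.add_apply, ← toAdd_mul, ← map_mul]; rfl)
    (by
      have : e.symm ⟨t, ht⟩ = Multiplicative.ofAdd ![0, 1] := by
        rw [MulEquiv.symm_apply_eq, he]; simp [ZMod.val_one]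
      simp only [dif_pos ht, this]; rfl)
    hs (fun j => hexp _ (P.mul_mem hs (P.pow_mem ht j))) _ V ρ rfl fun j =>
      (finrank_ker_le_one_iff _).2 ⟨v₀, (Qcyc (Qmul Qs (Qpow Qt j)) (by simp)).2⟩
  have : Nontrivial V := by
    by_contra hn
    rw [not_nontrivial_iff_subsingleton] at hn
    exact hs1 (hρ (Subsingleton.elim _ _))
  exact ht1 (mem_bot.1 (hO _ inferInstance (isPGroup_of_nilpotent hρ key) ▸
    subset_normalClosure (Set.mem_singleton t)))

end Cfsg.Agent.H3.MC
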