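import Cfsg.Agent.Lib.H3.MC4
import Cfsg.Agent.Lib.H9.McEss

/-!
# The outer automizer of a normal essential subgroup as a linear group
-/

set_option autoImplicit false

namespace Cfsg.Agent.H3.MC

open Subgroup Cfsg.Agent.H1 Cfsg.Agent.H7 Cfsg.Agent.H9 FusionSystem
open scoped commutatorElement

universe u

variable {p : ℕ} [hp : Fact p.Prime]

/-- The data of `Out_F(E)` acting on `E / Φ(E)`. -/
structure Dict (p : ℕ) [Fact p.Prime] {Ω : Type u} [Group Ω] (S E : Subgroup Ω) {X V : Type u}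
    [Group X] [AddCommGroup V] [Module (ZMod p) V] (ρ : X →* Module.End (ZMod p) V) (θ : S →* X)
    (π : Ω → V) (H : Subgroup X) : Prop where
  inj : Function.Injective ρ
  le : θ.range ≤ H
  se : ∀ x ∈ H, x ≠ 1 → x ^ p = 1 → ∀ g, g * x * g⁻¹ ∈ H → g ∈ H
  ex : ∃ g, g ∉ H
  syl : SylowIn p θ.range ⊤
  core : ∀ K : Subgroup X, K.Normal → IsPGroup p K → K = ⊥
  ker : ∀ g : S, θ g = 1 ↔ (g : Ω) ∈ E
  mul : ∀ a ∈ E, ∀ b ∈ E, π (a * b) = π a + π b
  zero : ∀ a ∈ E, π a = 0 ↔ a ∈ Phi p E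
  surj : ∀ v, ∃ a ∈ E, π a = v
  act : ∀ g : S, ∀ a ∈ E, ρ (θ g) (π a) = π (g * a * (g : Ω)⁻¹)

theorem exists_toEnd (W : Type*) [CommGroup W] [Module (ZMod p) (Additive W)] :
    ∃ e : MulAut W →* Module.End (ZMod p) (Additive W), Function.Injective e ∧
      ∀ α x, e α (Additive.ofMul x) = Additive.ofMul (α x) := by
  let e : MulAut W →* Module.End (ZMod p) (Additive W) :=
    { toFun := fun α => (MonoidHom.toAdditive (α : W →* W)).toZModLinearMap p
      map_one' := LinearMap.ext fun _ => rfl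
      map_mul' := fun _ _ => LinearMap.ext fun _ => rfl }
  exact ⟨e, fun α β hαβ => MulEquiv.ext fun x =>
    congrArg Additive.toMul (LinearMap.congr_fun hαβ (Additive.ofMul x)), fun _ _ => rfl⟩

theorem exists_dict_aux {Ω : Type u} [Group Ω] {S E : Subgroup Ω} [Finite S] {F : FusionSystem S}
    {M : Subgroup (MulAut E)} (h : EssCtx p F E M) (hn : S ≤ normalizer (E : Set Ω))
    {W : Type u} [CommGroup W] [mW : Module (ZMod p) (Additive W)] (q : E →* W)
    (hq : Function.Surjective q) (hk : ∀ x, q x = 1 ↔ x ∈ Phi p (⊤ : Subgroup E))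
    (r : F.autGroup E →* MulAut W) (hr' : ∀ α x, r α (q x) = q ((α : MulAut E) x)) :
    ∃ (X V : Type u) (_ : Group X) (_ : Finite X) (_ : AddCommGroup V) (_ : Module (ZMod p) V)
      (_ : Finite V) (ρ : X →* Module.End (ZMod p) V) (θ : S →* X) (π : Ω → V) (H : Subgroup X),
      Dict p S E ρ θ π H := by
  classical
  have := h.finite
  have : Finite W := Finite.of_surjective q hq
  let A := F.autGroup E
  obtain ⟨e, he, he'⟩ := exists_toEnd (p := p) W
  have hr : ∀ α : A, r α = 1 ↔ (α : MulAut E) ∈ Inn E := fun α => by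
    constructor
    · intro h1
      refine h.rad.mem_inn_of_chain1 h.isPGroup α.2 fun x _ => (hk _).1 ?_
      rw [map_mul, map_inv, ← hr', h1, MulAut.one_apply, inv_mul_cancel]
    · rintro ⟨g, hg⟩
      refine MulEquiv.ext fun x => ?_
      obtain ⟨x, rfl⟩ := hq x
      rw [hr', ← hg, MulAut.conj_apply, map_mul, map_mul, mul_comm (q g), map_inv,
        mul_inv_cancel_right, MulAut.one_apply]
  let f := r.rangeRestrict
  have hf : ∀ α : A, f α = 1 ↔ (α : MulAut E) ∈ Inn E := fun α => by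
    rw [← hr]; exact Subtype.ext_iff
  have hfs : Function.Surjective f := r.rangeRestrict_surjective
  have hd := h.data
  have hM : ∀ α : A, f α ∈ (M.subgroupOf A).map f ↔ (α : MulAut E) ∈ M := fun α => by
    refine ⟨fun ⟨β, hβ, e⟩ => ?_, fun hα => ⟨α, hα, rfl⟩⟩
    have : ((β⁻¹ * α : A) : MulAut E) ∈ M :=
      hd.le_M (hd.I_le ((hf _).1 (by rw [map_mul, map_inv, e, inv_mul_cancel])))
    simpa using M.mul_mem hβ this
  let κ : S →* A := (E.normalizerMonoidHom.comp (inclusion hn)).codRestrict A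
    fun g => h.conj_mem g.2 (hn g.2)
  have hκ : κ.range = (autInducedBy S E).subgroupOf A := by
    ext α
    constructor
    · rintro ⟨g, rfl⟩
      exact conjAut_mem_autInducedBy g.2 (hn g.2)
    · intro hα
      obtain ⟨g, hg, hn', e⟩ := exists_eq_conjAut hα
      exact ⟨⟨g, hg⟩, Subtype.ext e.symm⟩
  have hI : IsPGroup p (Inn E) := hd.sylow.isPGroup.to_le hd.I_le
  let π : Ω → Additive W := fun g => if h : g ∈ E then Additive.ofMul (q ⟨g, h⟩) else 0
  have hπ : ∀ a (ha : a ∈ E), π a = Additive.ofMul (q ⟨a, ha⟩) := fun a ha =>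
    dif_pos ha
  let ρ := e.comp r.range.subtype
  refine ⟨r.range, Additive W, inferInstance, inferInstance, Additive.addCommGroup, mW,
    inferInstance, ρ, f.comp κ, π, (M.subgroupOf A).map f,
    he.comp Subtype.val_injective, ?_, ?_, ?_, ?_, ?_, fun g => ?_, fun a ha b hb => ?_,
    fun a ha => ?_, fun v => ?_, fun g a ha => ?_⟩
  · rintro _ ⟨g, rfl⟩
    exact (hM _).2 (hd.le_M (conjAut_mem_autInducedBy g.2 (hn g.2)))
  · intro x hx hx1 hxp g hg
    obtain ⟨α, rfl⟩ := hfs x
    obtain ⟨β, rfl⟩ := hfs g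
    rw [← map_inv, ← map_mul, ← map_mul, hM] at hg
    rw [← map_pow, hf] at hxp
    obtain ⟨k, hk⟩ := exists_pow_eq_one hI hxp
    rw [hM] at hx ⊢
    refine hd.spe _ hx (fun e => hx1 ((hf _).2 e)) (k + 1) ?_ _ β.2 hg
    rw [pow_succ', pow_mul]; exact hk
  · obtain ⟨g, hg, hg'⟩ := hd.exists_not_mem
    exact ⟨f ⟨g, hg⟩, fun e => hg' ((hM _).1 e)⟩
  · have := hd.sylow.subgroupOf_top.map f
    rwa [← MonoidHom.range_eq_map, MonoidHom.range_eq_top.2 hfs, ← hκ, MonoidHom.map_range] at this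
  · intro K hK hKp
    have h1 : IsPGroup p (K.comap f) := hKp.comap_of_ker_isPGroup f
      ((hI.comap_subtype (K := A)).to_le fun α hα => (hf α).1 hα)
    have h2 := hd.le_of_normalIn (normalIn_map_subtype (K.comap f)) (h1.map _)
    refine eq_bot_iff.2 fun x hx => ?_
    obtain ⟨α, rfl⟩ := hfs x
    exact (hf α).2 (h2 ⟨α, hx, rfl⟩)
  · exact (hf _).trans ⟨h.mem_of_inn g.2 (hn g.2), fun hg => conjAut_mem_inn hg (hn g.2)⟩
  · rw [hπ a ha, hπ b hb, hπ _ (E.mul_mem ha hb), ← ofMul_mul, ← map_mul]; rfl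
  · rw [hπ a ha, ofMul_eq_zero, hk, ← Phi_subgroupOf, mem_subgroupOf]
  · obtain ⟨a, ha⟩ := hq v.toMul
    exact ⟨a, a.2, (hπ a a.2).trans (congrArg Additive.ofMul ha)⟩
  · rw [hπ a ha, hπ _ (H9.conj_mem_of_mem_normalizer (hn g.2) ha)]
    exact (he' _ _).trans (congrArg Additive.ofMul (hr' _ _))

theorem exists_dict {Ω : Type u} [Group Ω] {S E : Subgroup Ω} [Finite S] {F : FusionSystem S}
    {M : Subgroup (MulAut E)} (h : EssCtx p F E M) (hn : S ≤ normalizer (E : Set Ω)) :
    ∃ (X V : Type u) (_ : Group X) (_ : Finite X) (_ : AddCommGroup V) (_ : Module (ZMod p) V)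
      (_ : Finite V) (ρ : X →* Module.End (ZMod p) V) (θ : S →* X) (π : Ω → V) (H : Subgroup X),
      Dict p S E ρ θ π H := by
  classical
  have := h.finite
  let W := E ⧸ Phi p (⊤ : Subgroup E)
  have hc : ∀ a b : W, a * b = b * a := fun a b => by
    induction a using QuotientGroup.induction_on with | H a => ?_
    induction b using QuotientGroup.induction_on with | H b => ?_
    rw [← QuotientGroup.mk_mul, ← QuotientGroup.mk_mul, QuotientGroup.eq]
    have := commutator_mem_Phi (p := p) (mem_top b⁻¹) (mem_top a⁻¹)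
    simpa [commutatorElement_def, mul_assoc] using this
  let _ : CommGroup W := { (inferInstance : Group W) with mul_comm := hc }
  have hpw : ∀ x : Additive W, p • x = 0 := fun x => by
    induction x using Additive.rec with | ofMul x => ?_
    induction x using QuotientGroup.induction_on with | H a => ?_
    rw [← ofMul_pow, ← QuotientGroup.mk_pow, ofMul_eq_zero, QuotientGroup.eq_one_iff]
    exact pow_mem_Phi (mem_top a)
  let mW : Module (ZMod p) (Additive W) := AddCommGroup.zmodModule hpw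
  exact exists_dict_aux h hn (W := W) (QuotientGroup.mk' _) (QuotientGroup.mk'_surjective _)
    (fun x => QuotientGroup.eq_one_iff x)
    (quotHom (F.autGroup E).subtype (Phi p ⊤) fun α =>
      AInv.of_characteristic (F.autGroup E) (Phi p ⊤) α α.2)
    fun _ _ => rfl

end Cfsg.Agent.H3.MC
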