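import Cfsg.Agent.Lib.H3.MC5

/-!
# Normal essential subgroups in a `p`-group of maximal class
-/

set_option autoImplicit false

namespace Cfsg.Agent.H3.MC

open Subgroup Cfsg.Agent.H1 Cfsg.Agent.H7 Cfsg.Agent.H9 FusionSystem LinearMap
open scoped commutatorElement

universe u

variable {p : ℕ} [hp : Fact p.Prime] {Ω : Type u} [Group Ω] {S E : Subgroup Ω} {n a : ℕ}

local notation "L" => Subgroup.lowerCentralSeries S

theorem le_or_le_lcs [Finite S] (h : MaxCl p S n) {N : Subgroup Ω} (hN : N ≤ S)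
    (hn : S ≤ normalizer (N : Set Ω)) (m : ℕ) : N ≤ L m ∨ L m ≤ N := by
  refine or_iff_not_imp_left.2 fun h1 => ?_
  obtain ⟨x, hx, hx'⟩ := SetLike.not_le_iff_exists.1 h1
  obtain ⟨k, hk, -, h2, h3⟩ := h.exists_level (hN hx) hx'
  exact (S.lowerCentralSeries_antitone hk).trans (h.le_of_normal hn hx h2 h3)

section Dict

variable {X V : Type u} [Group X] [AddCommGroup V] [Module (ZMod p) V]
  {ρ : X →* Module.End (ZMod p) V} {θ : S →* X} {π : Ω → V} {H : Subgroup X}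

theorem Dict.one (d : Dict p S E ρ θ π H) : π 1 = 0 := (d.zero 1 E.one_mem).2 (one_mem _)

theorem Dict.inv (d : Dict p S E ρ θ π H) {x : Ω} (hx : x ∈ E) : π x⁻¹ = -π x := by
  rw [eq_neg_iff_add_eq_zero, ← d.mul _ (E.inv_mem hx) _ hx, inv_mul_cancel, d.one]

theorem Dict.zpow (d : Dict p S E ρ θ π H) {x : Ω} (hx : x ∈ E) (c : ℤ) :
    π (x ^ c) = (c : ZMod p) • π x := by
  let φ : E →* Multiplicative V := MonoidHom.mk' (fun y => Multiplicative.ofAdd (π y))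
    fun y z => congrArg Multiplicative.ofAdd (d.mul y y.2 z z.2)
  rw [Int.cast_smul_eq_zsmul]
  exact congrArg Multiplicative.toAdd (map_zpow φ ⟨x, hx⟩ c)

theorem Dict.sub (d : Dict p S E ρ θ π H) (hn : S ≤ normalizer (E : Set Ω)) (g : S) {x : Ω}
    (hx : x ∈ E) : ρ (θ g) (π x) - π x = π ⁅(g : Ω), x⁆ := by
  rw [d.act g x hx, commutatorElement_def,
    d.mul _ (H9.conj_mem_of_mem_normalizer (hn g.2) hx) _ (E.inv_mem hx), d.inv hx, sub_eq_add_neg]

theorem Dict.mem_range [Finite S] (d : Dict p S (L a) ρ θ π H) (h : MaxCl p S n) (ha : 1 ≤ a)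
    {s : Ω} (hs : Unif S n s) (j : ℕ) (v : V) :
    v ∈ range ((ρ (θ ⟨s, hs.mem⟩) - 1) ^ j) ↔ ∃ y ∈ L (a + j), π y = v := by
  have hn : S ≤ normalizer (L a : Set Ω) := fun _ => lcs_norm S a
  have hN : ∀ x ∈ L a, (ρ (θ ⟨s, hs.mem⟩) - 1) (π x) = π ⁅s, x⁆ := fun x hx => d.sub hn _ hx
  induction j generalizing v with
  | zero => simpa using d.surj v
  | succ j ih =>
    constructor
    · rintro ⟨u, rfl⟩
      obtain ⟨y, hy, e⟩ := (ih _).1 ⟨u, rfl⟩
      refine ⟨⁅s, y⁆, commutator_mem_comm (commutator_mem_lcs hy hs.mem), ?_⟩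
      rw [pow_succ', Module.End.mul_apply, ← e, hN y (lcs_anti S (by omega) hy)]
    · rintro ⟨y, hy, rfl⟩
      let K : Subgroup Ω :=
        { carrier := {x | x ∈ L a ∧ π x ∈ range ((ρ (θ ⟨s, hs.mem⟩) - 1) ^ (j + 1))}
          one_mem' := ⟨one_mem _, by rw [d.one]; exact zero_mem _⟩
          mul_mem' := fun hx hz => ⟨mul_mem hx.1 hz.1, by
            rw [d.mul _ hx.1 _ hz.1]; exact add_mem hx.2 hz.2⟩
          inv_mem' := fun hx => ⟨inv_mem hx.1, by rw [d.inv hx.1]; exact neg_mem hx.2⟩ }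
      refine (h.lcs_succ_le hs (K := K) (k := a + j) (by omega) (fun m hm x hx => ?_) hy).2
      have hx' : x ∈ L a := lcs_anti S (by omega) hx
      refine commutator_mem_comm ⟨commutator_mem_comm
        (lcs_anti S a.le_succ (commutator_mem_lcs hx' hs.mem)), ?_⟩
      rw [← hN x hx']
      exact apply_mem_range_succ ((ih _).2 ⟨x, lcs_anti S hm hx, rfl⟩)

theorem Dict.false [Finite S] [Finite X] [Finite V] (d : Dict p S (L a) ρ θ π H) (h : MaxCl p S n)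
    (h5 : 5 ≤ p) (h4 : 4 ≤ n) (ha : 1 ≤ a) (han : a + 2 ≤ n) : False := by
  have hn : S ≤ normalizer (L a : Set Ω) := fun _ => lcs_norm S a
  have hT := h.twoStep h5
  obtain ⟨s, hs⟩ := h.exists_unif h5 h4 fun k h1 h2 => hT k h1 (by omega)
  have hsg := h.not_mem_gam h4 hs
  have hR := d.mem_range h ha hs
  set N := ρ (θ ⟨s, hs.mem⟩) - 1 with hN'
  have hN : ρ (θ ⟨s, hs.mem⟩) = 1 + N := by rw [hN', add_sub_cancel]
  obtain ⟨y₀, hy₀, hy₀'⟩ := SetLike.exists_of_lt (h.lt han)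
  obtain ⟨w, hc⟩ := exists_cyc (N := N) (v₀ := π y₀) ⟨n, LinearMap.ext fun v => by
    obtain ⟨y, hy, e⟩ := (hR n _).1 ⟨v, rfl⟩
    rw [h.eq_bot (by omega), mem_bot] at hy
    rw [← e, hy, d.one, LinearMap.zero_apply]⟩ fun v => by
    obtain ⟨y, hy, rfl⟩ := d.surj v
    obtain ⟨c, hc⟩ := h.exists_cong ha hy₀ hy₀' hy
    refine ⟨c, pow_one N ▸ (hR 1 _).2 ⟨_, hc, ?_⟩⟩
    rw [d.mul _ (inv_mem (zpow_mem hy₀ c)) _ hy, d.inv (zpow_mem hy₀ c), d.zpow hy₀,
      neg_add_eq_sub]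
  have H1 : ∀ u ∈ θ.range, ∀ j, ∀ v ∈ range (N ^ j), ρ u v - v ∈ range (N ^ (j + 1)) := by
    rintro _ ⟨g, rfl⟩ j v hv
    obtain ⟨y, hy, rfl⟩ := (hR j v).1 hv
    rw [d.sub hn g (lcs_anti S (by omega) hy)]
    exact (hR _ _).2 ⟨_, commutator_mem_comm (commutator_mem_lcs hy g.2), rfl⟩
  have eq : ∀ g g' : S, θ g = θ g' ↔ (g : Ω)⁻¹ * g' ∈ L a := fun g g' => by
    rw [← inv_mul_eq_one, ← map_inv, ← map_mul, d.ker]; rfl
  rcases (by omega : a = 1 ∨ 2 ≤ a) with rfl | ha2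
  · refine two_case (by omega) ρ d.inj d.syl ⟨?_, ?_, ?_⟩ ⟨_, rfl⟩
      (fun e => hs.not_mem ((d.ker _).1 e)) hN hc
      (fun u hu => H1 u hu 0 _ (by simp)) d.core
    · rintro ⟨_, g, rfl⟩ ⟨_, g', rfl⟩
      refine Subtype.ext ?_
      show θ g * θ g' = θ g' * θ g
      rw [← commutatorElement_eq_one_iff_mul_comm, ← map_commutatorElement, d.ker]
      exact commutator_mem_lcs (k := 0) g.2 g'.2
    · rintro ⟨_, g, rfl⟩
      refine Subtype.ext ?_
      show θ g ^ p = 1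
      rw [← map_pow, d.ker]
      exact h.pow_mem_one g.2
    · rw [← index_ker, ← h.relIndex_one, relIndex]
      congr 1
      ext g
      exact d.ker g
  obtain ⟨b, rfl⟩ := Nat.exists_eq_add_of_le' ha2
  have hw : ∀ j, j + 2 < w → ¬ L (b + 2 + (j + 2)) ≤ Phi p (L (b + 2)) := fun j hj e => by
    refine absurd ((hc.nil (j + 2)).1 (LinearMap.ext fun v => ?_)) (by omega)
    obtain ⟨y, hy, e'⟩ := (hR (j + 2) _).1 ⟨v, rfl⟩
    rw [← e', LinearMap.zero_apply, d.zero _ (lcs_anti S (by omega) hy)]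
    exact e hy
  have hw' : ∀ j, j + 2 < w → b + 2 + j + 4 ≤ n := fun j hj => by
    by_contra e
    exact hw j hj (h.eq_bot (k := b + 2 + (j + 2)) (by omega) ▸ bot_le)
  have hD : (L (b + 1)).relIndex (gam S ⊓ L b) = p := by
    rcases b.eq_zero_or_pos with rfl | hb
    · rw [inf_eq_left.2 (show gam S ≤ L 0 from MaxCl.gam_le)]; exact h.relIndex_one_gam h4
    · rw [inf_eq_right.2 ((S.lowerCentralSeries_antitone hb).trans MaxCl.one_le_gam)]
      exact h.relIndex_lcs hb (by omega)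
  have hD' : L (b + 1) ≤ gam S ⊓ L b := le_inf
    ((S.lowerCentralSeries_antitone (by omega)).trans MaxCl.one_le_gam)
    (S.lowerCentralSeries_antitone b.le_succ)
  obtain ⟨y, ⟨hyg, hy⟩, hy'⟩ := SetLike.not_le_iff_exists.1 fun e : gam S ⊓ L b ≤ L (b + 1) =>
    hp.out.one_lt.ne' (hD ▸ relIndex_eq_one.2 e)
  have hyS : y ∈ S := hyg.1
  have hsi : s⁻¹ ∉ gam S := fun e => hsg (inv_mem_iff.1 e)
  have hz : ⁅s⁻¹, y⁆ ∈ L (b + 1) := commutator_mem_comm (commutator_mem_lcs hy (inv_mem hs.mem))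
  have hz' : ⁅s⁻¹, y⁆ ∉ L (b + 2) := fun e => by
    rcases b.eq_zero_or_pos with rfl | hb
    · exact h.commutator_not_mem_two h4 (inv_mem hs.mem) hsi hyg hy' (commutator_mem_comm e)
    · exact hy' (h.step_gam h5 (inv_mem hs.mem) hsi hb (by omega) hy (commutator_mem_comm e))
  have hzS : ⁅s⁻¹, y⁆ ∈ S := lcs_le S _ hz
  obtain ⟨g₀, hg₀⟩ := d.ex
  have hag : L (b + 2) ≤ gam S :=
    (S.lowerCentralSeries_antitone (by omega)).trans MaxCl.one_le_gam
  refine quad_case h5 ρ d.inj (Γ := ((gam S).subgroupOf S).map θ) d.le d.se hg₀ d.syl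
    (s := θ ⟨s, hs.mem⟩) (y := θ ⟨y, hyS⟩) (z := θ ⟨_, hzS⟩) ⟨_, rfl⟩ ⟨_, rfl⟩ ⟨_, rfl⟩
    (fun e => hz' ((d.ker _).1 e)) ?_ ?_ ?_ hN hc H1 ?_ ?_ ?_
  · rw [← map_pow, d.ker]
    exact lcs_anti S (by omega) (h.pow_mem_center hs)
  · rintro _ ⟨g, rfl⟩
    rw [← commutatorElement_eq_one_iff_mul_comm, ← map_commutatorElement, d.ker]
    exact commutator_mem_comm (commutator_mem_lcs hz g.2)
  · rw [← map_inv, ← map_mul, ← map_mul, ← map_mul]
    congr 1
    ext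
    simp [commutatorElement_def, mul_assoc]
  · rintro _ - ⟨g, hg, rfl⟩ j hj v hv
    obtain ⟨x, hx, rfl⟩ := (hR j v).1 hv
    rw [d.sub hn g (lcs_anti S (by omega) hx)]
    exact (hR _ _).2 ⟨_, commutator_mem_comm (hT _ (by omega) (hw' j hj) x hx g hg), rfl⟩
  · rintro _ ⟨g, rfl⟩ hg j hj v hv h1
    obtain ⟨x, hx, rfl⟩ := (hR j v).1 hv
    have hx' : x ∈ L (b + 2) := lcs_anti S (by omega) hx
    rw [d.sub hn g hx'] at h1
    obtain ⟨x', hx1, e⟩ := (hR _ _).1 h1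
    have hx2 : x' ∈ L (b + 2) := lcs_anti S (by omega) hx1
    have hx3 : ⁅(g : Ω), x⁆ ∈ L (b + 2) :=
      commutator_mem_comm (lcs_anti S (Nat.le_succ _) (commutator_mem_lcs hx' g.2))
    have h2 : x'⁻¹ * ⁅(g : Ω), x⁆ ∈ Phi p (L (b + 2)) := by
      rw [← d.zero _ (mul_mem (inv_mem hx2) hx3), d.mul _ (inv_mem hx2) _ hx3, d.inv hx2, e,
        neg_add_cancel]
    have h3 := (le_or_le_lcs h ((Phi_le _).trans (lcs_le S _))
      (hn.trans (normalizer_le_normalizer_Phi _)) _).resolve_right (hw j hj) h2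
    have h4 : ⁅(g : Ω), x⁆ ∈ L (b + 2 + j + 2) := (mul_mem_cancel_left (inv_mem hx1)).1 h3
    exact (hR _ _).2 ⟨x, h.step_gam h5 g.2 (fun e => hg ⟨g, e, rfl⟩) (by omega) (hw' j hj) hx
      (commutator_mem_comm h4), rfl⟩
  · intro R₀ hR₀ hΓ hnorm hne
    let R := (R₀.comap θ).map S.subtype
    have hRm : ∀ g : S, (g : Ω) ∈ R ↔ θ g ∈ R₀ := fun g =>
      mem_map_iff_mem Subtype.val_injective
    have hRS : R ≤ S := map_subtype_le _
    have : Finite R := H9.finite_of_le hRS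
    have hRn : S ≤ normalizer (R : Set Ω) := fun g hg => H9.mem_normalizer_of_conj_mem fun x hx => by
      have := hnorm _ ⟨⟨g, hg⟩, rfl⟩ _ ((hRm ⟨x, hRS hx⟩).1 hx)
      rw [← map_inv, ← map_mul, ← map_mul] at this
      exact (hRm _).2 this
    have hRg : R ≤ gam S := fun x hx => by
      obtain ⟨g, hg, e⟩ := hΓ ((hRm ⟨x, hRS hx⟩).1 hx)
      exact (mul_mem_cancel_left (inv_mem (show (g : Ω) ∈ gam S from hg))).1 (hag ((eq _ _).1 e))
    have h1 : ¬ R ≤ L (b + 1) := fun e => hne fun u hu => by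
      obtain ⟨g, rfl⟩ := hR₀ hu
      have := e ((hRm g).2 hu)
      obtain ⟨c, hc⟩ := h.exists_cong (by omega) hz hz' this
      exact ⟨c, (map_zpow θ _ c).symm.trans ((eq _ _).2 hc)⟩
    refine (hRm ⟨y, hyS⟩).1 ?_
    rcases le_or_le_lcs h hRS hRn b with h2 | h2
    · obtain ⟨x, hx, hx'⟩ := SetLike.not_le_iff_exists.1 h1
      have h3 := sup_zpowers_eq_of_relIndex_prime hp.out hD hD' ⟨hRg hx, h2 hx⟩ hx'
      exact sup_le ((le_or_le_lcs h hRS hRn _).resolve_left h1) (zpowers_le.2 hx)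
        (h3.ge ⟨hyg, hy⟩)
    · exact h2 hy

end Dict

theorem normal_essential [Finite S] {F : FusionSystem S} (h : MaxCl p S n) (h5 : 5 ≤ p)
    (h4 : 4 ≤ n) (hF : F.IsSaturated p) (hE : F.IsEssential p E)
    (hn : S ≤ normalizer (E : Set Ω)) : E.relIndex S = p ∧ (E = gam S ∨ E = cst S (n - 3) ∨
      (n = 4 ∧ Nat.card E = p ^ 3 ∧ IsExtraspecial p E ∧ Monoid.exponent E = p)) := by
  classical
  obtain ⟨M, H⟩ := exists_essCtx h.hS hF hE
  have := H.finite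
  by_cases h1 : E ≤ L 1
  · have hex : ∃ k, ¬ E ≤ L (k + 1) := ⟨n, fun e => H.center_ne_bot
      (eq_bot_iff.2 (H.center_le.trans (h.eq_bot (k := n + 1) (by omega) ▸ e)))⟩
    obtain ⟨x, hx, hx'⟩ := SetLike.not_le_iff_exists.1 (Nat.find_spec hex)
    set a := Nat.find hex
    have ha : 1 ≤ a := Nat.pos_of_ne_zero fun e => hx' (by rw [e]; exact h1 hx)
    have h2 : E ≤ L a := by
      have := Nat.find_min hex (m := a - 1) (by omega)
      rwa [not_not, Nat.sub_add_cancel ha] at this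
    have han : a + 2 ≤ n := by
      by_contra e
      exact hx' (mem_bot.1 (h.eq_bot (k := a) (by omega) ▸ h2 hx) ▸ one_mem _)
    have e : E = L a := h2.antisymm ((h.sup_eq ha (h2 hx) hx').ge.trans
      (sup_le (h.le_of_normal hn hx (h2 hx) hx') (zpowers_le.2 hx)))
    obtain ⟨X, V, _, _, _, _, _, ρ, θ, π, K, d⟩ := exists_dict H hn
    exact (Dict.false (e ▸ d) h h5 h4 ha han).elim
  obtain ⟨x, hx, hx'⟩ := SetLike.not_le_iff_exists.1 h1
  have hi := h.relIndex_sup_zpowers (H.le hx) hx'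
  have hL : L 1 ≤ E := h.le_of_normal hn (k := 0) hx (H.le hx) hx'
  have key : ∀ K < S, L 1 ≤ K → x ∈ K → K = L 1 ⊔ zpowers x := fun K hK h1 h2 =>
    (eq_or_eq_of_relIndex_prime hp.out hi (sup_le h1 (zpowers_le.2 h2)) hK.le).resolve_right hK.ne
  have e := key E H.lt hL hx
  refine ⟨e ▸ hi, ?_⟩
  by_cases hg : x ∈ gam S
  · refine Or.inl (e.trans (key _ (lt_of_le_of_ne MaxCl.gam_le fun e' => hp.out.one_lt.ne' ?_)
      MaxCl.one_le_gam hg).symm)
    rw [← h.relIndex_gam h4, e', relIndex_self]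
  by_cases hc : x ∈ cst S (n - 3)
  · refine Or.inr (Or.inl (e.trans (key _ (h.cst_lt (by omega)) (fun g hg => ⟨lcs_le S _ hg,
      fun y hy => lcs_anti S (by omega) (commutator_mem_lcs_add hg hy)⟩) hc).symm))
  have hs : Unif S n x := ⟨H.le hx, hx', fun k hk hkn y hy h2 => by
    rcases (by omega : k + 4 ≤ n ∨ k = n - 3) with h3 | rfl
    · exact h.step_gam h5 (H.le hx) hg hk h3 hy h2
    · exact h.step_of_not_mem hk (H.le hx) hc hy h2⟩
  have hΦ : L 2 ≤ Phi p E := h.lcs_succ_le hs le_rfl fun m hm y hy =>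
    commutator_mem_Phi (hL (lcs_anti S hm hy)) hx
  obtain ⟨g, hg, hg'⟩ := SetLike.exists_of_lt H.lt
  rcases (by omega : n = 4 ∨ 5 ≤ n) with rfl | h6
  · have hcard : Nat.card E = p ^ 3 := e ▸ h.card_tower hs (k := 1) (by omega)
    rcases (H.radT hg (hn hg) hg').card_cube hcard with h2 | ⟨-, h2, h3⟩ | ⟨rfl, -⟩
    · rw [← Phi_subgroupOf, subgroupOf_eq_bot, disjoint_iff, inf_eq_left.2 (Phi_le _)] at h2
      exact (h.ne_bot (k := 2) le_rfl (eq_bot_iff.2 (h2 ▸ hΦ))).elim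
    · have : Nontrivial E := Finite.one_lt_card_iff_nontrivial.1
        (hcard ▸ Nat.one_lt_pow (by omega) hp.out.one_lt)
      exact Or.inr (Or.inr ⟨rfl, hcard, h2, (Monoid.exponent_eq_prime_iff hp.out).2 fun g hg =>
        orderOf_eq_prime (h3 g) hg⟩)
    · omega
  · have hi : AInv (F.autGroup E) ((L 1).subgroupOf E) := aInv_subgroupOf_iff.2 fun α hα y _ hy =>
      h.map_mem_of_tower (F := F) hs le_rfl h6
        (by rw [← e]; exact isIso_of_mem_autGroup H.le hα) hy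
    refine (hg' (H.mem_of_inn hg (hn hg) (H.rad.mem_inn_of_chain3 H.isPGroup (AInv.top _) hi
      (H.conj_mem hg (hn hg)) (TrivOn.top_top _)
      (trivOn_conjAut_top _ fun y hy => commutator_mem_lcs (k := 0) (H.le hy) hg) ?_))).elim
    rw [← Phi_subgroupOf]
    exact trivOn_conjAut_of_commutator _ fun y _ hy => hΦ (commutator_mem_lcs hy hg)

end Cfsg.Agent.H3.MC
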